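import Cfsg.Agent.E8A.Two.Pair
import Cfsg.Agent.E8A.Inf.Tab

/-!
# Conjugate elements of the torus of `E₈` are conjugate under the Weyl group; the norm invariant (helper44)

* `conj_N`, `cj_ind` : two coordinate vectors of the same element are congruent modulo the Weyl group;
* `nm` : the norm of a coweight; `cj_nm` : it is an invariant modulo `N`;
* `q3`, `par3` : the parallelogram law for commuting elements of order 3; `t33`;
* `five_rat'` : a rational element of order 5 has a fixed space of dimension 48 or 68.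
-/

set_option autoImplicit false
set_option maxRecDepth 100000

namespace Cfsg.Agent.E8A.Two

open CoxeterSystem Cfsg Cfsg.Lie Module
open Cfsg.Agent.ChevalleyStructure Cfsg.Agent.ChevalleyStructure.Elts Cfsg.Agent.ChevalleyStructure.CoxeterGeom
  Cfsg.Agent.ChevalleyStructure.CoxeterGeomTypes Cfsg.Agent.ChevalleyStructure.RootVec
  Cfsg.Agent.ChevalleyStructure.RootVecTab
open Cfsg.Agent.Tits.Roots Cfsg.Agent.Nodes.Reps Cfsg.Agent.Nodes.BNOf Cfsg.Agent.Nodes.RGDChev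
open Cfsg.Agent.H952.F4 (ev)
open Cfsg.Agent.H942.E8Tab (e8T)
open Cfsg.Agent.H942.CB (W8 cs8)
open Cfsg.Agent.H288.E8L (Q8 wt Rt act8 wt_inl wt_inr rt_vec vec_ne_zero exists_idx wt_inj)
open Cfsg.Agent.H944.Kac (srefl)
open Cfsg.Agent.E8A.Reg5.Cls (ex dz Cj ex_refl tb exists_tb ev_eq_dfx)
open Cfsg.Agent.FP3 (dfx)

universe u

section

variable {K : Type u} [Field K]

theorem tri {u : G8 K} (hu : u ∈ U8 K) (d : chevE8.Idx → K) (r : Fin chevE8.nroots) :
    (mx u * Matrix.diagonal d * mx u⁻¹) (Sum.inr r) (Sum.inr r) = d (Sum.inr r) := by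
  let A : Set Q8 := {a | vec chevE8 8 r ≤ a ∧ a ≠ vec chevE8 8 r}
  have hS : ∀ a ∈ Pos8, Rt a := fun a ha => ha.1
  have h1 : ∀ a, vec chevE8 8 r ≤ a → ∀ b ∈ Pos8, a + b ∈ A := by
    intro a ha b hb
    refine ⟨le_add_of_le_of_nonneg ha hb.2, fun h => hb.1.ne_zero (le_antisymm ?_ hb.2)⟩
    rw [← h] at ha
    exact (add_le_iff_nonpos_right a).1 ha
  have h2 : ∀ a ∈ A, ∀ b ∈ Pos8, a + b ∈ A := fun a ha => h1 a ha.1
  have h3 : ∀ v ∈ U8 K, act v (ee K (Sum.inr r)) - ee K (Sum.inr r) ∈ LS K A := fun v hv =>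
    sup_LS_sub (A := {vec chevE8 8 r}) hS (fun a ha => h1 a (le_of_eq (Set.mem_singleton_iff.1 ha).symm)) h2 hv
      (ee_mem_LS rfl)
  have h0 : wt (Sum.inr r) ∉ A := fun h => h.2 rfl
  obtain ⟨v, hv, e⟩ : ∃ v ∈ LS K A, act u⁻¹ (ee K (Sum.inr r)) = ee K (Sum.inr r) + v :=
    ⟨_, h3 _ (inv_mem hu), by abel⟩
  have h4 : (Matrix.diagonal d).mulVec v ∈ LS K A := fun i hi => hv i fun h => hi (by
    rw [Matrix.mulVec_diagonal, h, mul_zero])
  have h5 : (Matrix.diagonal d).mulVec (ee K (Sum.inr r)) = d (Sum.inr r) • ee K (Sum.inr r) := by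
    funext i
    rw [Matrix.mulVec_diagonal, Pi.smul_apply, smul_eq_mul]
    by_cases hi : i = Sum.inr r
    · rw [hi]
    · rw [ee_ne hi, mul_zero, mul_zero]
  rw [← mulVec_ee (mx u * Matrix.diagonal d * mx u⁻¹), ← Matrix.mulVec_mulVec, ← Matrix.mulVec_mulVec]
  change act u ((Matrix.diagonal d).mulVec (act u⁻¹ (ee K (Sum.inr r)))) (Sum.inr r) = _
  rw [e, Matrix.mulVec_add, h5, act_add, act_smul, Pi.add_apply, Pi.smul_apply, LS_zero (sup_LS hS h2 hu h4) h0,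
    add_zero, smul_eq_mul]
  have h6 := LS_zero (h3 u hu) h0
  rw [Pi.sub_apply, ee_self, sub_eq_zero] at h6
  rw [h6, mul_one]

theorem act8_inj (w : W8) {a b : Q8} (h : act8 w a = act8 w b) : a = b := by
  rw [← act8_inv_act w a, h, act8_inv_act]

/-- **conjugate diagonal matrices are conjugate under the Weyl group** -/
theorem conj_N {c : G8 K} {d d' : chevE8.Idx → K} (h : mx c * Matrix.diagonal d = Matrix.diagonal d' * mx c) :
    ∃ w : W8, ∀ r s : Fin chevE8.nroots, vec chevE8 8 s = act8 w (vec chevE8 8 r) → d' (Sum.inr s) = d (Sum.inr r) := by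
  obtain ⟨u, hu, w, n, hn, v, hv, rfl⟩ := bruhat c
  have hv' : v ∈ U8 K := RGD.Sup_mono (S' := Pos8) (fun x hx => ⟨hx.1, hx.2.1⟩) hv
  refine ⟨w, fun r s hs => ?_⟩
  have h1 : mx n * (mx v * Matrix.diagonal d * mx v⁻¹) = (mx u⁻¹ * Matrix.diagonal d' * mx u⁻¹⁻¹) * mx n := by
    rw [inv_inv]
    calc mx n * (mx v * Matrix.diagonal d * mx v⁻¹)
        = mx u⁻¹ * (mx (u * n * v) * Matrix.diagonal d) * mx v⁻¹ := by
          rw [mx_mul, mx_mul]
          simp only [← Matrix.mul_assoc]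
          rw [mx_inv_mul, Matrix.one_mul]
      _ = _ := by
          rw [h, mx_mul, mx_mul]
          simp only [Matrix.mul_assoc]
          rw [mx_mul_inv, Matrix.mul_one]
  have h2 := congrFun (congrFun h1 (Sum.inr s)) (Sum.inr r)
  rw [Matrix.mul_apply, Matrix.mul_apply, Finset.sum_eq_single (Sum.inr r), Finset.sum_eq_single (Sum.inr s), tri hv',
    tri (inv_mem hu), mul_comm] at h2
  · obtain ⟨κ, hκ, e⟩ := RepK.ee hn hs
    have h3 := congrFun e (Sum.inr s)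
    rw [act_ee, Pi.smul_apply, ee_self, smul_eq_mul, mul_one] at h3
    rw [h3] at h2
    exact (mul_right_cancel₀ hκ h2).symm
  · intro k _ hk
    by_cases h0 : mx n k (Sum.inr r) = 0
    · rw [h0, mul_zero]
    · have h3 := RepK.wt hn h0
      rw [wt_inr, ← hs] at h3
      exact absurd (wt_inj (i := Sum.inr s) h3.symm (vec_ne_zero s)).symm hk
  · intro h0
    exact absurd (Finset.mem_univ _) h0
  · intro k _ hk
    by_cases h0 : mx n (Sum.inr s) k = 0
    · rw [h0, zero_mul]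
    · have h3 := RepK.wt hn h0
      rw [wt_inr, hs] at h3
      exact absurd (wt_inj (i := Sum.inr r) (act8_inj w h3) (vec_ne_zero r)).symm hk
  · intro h0
    exact absurd (Finset.mem_univ _) h0

/-- the action of the Weyl group on the coweights -/
noncomputable def wv (w : W8) (b : Q8) : Q8 := fun i => ex b (act8 w (sr i))

theorem ex_sr (b : Q8) (i : Fin 8) : ex b (sr i) = b i := by
  rw [ex, Finset.sum_eq_single i]
  · rw [sr_self, one_mul]
  · intro k _ hk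
    rw [sr_ne hk, zero_mul]
  · intro h
    exact absurd (Finset.mem_univ _) h

theorem wv_ind {P : Q8 → Prop} (hP : ∀ y i, P y → P (srefl chevE8 8 i y)) (w : W8) : ∀ b, P b → P (wv w b) := by
  induction w using cs8.simple_induction_left with
  | one =>
    intro b hb
    have h1 : wv 1 b = b := funext fun i => by rw [wv, act8_one, ex_sr]
    rwa [h1]
  | mul_simple_left w i ih =>
    intro b hb
    have h1 : wv (cs8.simple i * w) b = wv w (srefl chevE8 8 i b) := by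
      funext j
      obtain ⟨s, hs⟩ := exists_idx ((isRoot_sr cs8 e8T.isCartan j).act w)
      have hs' : act8 w (sr j) = wt (Sum.inr s) := hs.symm
      rw [wv, wv, act8_mul, hs', ex_refl]
    rw [h1]
    exact ih _ (hP b i hb)

variable {g : G8 K} {ζ : K} {a b : Q8}

/-- **the coordinates of an element are unique up to the Weyl group** -/
theorem cj_ind {N : ℕ} (hζ : IsPrimitiveRoot ζ N) (hN : N ≠ 0) (ha : Cj g ζ a) (hb : Cj g ζ b) {P : Q8 → Prop}
    (hP : ∀ y i, P y → P (srefl chevE8 8 i y)) (h : P b) :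
    ∃ a', P a' ∧ ∀ i, ((a' i : ℤ) : ZMod N) = ((a i : ℤ) : ZMod N) := by
  obtain ⟨c, hc⟩ := ha
  obtain ⟨c', hc'⟩ := hb
  have h1 : mx (c'⁻¹ * c) * dz ζ a = dz ζ b * mx (c'⁻¹ * c) := by
    calc mx (c'⁻¹ * c) * dz ζ a = mx c'⁻¹ * (mx g * mx c') * mx c'⁻¹ * mx c := by
          rw [mx_mul, Matrix.mul_assoc, ← hc]
          simp only [Matrix.mul_assoc]
          rw [← Matrix.mul_assoc (mx c'), mx_mul_inv, Matrix.one_mul]
      _ = _ := by rw [hc', ← Matrix.mul_assoc, mx_inv_mul, Matrix.one_mul, mx_mul, Matrix.mul_assoc]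
  obtain ⟨w, hw⟩ := conj_N h1
  refine ⟨wv w b, wv_ind hP w b h, fun i => ?_⟩
  obtain ⟨r, hr⟩ := exists_idx (isRoot_sr cs8 e8T.isCartan i)
  obtain ⟨s, hs⟩ := exists_idx ((rt_vec r).act w)
  have h2 : ζ ^ ex b (vec chevE8 8 s) = ζ ^ ex a (vec chevE8 8 r) := hw r s hs
  have h3 : vec chevE8 8 s = act8 w (sr i) := by rw [← hr]; exact hs
  rw [h3, hr, ex_sr, ← div_eq_one_iff_eq (zpow_ne_zero _ (hζ.ne_zero hN)), ← zpow_sub₀ (hζ.ne_zero hN),
    hζ.zpow_eq_one_iff_dvd, ← ZMod.intCast_zmod_eq_zero_iff_dvd, Int.cast_sub, sub_eq_zero] at h2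
  exact h2

theorem cj_conj (h : Cj g ζ a) (k : G8 K) : Cj (k * g * k⁻¹) ζ a := by
  obtain ⟨c, hc⟩ := h
  refine ⟨k * c, ?_⟩
  rw [← mx_mul, show k * g * k⁻¹ * (k * c) = k * (g * c) by group, mx_mul, mx_mul, hc, mx_mul, Matrix.mul_assoc]

theorem cj_isConj (h : Cj g ζ a) {g' : G8 K} (hc : IsConj g g') : Cj g' ζ a := by
  obtain ⟨k, rfl⟩ := isConj_iff.1 hc
  exact cj_conj h k

theorem cj_sq (hζ : ζ ≠ 0) (h : Cj g ζ a) : Cj (g ^ 2) ζ (a + a) := by
  rw [sq]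
  exact h.imp fun _ hc => semi_mul hζ hc hc

end

/-! ### the norm -/

/-- the form on the coweights -/
def bw (a b : Q8) : ℤ := ∑ i, ∑ j, a i * B8 i j * b j

/-- the norm -/
def nm (a : Q8) : ℤ := bw a a

theorem B8_symm : ∀ i j, B8 i j = B8 j i := by decide

theorem bw_comm (a b : Q8) : bw a b = bw b a := by
  rw [bw, bw, Finset.sum_comm]
  exact Finset.sum_congr rfl fun i _ => Finset.sum_congr rfl fun j _ => by rw [B8_symm]; ring

theorem bw_add (a b c : Q8) : bw (a + b) c = bw a c + bw b c := by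
  simp only [bw, Pi.add_apply, add_mul, Finset.sum_add_distrib]

theorem bw_smul (m : ℤ) (a c : Q8) : bw (m • a) c = m * bw a c := by
  simp only [bw, Pi.smul_apply, smul_eq_mul, Finset.mul_sum, mul_assoc]

theorem bw_cartan (j : Fin 8) (y : Q8) : bw (cartanOf chevE8 8 j) y = y j := by
  rw [bw, Finset.sum_comm]
  have h1 : ∀ k, ∑ i, cartanOf chevE8 8 j i * B8 i k * y k = if j = k then y k else 0 := by
    intro k
    rw [← Finset.sum_mul, B8_right]
    split_ifs <;> simp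
  rw [Finset.sum_congr rfl fun k _ => h1 k, Finset.sum_ite_eq, if_pos (Finset.mem_univ _)]

theorem nm_add (a b : Q8) : nm (a + b) = nm a + 2 * bw a b + nm b := by
  rw [nm, bw_add, bw_comm a, bw_comm b, bw_add, bw_add, bw_comm b a, nm, nm]
  ring

theorem nm_smul (m : ℤ) (a : Q8) : nm (m • a) = m ^ 2 * nm a := by
  rw [nm, bw_smul, bw_comm, bw_smul, nm]
  ring

theorem nm_sub (a b : Q8) : nm (a - b) = nm a - 2 * bw a b + nm b := by
  rw [sub_eq_add_neg, ← neg_one_smul ℤ b, nm_add, nm_smul, bw_comm, bw_smul, bw_comm]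
  ring

theorem cartan_self : ∀ j : Fin 8, cartanOf chevE8 8 j j = 2 := by decide +kernel

theorem nm_srefl (y : Q8) (j : Fin 8) : nm (srefl chevE8 8 j y) = nm y := by
  have h1 : srefl chevE8 8 j y = y - y j • cartanOf chevE8 8 j := by
    funext i
    rw [srefl, Pi.sub_apply, Pi.smul_apply, smul_eq_mul, mul_comm, Int.cast_id]
  rw [h1, nm_sub, nm_smul, bw_comm, bw_smul, bw_cartan, nm, nm, bw_cartan, cartan_self]
  ring

theorem nm_congr {N : ℕ} {a b : Q8} (h : ∀ i, ((a i : ℤ) : ZMod N) = ((b i : ℤ) : ZMod N)) :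
    ((nm a : ℤ) : ZMod N) = ((nm b : ℤ) : ZMod N) := by
  unfold nm bw
  push_cast
  simp only [h]

/-- **the norm is an invariant** -/
theorem cj_nm {K : Type u} [Field K] {g : G8 K} {ζ : K} {a b : Q8} {N : ℕ} (hζ : IsPrimitiveRoot ζ N) (hN : N ≠ 0)
    (ha : Cj g ζ a) (hb : Cj g ζ b) : ((nm a : ℤ) : ZMod N) = ((nm b : ℤ) : ZMod N) := by
  obtain ⟨a', h1, h2⟩ := cj_ind hζ hN ha hb (P := fun y => nm y = nm b) (fun y i hy => (nm_srefl y i).trans hy) rfl
  rw [← nm_congr h2, h1]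

/-- the norm modulo 3 of the classes of elements of order 3 -/
def q3 (d : ℕ) : ZMod 3 := if d = 134 ∨ d = 80 then 2 else if d = 92 then 1 else 0

theorem tb_q3 : ∀ x ∈ tb 3, ((nm fun i => ((x.1.getD i 0 : ℕ) : ℤ) : ℤ) : ZMod 3) = q3 x.2 := by decide +kernel

theorem tb_q5 : ∀ x ∈ tb 5, ((nm fun i => ((x.1.getD i 0 : ℕ) : ℤ) : ℤ) : ZMod 5) = 0 →
    x.2 = 48 ∨ x.2 = 68 ∨ x.2 = 248 := by decide +kernel

section

variable {F : Type u} [Field F] [Finite F]

omit [Finite F] in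
theorem ev_emb0 (x : G8 F) : ev (LK (Kb F) (emb0 x)) 1 = ev (LK F x) 1 := Inf.ev_em_one _ x

theorem cj_q3 (h3 : (3 : F) ≠ 0) {ζ : Kb F} (hζ : IsPrimitiveRoot ζ 3) {g : G8 (Kb F)} (hg : g ^ 3 = 1) {a : Q8}
    (ha : Cj g ζ a) : ((nm a : ℤ) : ZMod 3) = q3 (ev (LK (Kb F) g) 1) := by
  obtain ⟨p, _, _, hp⟩ := Inf.exists_char' (F := F) (N := 3) (by exact_mod_cast h3)
  obtain ⟨x, hx, h1, h2⟩ := exists_tb p (by decide) hp hζ hg
  rw [ev_eq_dfx, h2, cj_nm hζ (by norm_num) ha h1, tb_q3 x hx]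

/-- **the parallelogram law** over the algebraic closure -/
theorem par3K (h3 : (3 : F) ≠ 0) {x y : G8 (Kb F)} (hx : x ^ 3 = 1) (hy : y ^ 3 = 1) (hc : Commute x y) :
    q3 (ev (LK (Kb F) (x * y)) 1) + q3 (ev (LK (Kb F) (x * y⁻¹)) 1) =
      2 * q3 (ev (LK (Kb F) x) 1) + 2 * q3 (ev (LK (Kb F) y) 1) := by
  obtain ⟨ζ, hζ⟩ := Inf.exists_root (F := F) (N := 3) (by exact_mod_cast h3)
  obtain ⟨s, b, -, h⟩ := pair_kac Nat.prime_three (by exact_mod_cast h3) hζ hx hy hc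
  have h0 := hζ.ne_zero (by norm_num)
  rw [← cj_q3 h3 hζ hx h.left, ← cj_q3 h3 hζ hy h.right,
    ← cj_q3 h3 hζ (by rw [hc.mul_pow, hx, hy, mul_one]) (h.mul h0),
    ← cj_q3 h3 hζ (by rw [hc.inv_right.mul_pow, hx, inv_pow, hy, inv_one, mul_one]) (h.mul_inv h0), nm_add, nm_sub]
  push_cast
  ring

/-- **the parallelogram law** -/
theorem par3 (h3 : (3 : F) ≠ 0) {x y : G8 F} (hx : x ^ 3 = 1) (hy : y ^ 3 = 1) (hc : Commute x y) :
    q3 (ev (LK F (x * y)) 1) + q3 (ev (LK F (x * y⁻¹)) 1) = 2 * q3 (ev (LK F x) 1) + 2 * q3 (ev (LK F y) 1) := by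
  have h := par3K h3 (x := emb0 x) (y := emb0 y) (by rw [← map_pow, hx, map_one]) (by rw [← map_pow, hy, map_one])
    (hc.map _)
  rwa [← map_inv, ← map_mul, ← map_mul, ev_emb0, ev_emb0, ev_emb0, ev_emb0] at h

/-- **T33** -/
theorem t33 (h3 : (3 : F) ≠ 0) {x y : G8 F} (hx : x ^ 3 = 1) (hy : y ^ 3 = 1) (hc : Commute x y) (h1 : x ≠ 1)
    (h2 : x * y ≠ 1) (e1 : ev (LK F y) 1 = ev (LK F x) 1) (e2 : ev (LK F (x * y⁻¹)) 1 = ev (LK F (x * y)) 1) :
    (ev (LK F x) 1 = 92 ∧ ev (LK F (x * y)) 1 = 134) ∨ (ev (LK F x) 1 = 80 ∧ ev (LK F (x * y)) 1 = 92) ∨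
    (ev (LK F x) 1 = 92 ∧ ev (LK F (x * y)) 1 = 80) ∨ (ev (LK F x) 1 = 134 ∧ ev (LK F (x * y)) 1 = 92) ∨
    (ev (LK F x) 1 = 86 ∧ ev (LK F (x * y)) 1 = 86) := by
  have h := par3 h3 hx hy hc
  have k1 := Inf.three h3 hx h1
  have k2 := Inf.three h3 (x := x * y) (by rw [hc.mul_pow, hx, hy, mul_one]) h2
  rw [e1, e2] at h
  generalize ev (LK F x) 1 = d at *
  generalize ev (LK F (x * y)) 1 = d' at *
  rcases k1 with rfl | rfl | rfl | rfl <;> rcases k2 with rfl | rfl | rfl | rfl <;>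
    first | exact absurd h (by decide) | decide

/-- **rational elements of order 5** -/
theorem five_rat' (h5 : (5 : F) ≠ 0) {x : G8 F} (hx : x ^ 5 = 1) (h1 : x ≠ 1) (hr : IsConj x (x ^ 2)) :
    ev (LK F x) 1 = 48 ∨ ev (LK F x) 1 = 68 := by
  obtain ⟨ζ, hζ⟩ := Inf.exists_root (F := F) (N := 5) (by exact_mod_cast h5)
  obtain ⟨p, _, _, hp⟩ := Inf.exists_char' (F := F) (N := 5) (by exact_mod_cast h5)
  obtain ⟨t, ht, h2, h3⟩ := exists_tb p (by decide) hp hζ (g := emb0 x) (by rw [← map_pow, hx, map_one])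
  have h4 := cj_sq (hζ.ne_zero (by norm_num)) h2
  rw [← map_pow] at h4
  have h6 := cj_nm hζ (by norm_num) (cj_isConj h4 (emb0.map_isConj hr).symm) h2
  rw [← two_zsmul, nm_smul] at h6
  push_cast at h6
  have h7 : ∀ q : ZMod 5, 2 ^ 2 * q = q → q = 0 := by decide
  have h8 := tb_q5 t ht (h7 _ h6)
  rw [← h3, ← ev_eq_dfx, ev_emb0] at h8
  have h9 : ev (LK F x) 1 ≠ 248 := fun e => h1 (Inf.eq_one_of_ev e)
  omega

end

end Cfsg.Agent.E8A.Two
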