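import Cfsg.Agent.E8A.Inf.Pat
import Cfsg.Agent.H897.T5UntwRow
import Cfsg.Agent.H795.TorSub
import Cfsg.Agent.H944.TorAnyChev
import Cfsg.Agent.S1093

/-!
# PAIR: two commuting semisimple elements of `E₈(k)` lie in a common torus (helper44)

* `pair_TT` : `x ^ l = 1`, `y ^ l ^ n = 1`, `l` a prime different from the characteristic, `x`, `y` commuting;
* `Cj2 x y ζ a b` : simultaneous conjugation to `dz ζ a`, `dz ζ b`; `Cj2.left`, `Cj2.right`, `Cj2.mul`, `Cj2.mul_inv`,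
  `Cj2.refl`, `Cj2.alcove`;
* `pair` : the first element is in Kac normal form.
-/

set_option autoImplicit false
set_option maxRecDepth 100000

namespace Cfsg.Agent.E8A.Two

open CoxeterSystem Cfsg Cfsg.Lie Module
open Cfsg.Agent.ChevalleyStructure Cfsg.Agent.ChevalleyStructure.Elts Cfsg.Agent.ChevalleyStructure.CoxeterGeom
  Cfsg.Agent.ChevalleyStructure.CoxeterGeomTypes
open Cfsg.Agent.Tits.Roots Cfsg.Agent.Nodes.Reps Cfsg.Agent.Nodes.BNOf Cfsg.Agent.Nodes.RGDChev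
open Cfsg.Agent.KFacts.RgdChevCoord Cfsg.Agent.H129.TorusChar
open Cfsg.Agent.H942.E8Tab (e8T theta8 pos8)
open Cfsg.Agent.H942.CB (W8 cs8)
open Cfsg.Agent.H288.E8L (Q8 wt act8 wt_inl wt_inr)
open Cfsg.Agent.H944.Kac (srefl srefl_cast rv_srefl exists_alcove)
open Cfsg.Agent.E8A.Reg5.Cls (ex dz Cj ex_refl dz_congr zpow_sum')

universe u

theorem pgroup_pair {G : Type*} [Group G] {l n : ℕ} {x t : G} (hx : x ^ l ^ n = 1) (ht : t ^ l = 1)
    (h : Commute x t) : IsPGroup l ↥(Subgroup.closure ({x, t} : Set G)) := by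
  have key : ∀ y ∈ Subgroup.closure ({x, t} : Set G), y ^ l ^ (n + 1) = 1 ∧ Commute y x ∧ Commute y t := by
    intro y hy
    induction hy using Subgroup.closure_induction with
    | mem y hy =>
      rcases hy with rfl | rfl
      · exact ⟨by rw [pow_succ, pow_mul, hx, one_pow], Commute.refl _, h⟩
      · exact ⟨by rw [pow_succ', pow_mul, ht, one_pow], h.symm, Commute.refl _⟩
    | one => exact ⟨one_pow _, Commute.one_left _, Commute.one_left _⟩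
    | mul a b ha hb iha ihb =>
      have hab : Commute a b := by
        have h1 : Subgroup.closure ({x, t} : Set G) ≤ Subgroup.centralizer {a} := by
          rw [Subgroup.closure_le]
          rintro z (rfl | rfl)
          · exact Subgroup.mem_centralizer_singleton_iff.2 iha.2.1.symm
          · exact Subgroup.mem_centralizer_singleton_iff.2 iha.2.2.symm
        exact (Subgroup.mem_centralizer_singleton_iff.1 (h1 hb) : Commute b a).symm
      exact ⟨by rw [hab.mul_pow, iha.1, ihb.1, mul_one], iha.2.1.mul_left ihb.2.1, iha.2.2.mul_left ihb.2.2⟩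
    | inv a _ iha => exact ⟨by rw [inv_pow, iha.1, inv_one], iha.2.1.inv_left, iha.2.2.inv_left⟩
  rintro ⟨y, hy⟩
  exact ⟨n + 1, Subtype.ext (key y hy).1⟩

section

variable {F : Type u} [Field F] [Finite F]

/-- **two commuting `l`-elements, the first of order `l`, lie in a common torus** -/
theorem pair_TT {l n : ℕ} (hl : l.Prime) (hF : (l : F) ≠ 0) {x y : G8 (Kb F)} (hx : x ^ l = 1) (hy : y ^ l ^ n = 1)
    (hc : Commute x y) : ∃ z : G8 (Kb F), z * x * z⁻¹ ∈ TT chevE8 (Kb F) ∧ z * y * z⁻¹ ∈ TT chevE8 (Kb F) := by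
  obtain ⟨p, _, _, hp⟩ := Inf.exists_char' hF
  have hpp : p.Prime := Fact.out
  have : CharP (Kb F) p := charP_of_injective_algebraMap (algebraMap F (Kb F)).injective p
  have hlp : l ≠ p := (Nat.coprime_primes hl hpp).1 hp
  have hFinW : Finite CoxeterMatrix.E₈.Group := finite_W e8T CoxeterMatrix.E₈.toCoxeterSystem
  have hcard : Nat.card CoxeterMatrix.E₈.Group = 696729600 :=
    Cfsg.Agent.S1093.result (⟨8, CoxeterMatrix.E₈⟩, 696729600) (by simp)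
  have hFrm := H897.T5UntwRow.par8.frm (CoxeterMatrix.E₈.toCoxeterSystem) e8T.isCartan
    (fun i j => (H897.T5UntwRow.n8 i j).1) (fun i j => (H897.T5UntwRow.n8 i j).2)
  have hcon := H897.T5Cent.con_of_frm e8T CoxeterMatrix.E₈.toCoxeterSystem (locFinKb F) p hl hlp
    BpExc.FamInst.inv_E8 (Nat.coprime_one_left _) hFrm
  obtain ⟨g1, hg1⟩ := Cfsg.Agent.H944.TorAnyChev.exists_conj_mem_TT e8T p
    (Cfsg.Agent.H944.RootVals.hAlg_closure p F) hl.ne_zero hp hx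
  obtain ⟨t1, ht1⟩ : ∃ t1, t1 = g1 * x * g1⁻¹ := ⟨_, rfl⟩
  obtain ⟨v, hv⟩ : ∃ v, v = g1 * y * g1⁻¹ := ⟨_, rfl⟩
  rw [← ht1] at hg1
  have ht3 : t1 ^ l = 1 := by rw [ht1, conj_pow, hx, mul_one, mul_inv_cancel]
  have hv3 : v ^ l ^ n = 1 := by rw [hv, conj_pow, hy, mul_one, mul_inv_cancel]
  have hcm : v * t1 = t1 * v := by
    rw [hv, ht1]
    calc g1 * y * g1⁻¹ * (g1 * x * g1⁻¹) = g1 * (y * x) * g1⁻¹ := by group
      _ = g1 * (x * y) * g1⁻¹ := by rw [hc.eq]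
      _ = _ := by group
  obtain ⟨m, hm, s, hs, hms⟩ := H897.T5Cent.cent_form e8T CoxeterMatrix.E₈.toCoxeterSystem (locFinKb F) p hcon hg1 ht3 hcm
  have hW : ¬ l ^ (30 + 1) ∣ Nat.card CoxeterMatrix.E₈.Group := by
    rw [hcard]
    refine fun h => absurd (Nat.le_of_dvd (by norm_num) h) (not_le.2 ?_)
    exact lt_of_lt_of_le (by norm_num) (Nat.pow_le_pow_left hl.two_le 31)
  obtain ⟨g, hg⟩ := H795.TorSub.exists_toral_step e8T p (locFinKb F) hl hlp hW (Set.finite_singleton t1)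
    (by rw [Set.singleton_subset_iff]; exact hg1) hms hm hs hv3
    (Q := Subgroup.closure ({v, t1} : Set _)) (pgroup_pair hv3 ht3 hcm) le_rfl
  have e3 : ∀ w : G8 (Kb F), g * g1 * w * (g * g1)⁻¹ = g * (g1 * w * g1⁻¹) * g⁻¹ := fun w => by group
  refine ⟨g * g1, ?_, ?_⟩
  · rw [e3, ← ht1]
    exact hg _ (Subgroup.subset_closure (by simp))
  · rw [e3, ← hv]
    exact hg _ (Subgroup.subset_closure (by simp))

end

section

variable {K : Type u} [Field K]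

/-- simultaneous conjugation -/
def Cj2 (x y : G8 K) (ζ : K) (a b : Q8) : Prop :=
  ∃ c : G8 K, mx x * mx c = mx c * dz ζ a ∧ mx y * mx c = mx c * dz ζ b

variable {x y : G8 K} {ζ : K} {a b : Q8}

theorem Cj2.left (h : Cj2 x y ζ a b) : Cj x ζ a := h.imp fun _ hc => hc.1

theorem Cj2.right (h : Cj2 x y ζ a b) : Cj y ζ b := h.imp fun _ hc => hc.2

theorem Cj2.symm (h : Cj2 x y ζ a b) : Cj2 y x ζ b a := h.imp fun _ hc => hc.symm

theorem ex_add (a b w : Q8) : ex (a + b) w = ex a w + ex b w := by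
  simp only [ex, Pi.add_apply, mul_add, Finset.sum_add_distrib]

theorem ex_neg (a w : Q8) : ex (-a) w = -ex a w := by
  simp only [ex, Pi.neg_apply, mul_neg, Finset.sum_neg_distrib]

theorem ex_sub (a b w : Q8) : ex (a - b) w = ex a w - ex b w := by
  rw [sub_eq_add_neg, ex_add, ex_neg, sub_eq_add_neg]

theorem ex_smul (m : ℤ) (a w : Q8) : ex (m • a) w = m * ex a w := by
  simp only [ex, Pi.smul_apply, smul_eq_mul, Finset.mul_sum]
  exact Finset.sum_congr rfl fun i _ => by ring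

theorem dz_add (hζ : ζ ≠ 0) (a b : Q8) : dz ζ (a + b) = dz ζ a * dz ζ b := by
  rw [dz, dz, dz, Matrix.diagonal_mul_diagonal]
  congr 1
  funext j
  rw [ex_add, zpow_add₀ hζ]

theorem dz_zero : dz ζ 0 = 1 := by
  rw [dz, ← Matrix.diagonal_one]
  congr 1
  funext j
  simp [ex]

theorem semi_mul (hζ : ζ ≠ 0) {c : G8 K} (h1 : mx x * mx c = mx c * dz ζ a) (h2 : mx y * mx c = mx c * dz ζ b) :
    mx (x * y) * mx c = mx c * dz ζ (a + b) := by
  rw [mx_mul, Matrix.mul_assoc, h2, ← Matrix.mul_assoc, h1, Matrix.mul_assoc, dz_add hζ]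

theorem semi_inv (hζ : ζ ≠ 0) {c : G8 K} (h1 : mx x * mx c = mx c * dz ζ a) : mx x⁻¹ * mx c = mx c * dz ζ (-a) := by
  calc mx x⁻¹ * mx c = mx x⁻¹ * (mx c * dz ζ a) * dz ζ (-a) := by
        rw [Matrix.mul_assoc, Matrix.mul_assoc, ← dz_add hζ, add_neg_cancel, dz_zero, Matrix.mul_one]
    _ = _ := by rw [← h1, ← Matrix.mul_assoc, mx_inv_mul, Matrix.one_mul]

theorem Cj2.mul (hζ : ζ ≠ 0) (h : Cj2 x y ζ a b) : Cj (x * y) ζ (a + b) := h.imp fun _ hc => semi_mul hζ hc.1 hc.2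

theorem Cj2.inv (hζ : ζ ≠ 0) (h : Cj2 x y ζ a b) : Cj2 x y⁻¹ ζ a (-b) := h.imp fun _ hc => ⟨hc.1, semi_inv hζ hc.2⟩

theorem Cj2.mul_inv (hζ : ζ ≠ 0) (h : Cj2 x y ζ a b) : Cj (x * y⁻¹) ζ (a - b) := by
  rw [sub_eq_add_neg]
  exact (h.inv hζ).mul hζ

theorem dz_nc (a : Q8) (i : Fin 8) : dz ζ a * mx (nc e8T K i) = mx (nc e8T K i) * dz ζ (srefl chevE8 8 i a) := by
  ext s t
  rw [dz, dz, Matrix.diagonal_mul, Matrix.mul_diagonal]
  by_cases h0 : mx (nc e8T K i) s t = 0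
  · rw [h0, mul_zero, zero_mul]
  · rw [nc_wt i h0, ex_refl, mul_comm]

theorem Cj2.refl (h : Cj2 x y ζ a b) (i : Fin 8) : Cj2 x y ζ (srefl chevE8 8 i a) (srefl chevE8 8 i b) := by
  obtain ⟨c, h1, h2⟩ := h
  refine ⟨c * nc e8T K i, ?_, ?_⟩
  · rw [mx_mul, ← Matrix.mul_assoc, h1, Matrix.mul_assoc, dz_nc, Matrix.mul_assoc]
  · rw [mx_mul, ← Matrix.mul_assoc, h2, Matrix.mul_assoc, dz_nc, Matrix.mul_assoc]

theorem exists_dz {N : ℕ} (hζ : IsPrimitiveRoot ζ N) (hN : N ≠ 0) {t : G8 K} (ht : t ∈ TT chevE8 K) (hg : t ^ N = 1) :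
    ∃ a, mx t = dz ζ a := by
  have : NeZero N := ⟨hN⟩
  have h1 : ∀ i, ∃ m : ℕ, ζ ^ m = cX e8T t (sr i) := by
    intro i
    have h2 : cX e8T t (sr i) ^ N = 1 := by rw [← cX_pow e8T ht, hg, cX_one]
    obtain ⟨m, -, hm⟩ := hζ.eq_pow_of_pow_eq_one h2
    exact ⟨m, hm⟩
  choose m hm using h1
  refine ⟨fun i => m i, ?_⟩
  rw [mx_TT ht, dz]
  congr 1
  funext j
  rw [(isMC_cX e8T ht).eq_prod, ex, zpow_sum' (hζ.ne_zero hN)]
  refine Finset.prod_congr rfl fun i _ => ?_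
  rw [← hm, ← _root_.zpow_natCast, ← _root_.zpow_mul, mul_comm]

theorem cj2_of_TT {N : ℕ} (hζ : IsPrimitiveRoot ζ N) (hN : N ≠ 0) {z : G8 K} (hx : x ^ N = 1) (hy : y ^ N = 1)
    (h1 : z * x * z⁻¹ ∈ TT chevE8 K) (h2 : z * y * z⁻¹ ∈ TT chevE8 K) : ∃ a b, Cj2 x y ζ a b := by
  obtain ⟨a, ha⟩ := exists_dz hζ hN h1 (by rw [conj_pow, hx, mul_one, mul_inv_cancel])
  obtain ⟨b, hb⟩ := exists_dz hζ hN h2 (by rw [conj_pow, hy, mul_one, mul_inv_cancel])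
  refine ⟨a, b, z⁻¹, ?_, ?_⟩
  · rw [← ha, ← mx_mul, ← mx_mul]
    congr 1
    group
  · rw [← hb, ← mx_mul, ← mx_mul]
    congr 1
    group

theorem Cj2.congr {N : ℕ} (hζ : IsPrimitiveRoot ζ N) (hN : N ≠ 0) {a' b' : Q8} (h : Cj2 x y ζ a b)
    (ha : ∀ i, ((a i : ℤ) : ZMod N) = ((a' i : ℤ) : ZMod N)) (hb : ∀ i, ((b i : ℤ) : ZMod N) = ((b' i : ℤ) : ZMod N)) :
    Cj2 x y ζ a' b' := by
  obtain ⟨c, h1, h2⟩ := h
  exact ⟨c, by rw [h1, dz_congr hζ hN ha], by rw [h2, dz_congr hζ hN hb]⟩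

/-- moving the coordinates of the first element into the alcove -/
theorem Cj2.alcove {N : ℕ} (hζ : IsPrimitiveRoot ζ N) (hN : N ≠ 0) (h : Cj2 x y ζ a b) :
    ∃ (s : Fin 8 → ℕ) (b' : Q8), 2 * s 0 + 3 * s 1 + 4 * s 2 + 6 * s 3 + 5 * s 4 + 4 * s 5 + 3 * s 6 + 2 * s 7 ≤ N ∧
      Cj2 x y ζ (fun i => s i) b' := by
  obtain ⟨s, ⟨a', ha', b', hc⟩, hθ⟩ := exists_alcove e8T (N := N) (Nat.pos_of_ne_zero hN) _ _ 60 (by norm_num) theta8
    (by decide) _ pos8 (fun v => ∃ a : Q8, (fun i => ((a i : ℤ) : ZMod N)) = v ∧ ∃ b, Cj2 x y ζ a b)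
    (by
      rintro _ j ⟨a, rfl, b, hy⟩
      exact ⟨_, (srefl_cast a j).symm, _, hy.refl j⟩) ⟨a, rfl, b, h⟩
  refine ⟨s, b', ?_, hc.congr hζ hN (fun i => by rw [congrFun ha' i, Int.cast_natCast]) fun _ => rfl⟩
  simp only [Fin.sum_univ_eight, Matrix.cons_val] at hθ
  omega

end

/-- **PAIR** -/
theorem pair {F : Type u} [Field F] [Finite F] {l n : ℕ} (hl : l.Prime) (hF : (l : F) ≠ 0) {ζ : Kb F}
    (hζ : IsPrimitiveRoot ζ (l ^ (n + 1))) {x y : G8 (Kb F)} (hx : x ^ l = 1) (hy : y ^ l ^ (n + 1) = 1)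
    (hc : Commute x y) : ∃ a b, Cj2 x y ζ a b := by
  obtain ⟨z, h1, h2⟩ := pair_TT hl hF hx hy hc
  exact cj2_of_TT hζ (pow_ne_zero _ hl.ne_zero) (by rw [pow_succ', pow_mul, hx, one_pow]) hy h1 h2

/-- **PAIR** for two elements of prime order, the first one in Kac normal form -/
theorem pair_kac {F : Type u} [Field F] [Finite F] {l : ℕ} (hl : l.Prime) (hF : (l : F) ≠ 0) {ζ : Kb F}
    (hζ : IsPrimitiveRoot ζ l) {x y : G8 (Kb F)} (hx : x ^ l = 1) (hy : y ^ l = 1) (hc : Commute x y) :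
    ∃ (s : Fin 8 → ℕ) (b : Q8), 2 * s 0 + 3 * s 1 + 4 * s 2 + 6 * s 3 + 5 * s 4 + 4 * s 5 + 3 * s 6 + 2 * s 7 ≤ l ∧
      Cj2 x y ζ (fun i => s i) b := by
  obtain ⟨a, b, h⟩ := pair (n := 0) hl hF (by rwa [zero_add, pow_one]) hx (by rwa [zero_add, pow_one]) hc
  exact h.alcove hζ hl.ne_zero

end Cfsg.Agent.E8A.Two
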