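import Cfsg.Agent.E8A.Two.Mk

/-!
# The certificate in `M₁₁`: the cosets of `3²` (helper44, generated by notes/E8A/two)
-/

set_option autoImplicit false
set_option maxRecDepth 100000

namespace Cfsg.Agent.E8A.Two.Mk

open Cfsg.Agent.R2.T1.Odd Cfsg.Agent.R2.T1.Msk

/-- generators -/
def g11 : List SW := [[(0, 1), (1, 2), (2, 3), (3, 4), (4, 5), (5, 6), (6, 7), (7, 8), (8, 9), (9, 10)], [(0, 10), (10, 4), (1, 6), (6, 8), (2, 7), (7, 5)]]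

/-- cosets -/
def A11 : Dt where
  gT := [[(0, 10), (10, 4), (1, 6), (6, 8), (2, 7), (7, 5)], [(0, 1), (1, 2), (4, 8), (8, 5), (6, 7), (7, 10)]]
  zw := [[], [0], [1], [0, 0], [0, 1], [1, 1], [0, 0, 1], [0, 1, 1], [0, 0, 1, 1]]
  reps := [
    [], [(0, 3), (3, 4), (4, 6), (5, 9), (9, 10), (10, 8)],
    [(2, 6), (6, 10), (10, 7), (3, 9), (9, 4), (4, 5)], [(0, 9), (2, 8), (3, 5), (7, 10)],
    [(0, 7), (3, 10), (5, 9), (6, 8)], [(0, 8), (8, 1), (3, 5), (5, 6), (4, 9), (9, 7)],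
    [(2, 10), (3, 4), (5, 9), (6, 7)], [(0, 9), (9, 1), (1, 10), (3, 6), (6, 8), (8, 5)],
    [(0, 1), (1, 4), (4, 3), (2, 9), (9, 6), (6, 5)], [(1, 4), (4, 9), (9, 8), (2, 5), (5, 3), (3, 6)],
    [(3, 5), (5, 9), (9, 6), (4, 10), (10, 7), (7, 8)], [(0, 1), (1, 8), (8, 9), (2, 4), (4, 6), (6, 7)],
    [(0, 1), (1, 6), (3, 7), (7, 9), (4, 10), (10, 8)], [(0, 5), (1, 7), (2, 9), (4, 6)],
    [(2, 7), (7, 10), (10, 6), (3, 5), (5, 4), (4, 9)], [(1, 3), (3, 7), (2, 10), (10, 9), (4, 6), (6, 8)],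
    [(0, 2), (2, 10), (1, 5), (5, 3), (7, 8), (8, 9)], [(0, 6), (2, 5), (3, 7), (8, 10)],
    [(0, 3), (3, 6), (6, 8), (4, 10), (10, 9), (9, 7)], [(1, 8), (8, 9), (2, 3), (3, 4), (6, 10), (10, 7)],
    [(0, 3), (3, 8), (1, 2), (2, 7), (4, 6), (6, 9)], [(1, 5), (5, 10), (10, 7), (3, 4), (4, 6), (6, 9)],
    [(0, 8), (8, 10), (3, 6), (6, 7), (4, 5), (5, 9)], [(1, 8), (8, 7), (7, 9), (3, 10), (10, 5), (5, 6)],
    [(0, 2), (2, 3), (1, 7), (7, 8), (6, 9), (9, 10)], [(1, 5), (5, 9), (9, 8), (2, 3), (3, 10), (10, 7)],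
    [(2, 6), (6, 9), (9, 10), (4, 7), (7, 8), (8, 5)], [(0, 7), (7, 3), (3, 9), (1, 2), (2, 6), (6, 4)],
    [(1, 4), (4, 10), (10, 5), (2, 8), (8, 6), (6, 3)], [(1, 10), (10, 4), (2, 8), (8, 7), (3, 9), (9, 6)],
    [(2, 4), (4, 6), (6, 10), (3, 8), (8, 7), (7, 9)], [(1, 3), (3, 2), (2, 6), (5, 10), (10, 9), (9, 8)],
    [(1, 3), (3, 8), (8, 4), (2, 5), (5, 9), (9, 10)], [(2, 6), (3, 7), (4, 10), (8, 9)],
    [(1, 7), (7, 3), (3, 5), (2, 8), (8, 4), (4, 9)], [(1, 10), (10, 7), (7, 6), (3, 9), (9, 5), (5, 8)],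
    [(1, 7), (7, 6), (2, 9), (9, 4), (3, 5), (5, 10)], [(0, 4), (4, 3), (3, 7), (2, 8), (8, 9), (9, 5)],
    [(0, 3), (2, 9), (4, 7), (5, 8)], [(0, 8), (8, 6), (6, 9), (1, 4), (4, 2), (2, 3)],
    [(0, 3), (1, 8), (2, 7), (5, 6)], [(0, 7), (7, 10), (10, 9), (3, 4), (4, 5), (5, 6)],
    [(0, 6), (6, 8), (1, 2), (2, 9), (3, 10), (10, 7)], [(1, 7), (7, 9), (9, 10), (4, 6), (6, 5), (5, 8)],
    [(0, 8), (8, 3), (3, 10), (1, 6), (6, 9), (9, 7)], [(0, 10), (1, 5), (2, 3), (6, 9)],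
    [(0, 3), (3, 1), (1, 7), (2, 6), (6, 8), (8, 9)], [(1, 9), (9, 4), (2, 8), (8, 3), (5, 10), (10, 7)],
    [(1, 3), (3, 10), (2, 7), (7, 9), (4, 8), (8, 5)], [(0, 9), (9, 1), (2, 8), (8, 6), (3, 5), (5, 4)],
    [(1, 3), (3, 8), (2, 10), (10, 6), (5, 7), (7, 9)], [(1, 3), (3, 5), (5, 7), (2, 6), (6, 4), (4, 10)],
    [(0, 9), (9, 5), (5, 1), (3, 10), (10, 4), (4, 6)], [(0, 10), (10, 6), (1, 5), (5, 9), (3, 7), (7, 8)],
    [(0, 1), (1, 3), (2, 5), (5, 10), (6, 9), (9, 7)], [(0, 3), (3, 7), (7, 2), (1, 9), (9, 8), (8, 4)],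
    [(2, 10), (10, 6), (6, 4), (3, 9), (9, 7), (7, 8)], [(0, 3), (3, 4), (4, 9), (2, 8), (8, 7), (7, 6)],
    [(0, 9), (9, 4), (4, 5), (1, 2), (2, 3), (3, 6)], [(1, 10), (10, 8), (8, 5), (2, 3), (3, 9), (9, 4)],
    [(1, 5), (5, 2), (2, 6), (4, 8), (8, 10), (10, 7)], [(0, 5), (5, 3), (3, 9), (1, 10), (10, 4), (4, 7)],
    [(1, 10), (2, 6), (3, 8), (4, 5)], [(1, 7), (7, 2), (2, 4), (3, 6), (6, 5), (5, 9)],
    [(1, 3), (3, 10), (10, 2), (6, 7), (7, 8), (8, 9)], [(1, 3), (3, 6), (2, 9), (9, 5), (4, 7), (7, 8)],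
    [(0, 7), (7, 4), (4, 2), (3, 8), (8, 9), (9, 6)], [(1, 7), (7, 9), (9, 3), (2, 5), (5, 10), (10, 8)],
    [(0, 8), (8, 9), (9, 1), (2, 10), (10, 6), (6, 3)], [(1, 6), (6, 2), (2, 3), (5, 8), (8, 9), (9, 10)],
    [(1, 10), (10, 7), (7, 9), (2, 4), (4, 3), (3, 5)], [(0, 6), (6, 7), (7, 3), (1, 5), (5, 9), (9, 2)],
    [(0, 7), (7, 1), (1, 3), (2, 9), (9, 8), (8, 6)], [(0, 8), (2, 10), (5, 6), (7, 9)],
    [(1, 9), (9, 3), (3, 2), (5, 7), (7, 6), (6, 10)], [(1, 2), (2, 4), (4, 6), (5, 7), (7, 10), (10, 9)],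
    [(0, 7), (7, 9), (9, 3), (1, 10), (10, 6), (6, 5)], [(0, 10), (2, 9), (3, 6), (7, 8)],
    [(2, 4), (4, 8), (8, 5), (3, 9), (9, 6), (6, 7)], [(1, 9), (9, 10), (2, 8), (8, 5), (3, 6), (6, 4)],
    [(0, 7), (7, 3), (1, 9), (9, 6), (4, 5), (5, 8)], [(0, 6), (6, 9), (9, 2), (1, 3), (3, 8), (8, 10)],
    [(0, 4), (4, 9), (9, 8), (1, 6), (6, 7), (7, 3)], [(0, 5), (1, 6), (3, 8), (4, 7)],
    [(3, 10), (10, 9), (9, 8), (4, 6), (6, 7), (7, 5)], [(1, 3), (3, 5), (5, 9), (2, 7), (7, 6), (6, 8)],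
    [(0, 8), (8, 10), (10, 1), (3, 7), (7, 9), (9, 5)], [(2, 5), (5, 3), (3, 8), (4, 10), (10, 6), (6, 7)],
    [(0, 4), (3, 6), (5, 10), (8, 9)], [(0, 3), (3, 8), (8, 1), (2, 9), (9, 7), (7, 10)],
    [(2, 10), (10, 5), (5, 3), (4, 7), (7, 9), (9, 8)], [(0, 2), (1, 8), (4, 5), (6, 9)],
    [(0, 7), (7, 2), (1, 6), (6, 10), (3, 4), (4, 9)], [(0, 1), (1, 8), (8, 6), (2, 5), (5, 9), (9, 3)],
    [(0, 2), (2, 4), (4, 9), (1, 7), (7, 10), (10, 3)], [(0, 8), (8, 10), (10, 3), (1, 2), (2, 9), (9, 4)],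
    [(0, 2), (2, 6), (6, 9), (3, 5), (5, 10), (10, 4)], [(0, 5), (5, 9), (9, 1), (2, 3), (3, 7), (7, 4)],
    [(0, 6), (6, 1), (3, 9), (9, 7), (4, 8), (8, 10)], [(0, 9), (9, 2), (2, 5), (1, 3), (3, 7), (7, 8)],
    [(1, 4), (4, 7), (3, 6), (6, 8), (5, 9), (9, 10)], [(0, 2), (2, 9), (9, 6), (1, 10), (10, 8), (8, 3)],
    [(0, 10), (10, 9), (9, 5), (1, 3), (3, 6), (6, 7)], [(1, 9), (9, 6), (6, 10), (3, 7), (7, 4), (4, 8)],
    [(1, 8), (8, 5), (5, 9), (2, 4), (4, 10), (10, 6)], [(1, 9), (9, 3), (3, 8), (2, 7), (7, 4), (4, 5)],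
    [(0, 5), (2, 6), (4, 9), (8, 10)], [(0, 5), (5, 6), (6, 8), (1, 9), (9, 3), (3, 7)],
    [(0, 9), (9, 1), (1, 4), (2, 5), (5, 10), (10, 3)], [(1, 9), (9, 8), (2, 4), (4, 3), (6, 7), (7, 10)],
    [(2, 7), (7, 8), (8, 9), (3, 4), (4, 6), (6, 5)], [(0, 4), (4, 2), (3, 10), (10, 8), (5, 6), (6, 9)],
    [(0, 9), (9, 10), (10, 1), (2, 3), (3, 4), (4, 8)], [(0, 3), (3, 10), (10, 2), (1, 6), (6, 5), (5, 9)],
    [(1, 7), (7, 2), (3, 9), (9, 10), (5, 6), (6, 8)], [(1, 6), (6, 9), (9, 4), (2, 3), (3, 7), (7, 10)],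
    [(0, 8), (8, 2), (2, 3), (1, 9), (9, 7), (7, 5)], [(0, 10), (10, 9), (9, 6), (2, 4), (4, 3), (3, 7)],
    [(0, 4), (4, 2), (1, 5), (5, 8), (3, 9), (9, 7)], [(0, 6), (6, 9), (9, 4), (2, 8), (8, 5), (5, 3)],
    [(0, 1), (2, 9), (4, 10), (6, 8)], [(0, 4), (4, 9), (2, 7), (7, 3), (5, 10), (10, 8)],
    [(0, 5), (5, 9), (9, 2), (3, 6), (6, 8), (8, 4)], [(0, 5), (5, 4), (1, 9), (9, 3), (2, 10), (10, 7)],
    [(1, 3), (4, 8), (5, 10), (6, 7)], [(1, 9), (9, 8), (8, 5), (3, 4), (4, 7), (7, 6)],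
    [(0, 10), (1, 2), (4, 9), (6, 7)], [(1, 10), (10, 8), (3, 4), (4, 5), (6, 7), (7, 9)],
    [(1, 3), (2, 8), (4, 9), (6, 10)], [(1, 2), (2, 10), (3, 7), (7, 9), (4, 5), (5, 6)],
    [(1, 8), (8, 2), (2, 4), (3, 10), (10, 9), (9, 7)], [(0, 6), (6, 9), (1, 3), (3, 7), (2, 4), (4, 5)],
    [(0, 4), (4, 3), (3, 1), (5, 10), (10, 9), (9, 7)], [(1, 6), (2, 5), (3, 9), (4, 10)],
    [(1, 8), (8, 7), (7, 6), (2, 4), (4, 5), (5, 3)], [(0, 1), (1, 8), (2, 4), (4, 5), (3, 9), (9, 10)],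
    [(0, 3), (4, 5), (6, 10), (7, 8)], [(0, 9), (9, 2), (1, 7), (7, 5), (3, 6), (6, 10)],
    [(0, 3), (3, 8), (8, 5), (1, 9), (9, 6), (6, 2)], [(1, 3), (3, 9), (9, 10), (2, 4), (4, 7), (7, 6)],
    [(2, 10), (10, 3), (3, 7), (4, 8), (8, 6), (6, 5)], [(0, 6), (6, 4), (1, 5), (5, 7), (3, 9), (9, 8)],
    [(0, 9), (9, 7), (2, 3), (3, 4), (5, 6), (6, 8)], [(1, 3), (3, 5), (5, 8), (4, 7), (7, 10), (10, 9)],
    [(2, 8), (8, 9), (9, 4), (5, 6), (6, 7), (7, 10)], [(0, 4), (4, 3), (3, 2), (1, 7), (7, 6), (6, 9)],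
    [(1, 6), (6, 10), (10, 3), (4, 7), (7, 9), (9, 5)], [(0, 9), (9, 1), (2, 4), (4, 10), (3, 6), (6, 7)],
    [(0, 5), (5, 1), (2, 7), (7, 9), (3, 8), (8, 6)], [(1, 6), (6, 3), (3, 10), (2, 9), (9, 8), (8, 4)],
    [(0, 2), (2, 5), (3, 8), (8, 9), (4, 7), (7, 10)], [(0, 2), (2, 9), (1, 6), (6, 8), (3, 7), (7, 4)],
    [(1, 10), (2, 3), (6, 8), (7, 9)], [(1, 4), (4, 5), (2, 3), (3, 7), (6, 8), (8, 9)],
    [(1, 5), (3, 8), (4, 10), (7, 9)], [(0, 7), (7, 10), (1, 3), (3, 4), (2, 8), (8, 9)],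
    [(0, 8), (8, 6), (2, 10), (10, 5), (3, 9), (9, 4)], [(1, 9), (9, 4), (4, 6), (3, 8), (8, 10), (10, 5)],
    [(2, 9), (4, 8), (5, 7), (6, 10)], [(1, 7), (7, 2), (2, 8), (4, 5), (5, 10), (10, 6)],
    [(0, 6), (6, 4), (4, 2), (1, 9), (9, 3), (3, 5)], [(0, 1), (1, 6), (2, 3), (3, 4), (5, 10), (10, 9)],
    [(0, 1), (1, 5), (3, 9), (9, 4), (7, 8), (8, 10)], [(0, 8), (8, 1), (1, 9), (3, 4), (4, 10), (10, 7)],
    [(1, 7), (7, 2), (2, 10), (3, 8), (8, 9), (9, 4)], [(0, 2), (1, 5), (3, 10), (4, 8)],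
    [(0, 9), (9, 10), (10, 2), (3, 7), (7, 6), (6, 8)], [(0, 5), (5, 7), (1, 6), (6, 4), (3, 10), (10, 9)],
    [(0, 1), (3, 8), (5, 6), (9, 10)], [(0, 2), (1, 3), (4, 6), (7, 8)],
    [(1, 7), (7, 10), (10, 9), (2, 8), (8, 3), (3, 6)], [(1, 10), (10, 3), (2, 9), (9, 7), (4, 5), (5, 8)],
    [(0, 6), (1, 9), (2, 8), (5, 10)], [(0, 3), (2, 10), (4, 8), (6, 9)],
    [(0, 6), (6, 3), (2, 7), (7, 5), (4, 9), (9, 8)], [(0, 4), (4, 7), (1, 6), (6, 5), (2, 3), (3, 9)],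
    [(0, 1), (2, 4), (3, 6), (5, 8)], [(0, 1), (1, 5), (5, 3), (2, 8), (8, 10), (10, 6)],
    [(0, 2), (2, 5), (1, 3), (3, 10), (4, 9), (9, 6)], [(2, 5), (5, 6), (3, 4), (4, 8), (7, 9), (9, 10)],
    [(0, 5), (1, 2), (3, 10), (7, 9)], [(0, 4), (4, 5), (5, 3), (1, 6), (6, 9), (9, 10)],
    [(0, 2), (2, 4), (3, 8), (8, 10), (5, 9), (9, 6)], [(1, 3), (2, 4), (5, 7), (8, 9)],
    [(0, 9), (9, 4), (4, 1), (3, 8), (8, 5), (5, 7)], [(1, 9), (4, 5), (6, 8), (7, 10)],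
    [(1, 6), (6, 4), (4, 7), (2, 8), (8, 9), (9, 3)], [(2, 3), (3, 8), (8, 6), (4, 7), (7, 5), (5, 9)],
    [(0, 3), (3, 10), (1, 9), (9, 8), (4, 5), (5, 6)], [(1, 4), (2, 9), (3, 8), (6, 7)],
    [(2, 7), (7, 4), (3, 6), (6, 10), (5, 9), (9, 8)], [(0, 7), (7, 5), (1, 4), (4, 6), (3, 9), (9, 10)],
    [(0, 2), (1, 10), (3, 5), (6, 7)], [(1, 2), (2, 7), (7, 5), (3, 6), (6, 4), (4, 8)],
    [(0, 6), (6, 10), (10, 9), (1, 2), (2, 5), (5, 3)], [(0, 2), (2, 10), (10, 3), (1, 9), (9, 5), (5, 6)],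
    [(0, 5), (5, 10), (10, 9), (1, 4), (4, 6), (6, 8)], [(1, 9), (2, 3), (4, 8), (5, 6)],
    [(0, 9), (9, 6), (6, 8), (1, 3), (3, 2), (2, 4)], [(0, 9), (9, 7), (1, 4), (4, 8), (3, 10), (10, 5)],
    [(0, 3), (3, 1), (1, 5), (2, 9), (9, 10), (10, 4)], [(0, 8), (8, 1), (2, 5), (5, 4), (3, 10), (10, 9)],
    [(0, 6), (6, 1), (2, 4), (4, 3), (5, 9), (9, 10)], [(1, 8), (8, 3), (3, 9), (2, 5), (5, 4), (4, 7)],
    [(1, 4), (4, 3), (3, 8), (5, 6), (6, 10), (10, 7)], [(1, 4), (4, 2), (2, 7), (3, 9), (9, 5), (5, 6)],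
    [(0, 4), (1, 6), (2, 3), (8, 10)], [(0, 2), (2, 5), (5, 3), (6, 8), (8, 7), (7, 9)],
    [(0, 7), (7, 9), (1, 8), (8, 4), (3, 5), (5, 10)], [(0, 7), (7, 3), (2, 4), (4, 9), (6, 8), (8, 10)],
    [(0, 4), (4, 1), (1, 9), (2, 3), (3, 10), (10, 5)], [(0, 10), (10, 7), (1, 4), (4, 3), (2, 9), (9, 8)],
    [(1, 2), (2, 5), (5, 6), (3, 8), (8, 9), (9, 7)], [(0, 9), (9, 8), (1, 3), (3, 10), (5, 7), (7, 6)],
    [(1, 10), (2, 8), (4, 7), (5, 9)], [(1, 10), (10, 8), (8, 9), (2, 6), (6, 5), (5, 7)],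
    [(1, 6), (6, 8), (2, 10), (10, 3), (4, 5), (5, 9)], [(0, 3), (3, 2), (2, 4), (7, 8), (8, 9), (9, 10)],
    [(1, 4), (2, 7), (3, 5), (8, 10)], [(1, 3), (3, 4), (4, 10), (5, 6), (6, 8), (8, 9)],
    [(0, 3), (3, 5), (5, 2), (6, 9), (9, 7), (7, 8)], [(1, 8), (8, 9), (9, 5), (2, 7), (7, 10), (10, 3)],
    [(0, 5), (5, 3), (2, 9), (9, 8), (4, 6), (6, 10)], [(1, 10), (10, 6), (6, 9), (3, 8), (8, 4), (4, 7)],
    [(0, 5), (2, 3), (6, 7), (8, 9)], [(0, 9), (9, 4), (4, 2), (1, 3), (3, 10), (10, 7)],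
    [(1, 2), (2, 7), (7, 4), (6, 8), (8, 9), (9, 10)], [(0, 6), (6, 9), (2, 3), (3, 10), (5, 8), (8, 7)],
    [(0, 4), (4, 6), (1, 2), (2, 3), (7, 9), (9, 10)], [(1, 3), (3, 9), (9, 7), (2, 8), (8, 10), (10, 5)],
    [(0, 3), (3, 10), (10, 9), (1, 7), (7, 8), (8, 5)], [(3, 8), (8, 9), (9, 10), (4, 5), (5, 7), (7, 6)],
    [(0, 8), (2, 4), (3, 10), (6, 7)], [(1, 9), (9, 8), (8, 2), (3, 5), (5, 4), (4, 10)],
    [(0, 3), (3, 6), (6, 10), (2, 4), (4, 9), (9, 5)], [(0, 9), (9, 5), (5, 10), (3, 4), (4, 7), (7, 8)],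
    [(1, 10), (10, 4), (4, 5), (2, 7), (7, 6), (6, 9)], [(0, 3), (3, 2), (2, 7), (4, 5), (5, 9), (9, 6)],
    [(1, 9), (9, 2), (2, 6), (3, 7), (7, 5), (5, 4)], [(1, 4), (4, 6), (6, 7), (7, 2), (2, 10), (10, 5), (5, 8), (3, 9)],
    [(0, 4), (4, 7), (7, 3), (1, 8), (8, 10), (10, 5)], [(0, 6), (6, 5), (5, 10), (1, 3), (3, 9), (9, 4)],
    [(0, 6), (6, 3), (3, 8), (1, 4), (4, 5), (5, 9)], [(1, 4), (4, 7), (7, 2), (6, 10), (10, 9), (9, 8)],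
    [(1, 4), (4, 5), (5, 10), (3, 9), (9, 8), (8, 7)], [(1, 9), (9, 5), (5, 7), (3, 10), (10, 8), (8, 4)],
    [(0, 2), (2, 1), (1, 10), (3, 4), (4, 5), (5, 9)], [(1, 6), (3, 4), (7, 8), (9, 10)],
    [(1, 3), (3, 5), (2, 9), (9, 6), (4, 8), (8, 10)], [(2, 4), (4, 7), (3, 10), (10, 6), (5, 8), (8, 9)],
    [(0, 6), (6, 9), (9, 1), (3, 5), (5, 7), (7, 10)], [(2, 8), (8, 4), (4, 6), (3, 9), (9, 5), (5, 10)],
    [(0, 1), (1, 3), (2, 6), (6, 4), (8, 9), (9, 10)], [(0, 2), (2, 10), (10, 9), (3, 8), (8, 6), (6, 7)],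
    [(0, 1), (1, 3), (3, 9), (6, 8), (8, 7), (7, 10)], [(0, 5), (5, 3), (3, 2), (1, 9), (9, 10), (10, 8)],
    [(0, 8), (8, 6), (1, 9), (9, 2), (3, 7), (7, 10)], [(0, 10), (10, 3), (3, 2), (4, 9), (9, 8), (8, 6)],
    [(0, 3), (3, 4), (4, 1), (2, 5), (5, 6), (6, 9)], [(1, 4), (4, 6), (6, 3), (7, 10), (10, 8), (8, 9)],
    [(0, 5), (1, 3), (2, 10), (6, 8)], [(0, 6), (6, 2), (3, 10), (10, 9), (4, 7), (7, 8)],
    [(1, 4), (4, 2), (2, 8), (3, 7), (7, 9), (9, 10)], [(1, 4), (4, 3), (2, 5), (5, 7), (6, 9), (9, 10)],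
    [(0, 5), (5, 3), (1, 8), (8, 6), (7, 10), (10, 9)], [(0, 6), (6, 8), (8, 9), (3, 5), (5, 4), (4, 7)],
    [(0, 2), (2, 3), (1, 6), (6, 4), (5, 9), (9, 8)], [(0, 10), (10, 9), (1, 8), (8, 3), (4, 7), (7, 6)],
    [(1, 10), (10, 2), (3, 9), (9, 7), (4, 6), (6, 5)], [(1, 7), (7, 8), (8, 4), (2, 6), (6, 10), (10, 3)],
    [(1, 7), (7, 8), (2, 4), (4, 10), (3, 9), (9, 5)], [(1, 8), (2, 9), (3, 4), (5, 10)],
    [(1, 5), (5, 9), (9, 4), (6, 10), (10, 8), (8, 7)], [(0, 4), (4, 10), (10, 6), (3, 9), (9, 5), (5, 7)],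
    [(1, 8), (8, 5), (5, 10), (10, 2), (2, 7), (7, 6), (6, 4), (3, 9)], [(1, 5), (2, 4), (3, 7), (6, 10)],
    [(0, 6), (6, 7), (7, 9), (1, 4), (4, 3), (3, 10)], [(2, 3), (3, 6), (6, 7), (4, 9), (9, 10), (10, 8)],
    [(0, 3), (3, 7), (1, 8), (8, 2), (5, 9), (9, 10)], [(0, 9), (9, 6), (1, 7), (7, 3), (2, 5), (5, 4)],
    [(1, 7), (7, 5), (5, 9), (3, 4), (4, 8), (8, 10)], [(1, 9), (9, 7), (7, 6), (2, 8), (8, 4), (4, 10)],
    [(0, 3), (1, 10), (2, 5), (8, 9)], [(0, 9), (2, 3), (4, 7), (6, 10)],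
    [(0, 2), (2, 3), (1, 5), (5, 10), (4, 7), (7, 9)], [(0, 9), (1, 10), (2, 4), (5, 6)],
    [(0, 6), (2, 9), (3, 10), (4, 5)], [(1, 4), (3, 10), (5, 8), (6, 9)],
    [(1, 6), (6, 4), (4, 2), (5, 9), (9, 10), (10, 7)], [(0, 2), (2, 4), (1, 8), (8, 5), (3, 7), (7, 9)],
    [(1, 9), (9, 7), (2, 4), (4, 6), (3, 5), (5, 8)], [(1, 9), (2, 10), (3, 7), (5, 8)],
    [(0, 2), (3, 4), (7, 9), (8, 10)], [(1, 10), (10, 6), (6, 4), (2, 9), (9, 5), (5, 3)],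
    [(0, 4), (4, 6), (6, 3), (1, 9), (9, 2), (2, 8)], [(0, 7), (7, 6), (2, 5), (5, 3), (4, 9), (9, 10)],
    [(0, 8), (8, 4), (1, 2), (2, 5), (3, 9), (9, 6)], [(0, 5), (5, 7), (7, 9), (3, 6), (6, 10), (10, 8)],
    [(1, 8), (8, 10), (10, 3), (2, 5), (5, 6), (6, 4)], [(0, 6), (6, 3), (3, 1), (2, 9), (9, 4), (4, 7)],
    [(0, 3), (3, 5), (5, 7), (4, 9), (9, 8), (8, 10)], [(0, 7), (7, 10), (1, 6), (6, 2), (3, 9), (9, 5)],
    [(0, 9), (9, 10), (10, 6), (1, 3), (3, 5), (5, 2)], [(1, 9), (9, 5), (5, 3), (2, 8), (8, 6), (6, 7)],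
    [(1, 6), (6, 5), (5, 10), (2, 7), (7, 4), (4, 3)], [(0, 4), (1, 10), (2, 9), (3, 7)],
    [(1, 6), (6, 3), (2, 5), (5, 9), (4, 8), (8, 7)], [(1, 10), (10, 5), (5, 6), (2, 3), (3, 4), (4, 7)],
    [(0, 7), (7, 9), (9, 4), (2, 10), (10, 3), (3, 6)], [(0, 9), (9, 7), (7, 6), (1, 10), (10, 3), (3, 4)],
    [(0, 4), (4, 3), (3, 8), (2, 9), (9, 10), (10, 6)], [(1, 9), (9, 7), (7, 10), (2, 5), (5, 3), (3, 4)],
    [(2, 7), (7, 6), (6, 3), (4, 8), (8, 10), (10, 9)], [(1, 9), (9, 5), (5, 8), (2, 6), (6, 10), (10, 4)],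
    [(1, 5), (5, 8), (8, 9), (3, 6), (6, 7), (7, 4)], [(1, 10), (10, 9), (9, 3), (2, 6), (6, 7), (7, 4)],
    [(1, 2), (2, 3), (3, 8), (4, 10), (10, 9), (9, 6)], [(0, 2), (2, 9), (9, 8), (3, 7), (7, 5), (5, 10)],
    [(1, 2), (2, 4), (4, 7), (3, 8), (8, 5), (5, 10)], [(0, 3), (3, 6), (1, 5), (5, 8), (2, 10), (10, 9)],
    [(0, 9), (9, 2), (2, 7), (3, 8), (8, 4), (4, 10)], [(0, 9), (9, 6), (6, 7), (1, 8), (8, 3), (3, 5)],
    [(1, 2), (2, 3), (3, 4), (5, 8), (8, 7), (7, 9)], [(0, 3), (3, 8), (8, 4), (5, 6), (6, 7), (7, 9)],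
    [(1, 2), (2, 8), (3, 9), (9, 4), (5, 7), (7, 6)], [(1, 10), (10, 2), (2, 4), (5, 8), (8, 6), (6, 7)],
    [(0, 4), (4, 1), (3, 5), (5, 9), (6, 8), (8, 10)], [(0, 7), (7, 1), (2, 9), (9, 5), (3, 4), (4, 10)],
    [(0, 10), (10, 1), (1, 9), (3, 5), (5, 8), (8, 6)], [(0, 2), (1, 7), (3, 8), (5, 9)],
    [(1, 4), (4, 3), (3, 2), (5, 9), (9, 7), (7, 8)], [(0, 8), (1, 2), (3, 7), (4, 5)],
    [(1, 6), (6, 2), (3, 8), (8, 10), (4, 9), (9, 7)], [(0, 3), (3, 1), (1, 10), (4, 8), (8, 7), (7, 9)],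
    [(1, 2), (2, 8), (8, 9), (3, 10), (10, 4), (4, 5)], [(0, 7), (7, 9), (9, 2), (1, 4), (4, 5), (5, 3)],
    [(1, 2), (2, 3), (3, 9), (5, 10), (10, 6), (6, 7)], [(0, 7), (7, 4), (4, 3), (1, 9), (9, 10), (10, 2)],
    [(0, 10), (10, 7), (7, 3), (5, 6), (6, 9), (9, 8)], [(0, 8), (3, 4), (5, 7), (6, 9)],
    [(1, 5), (5, 6), (6, 2), (3, 10), (10, 9), (9, 4)], [(0, 1), (1, 3), (2, 8), (8, 7), (4, 5), (5, 9)],
    [(2, 3), (3, 5), (5, 10), (4, 8), (8, 9), (9, 7)], [(1, 5), (5, 10), (2, 8), (8, 9), (3, 7), (7, 6)],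
    [(0, 9), (9, 10), (1, 3), (3, 8), (4, 6), (6, 7)], [(0, 9), (9, 8), (8, 2), (1, 5), (5, 6), (6, 3)],
    [(1, 6), (6, 9), (9, 5), (2, 4), (4, 3), (3, 8)], [(1, 4), (4, 3), (3, 9), (2, 6), (6, 8), (8, 10)],
    [(0, 5), (2, 7), (3, 6), (4, 10)], [(2, 9), (9, 5), (5, 4), (3, 8), (8, 10), (10, 7)],
    [(1, 5), (5, 6), (3, 7), (7, 10), (4, 9), (9, 8)], [(0, 10), (10, 3), (3, 8), (1, 7), (7, 9), (9, 6)],
    [(1, 6), (2, 7), (4, 9), (5, 8)], [(1, 6), (6, 5), (3, 10), (10, 7), (4, 8), (8, 9)],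
    [(0, 5), (5, 2), (2, 9), (1, 8), (8, 7), (7, 3)], [(0, 9), (9, 3), (4, 6), (6, 8), (5, 7), (7, 10)],
    [(0, 4), (4, 3), (3, 9), (1, 8), (8, 5), (5, 6)], [(0, 7), (7, 3), (3, 6), (1, 8), (8, 9), (9, 10)],
    [(0, 6), (1, 3), (5, 8), (7, 9)], [(0, 3), (3, 6), (6, 4), (1, 8), (8, 2), (2, 9)],
    [(0, 7), (7, 6), (1, 9), (9, 3), (2, 4), (4, 8)], [(0, 4), (4, 3), (1, 5), (5, 9), (2, 10), (10, 8)],
    [(0, 6), (1, 4), (2, 3), (5, 7)], [(1, 2), (2, 4), (3, 9), (9, 8), (5, 6), (6, 10)],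
    [(0, 4), (4, 1), (1, 3), (2, 10), (10, 6), (6, 7)], [(0, 9), (9, 6), (6, 2), (3, 4), (4, 10), (10, 5)],
    [(1, 7), (7, 9), (9, 2), (3, 4), (4, 10), (10, 6)], [(0, 10), (1, 6), (4, 8), (5, 9)],
    [(1, 10), (10, 5), (2, 9), (9, 8), (3, 6), (6, 7)], [(0, 5), (1, 10), (6, 9), (7, 8)],
    [(1, 3), (3, 9), (9, 2), (4, 5), (5, 8), (8, 6)], [(1, 8), (8, 2), (2, 7), (4, 6), (6, 10), (10, 5)],
    [(0, 7), (7, 3), (1, 2), (2, 8), (5, 10), (10, 9)], [(0, 9), (1, 5), (2, 7), (3, 4)],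
    [(0, 2), (2, 7), (7, 3), (1, 4), (4, 8), (8, 9)], [(0, 1), (1, 10), (10, 9), (2, 8), (8, 4), (4, 3)],
    [(0, 9), (9, 8), (8, 5), (2, 4), (4, 3), (3, 10)], [(0, 10), (10, 5), (5, 3), (1, 7), (7, 2), (2, 9)],
    [(0, 3), (3, 9), (4, 8), (8, 6), (5, 10), (10, 7)], [(0, 3), (2, 6), (5, 7), (9, 10)],
    [(1, 3), (3, 6), (6, 10), (2, 5), (5, 8), (8, 7)], [(0, 1), (2, 8), (3, 7), (6, 9)],
    [(0, 3), (3, 5), (5, 4), (1, 10), (10, 9), (9, 6)], [(1, 8), (8, 2), (3, 4), (4, 9), (5, 6), (6, 7)],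
    [(0, 1), (2, 5), (4, 8), (7, 9)], [(0, 1), (1, 10), (2, 7), (7, 6), (3, 8), (8, 9)],
    [(2, 5), (3, 10), (4, 9), (7, 8)], [(0, 1), (1, 10), (10, 5), (2, 6), (6, 3), (3, 9)],
    [(1, 3), (3, 4), (4, 5), (2, 10), (10, 7), (7, 8)], [(1, 6), (2, 8), (3, 10), (5, 7)],
    [(0, 8), (8, 3), (3, 5), (2, 7), (7, 9), (9, 4)], [(0, 1), (1, 7), (7, 9), (2, 3), (3, 5), (5, 6)],
    [(1, 2), (2, 9), (9, 7), (3, 6), (6, 10), (10, 4)], [(0, 5), (5, 10), (10, 3), (4, 9), (9, 6), (6, 7)],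
    [(0, 1), (1, 3), (3, 6), (2, 7), (7, 4), (4, 9)], [(0, 9), (9, 6), (6, 4), (3, 10), (10, 8), (8, 7)],
    [(1, 3), (3, 9), (4, 6), (6, 10), (5, 7), (7, 8)], [(0, 4), (4, 8), (8, 6), (1, 3), (3, 10), (10, 9)],
    [(0, 1), (1, 6), (6, 9), (2, 10), (10, 8), (8, 5)], [(1, 4), (4, 2), (3, 8), (8, 9), (5, 10), (10, 6)],
    [(1, 2), (4, 10), (5, 6), (7, 8)], [(1, 10), (10, 2), (2, 8), (3, 5), (5, 6), (6, 9)],
    [(0, 1), (1, 7), (7, 3), (4, 6), (6, 10), (10, 9)], [(0, 9), (2, 5), (3, 8), (4, 6)],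
    [(0, 5), (5, 4), (4, 9), (1, 6), (6, 3), (3, 2)], [(1, 10), (10, 4), (4, 3), (5, 9), (9, 8), (8, 6)],
    [(0, 3), (3, 6), (1, 7), (7, 9), (4, 5), (5, 10)], [(1, 5), (5, 4), (4, 3), (2, 8), (8, 7), (7, 10)],
    [(0, 1), (3, 10), (4, 7), (8, 9)], [(0, 7), (2, 8), (4, 6), (9, 10)],
    [(0, 3), (3, 10), (1, 7), (7, 4), (2, 9), (9, 6)], [(1, 4), (4, 8), (8, 6), (3, 5), (5, 7), (7, 9)],
    [(1, 2), (2, 6), (3, 10), (10, 8), (4, 7), (7, 9)], [(0, 3), (3, 8), (1, 9), (9, 10), (4, 7), (7, 5)],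
    [(0, 8), (8, 3), (1, 10), (10, 9), (4, 5), (5, 7)], [(0, 4), (4, 6), (6, 9), (3, 7), (7, 8), (8, 10)],
    [(0, 2), (2, 9), (1, 4), (4, 10), (3, 8), (8, 5)], [(2, 4), (4, 10), (10, 3), (5, 6), (6, 9), (9, 7)],
    [(0, 3), (3, 5), (2, 8), (8, 9), (4, 10), (10, 6)], [(0, 9), (9, 8), (2, 10), (10, 7), (3, 4), (4, 6)],
    [(0, 10), (1, 3), (2, 5), (4, 7)], [(0, 8), (1, 9), (2, 6), (4, 7)],
    [(0, 4), (1, 3), (2, 6), (5, 9)], [(0, 2), (2, 8), (1, 6), (6, 9), (3, 4), (4, 10)],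
    [(0, 9), (9, 3), (1, 5), (5, 4), (2, 6), (6, 10)], [(0, 6), (6, 3), (1, 9), (9, 7), (4, 10), (10, 5)],
    [(0, 10), (10, 2), (2, 9), (1, 3), (3, 4), (4, 6)], [(1, 3), (3, 6), (6, 4), (7, 9), (9, 8), (8, 10)],
    [(2, 10), (10, 4), (4, 9), (3, 8), (8, 5), (5, 6)], [(0, 1), (1, 3), (3, 5), (4, 6), (6, 9), (9, 8)],
    [(1, 10), (10, 5), (5, 2), (4, 9), (9, 6), (6, 8)], [(0, 2), (2, 7), (7, 5), (1, 6), (6, 9), (9, 3)],
    [(0, 9), (1, 4), (2, 10), (7, 8)], [(0, 2), (2, 6), (6, 10), (1, 3), (3, 7), (7, 9)],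
    [(1, 7), (2, 3), (4, 5), (9, 10)], [(0, 9), (9, 5), (1, 6), (6, 10), (2, 8), (8, 3)],
    [(1, 8), (2, 10), (3, 6), (4, 7)], [(2, 3), (3, 10), (10, 4), (5, 7), (7, 9), (9, 6)],
    [(0, 4), (4, 9), (1, 2), (2, 10), (3, 6), (6, 8)], [(0, 9), (9, 6), (2, 10), (10, 3), (5, 7), (7, 8)],
    [(0, 6), (1, 5), (4, 7), (9, 10)], [(0, 6), (6, 5), (5, 7), (2, 9), (9, 3), (3, 8)],
    [(0, 8), (8, 5), (1, 10), (10, 7), (2, 9), (9, 3)], [(0, 3), (3, 5), (1, 6), (6, 8), (7, 9), (9, 10)],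
    [(1, 8), (3, 7), (4, 6), (5, 9)], [(0, 2), (2, 6), (1, 9), (9, 8), (3, 5), (5, 7)],
    [(0, 3), (3, 9), (1, 8), (8, 10), (2, 7), (7, 4)], [(0, 6), (6, 2), (2, 10), (3, 5), (5, 9), (9, 8)],
    [(1, 6), (6, 8), (8, 7), (2, 9), (9, 5), (5, 10)], [(0, 2), (2, 3), (3, 4), (1, 9), (9, 6), (6, 7)],
    [(0, 3), (3, 2), (2, 6), (1, 9), (9, 4), (4, 10)], [(1, 5), (5, 7), (7, 2), (3, 8), (8, 4), (4, 6)],
    [(0, 4), (4, 1), (1, 7), (3, 9), (9, 10), (10, 8)], [(0, 10), (10, 5), (2, 8), (8, 6), (3, 7), (7, 9)],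
    [(1, 5), (2, 6), (3, 9), (7, 8)], [(0, 5), (5, 1), (1, 4), (3, 6), (6, 9), (9, 7)],
    [(0, 4), (4, 9), (9, 6), (2, 3), (3, 5), (5, 8)], [(1, 8), (8, 2), (2, 10), (3, 9), (9, 6), (6, 5)],
    [(0, 1), (1, 3), (3, 10), (2, 9), (9, 5), (5, 8)], [(1, 5), (5, 2), (3, 4), (4, 7), (8, 9), (9, 10)],
    [(1, 10), (3, 6), (4, 9), (5, 7)], [(1, 9), (9, 6), (2, 3), (3, 5), (7, 10), (10, 8)],
    [(0, 7), (1, 9), (2, 5), (3, 6)], [(1, 7), (7, 10), (10, 5), (3, 9), (9, 6), (6, 4)],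
    [(1, 7), (7, 10), (10, 4), (2, 9), (9, 8), (8, 5)], [(0, 10), (10, 1), (2, 6), (6, 7), (3, 9), (9, 8)],
    [(0, 3), (3, 2), (1, 4), (4, 6), (5, 8), (8, 9)], [(0, 9), (9, 2), (2, 3), (5, 10), (10, 8), (8, 6)],
    [(0, 3), (3, 10), (10, 8), (1, 4), (4, 9), (9, 2)], [(0, 8), (8, 9), (1, 10), (10, 3), (5, 6), (6, 7)],
    [(0, 2), (2, 9), (9, 7), (1, 3), (3, 5), (5, 4)], [(0, 1), (1, 6), (6, 3), (5, 7), (7, 8), (8, 9)],
    [(0, 3), (3, 1), (2, 7), (7, 8), (4, 9), (9, 5)], [(0, 4), (4, 6), (1, 7), (7, 5), (3, 8), (8, 9)],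
    [(1, 6), (6, 7), (2, 4), (4, 9), (3, 10), (10, 5)], [(0, 5), (5, 7), (7, 2), (1, 3), (3, 9), (9, 6)],
    [(0, 5), (5, 10), (2, 6), (6, 8), (3, 9), (9, 7)], [(0, 3), (3, 2), (2, 8), (1, 5), (5, 7), (7, 9)],
    [(0, 1), (1, 4), (4, 9), (3, 7), (7, 5), (5, 8)], [(0, 10), (10, 8), (8, 9), (1, 2), (2, 3), (3, 7)],
    [(1, 2), (2, 10), (10, 3), (6, 9), (9, 8), (8, 7)], [(1, 2), (2, 5), (3, 7), (7, 4), (8, 10), (10, 9)],
    [(1, 7), (7, 5), (5, 4), (4, 2), (2, 8), (8, 6), (6, 10), (3, 9)], [(0, 2), (2, 4), (4, 6), (1, 5), (5, 3), (3, 9)],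
    [(0, 1), (1, 5), (2, 9), (9, 7), (3, 6), (6, 8)], [(0, 2), (2, 8), (3, 5), (5, 9), (4, 6), (6, 7)],
    [(1, 8), (8, 4), (4, 5), (3, 6), (6, 10), (10, 9)], [(0, 5), (5, 4), (4, 3), (1, 7), (7, 9), (9, 8)],
    [(1, 7), (7, 9), (2, 6), (6, 4), (3, 8), (8, 5)], [(0, 1), (1, 9), (9, 8), (2, 3), (3, 6), (6, 10)],
    [(0, 10), (10, 8), (3, 7), (7, 6), (4, 9), (9, 5)], [(1, 6), (6, 8), (8, 4), (3, 9), (9, 7), (7, 5)],
    [(0, 1), (1, 9), (2, 10), (10, 4), (3, 7), (7, 6)], [(0, 9), (9, 2), (1, 8), (8, 6), (3, 4), (4, 7)],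
    [(2, 6), (6, 5), (3, 8), (8, 4), (7, 10), (10, 9)], [(0, 10), (10, 3), (3, 7), (1, 9), (9, 4), (4, 5)],
    [(1, 7), (7, 6), (6, 8), (3, 10), (10, 4), (4, 9)], [(0, 9), (9, 10), (10, 7), (3, 6), (6, 5), (5, 4)],
    [(1, 4), (4, 9), (9, 6), (2, 10), (10, 7), (7, 3)], [(0, 10), (2, 8), (3, 4), (5, 6)],
    [(0, 7), (7, 5), (5, 3), (4, 10), (10, 8), (8, 9)], [(1, 4), (4, 9), (2, 3), (3, 8), (5, 7), (7, 10)],
    [(0, 5), (5, 2), (3, 9), (9, 8), (4, 10), (10, 7)], [(0, 7), (2, 6), (3, 5), (4, 8)],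
    [(2, 5), (5, 8), (8, 4), (3, 7), (7, 6), (6, 9)], [(1, 6), (6, 7), (7, 9), (2, 10), (10, 4), (4, 8)],
    [(2, 8), (8, 5), (5, 7), (3, 4), (4, 10), (10, 9)], [(0, 3), (1, 6), (2, 4), (7, 9)],
    [(0, 5), (5, 9), (1, 10), (10, 6), (2, 3), (3, 8)], [(0, 1), (1, 9), (2, 6), (6, 8), (3, 4), (4, 5)],
    [(0, 4), (4, 1), (2, 3), (3, 6), (7, 8), (8, 9)], [(1, 7), (7, 5), (5, 8), (2, 9), (9, 6), (6, 3)],
    [(0, 7), (7, 2), (3, 6), (6, 5), (8, 10), (10, 9)], [(1, 5), (5, 3), (2, 6), (6, 9), (4, 10), (10, 8)],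
    [(0, 5), (5, 2), (1, 10), (10, 3), (4, 6), (6, 9)], [(1, 10), (10, 8), (8, 2), (3, 7), (7, 6), (6, 4)],
    [(0, 4), (4, 8), (1, 9), (9, 7), (2, 10), (10, 3)], [(1, 5), (5, 2), (2, 3), (4, 9), (9, 7), (7, 6)],
    [(0, 4), (4, 3), (2, 7), (7, 9), (5, 6), (6, 10)], [(0, 4), (4, 2), (2, 3), (7, 10), (10, 9), (9, 8)],
    [(0, 9), (1, 3), (4, 5), (8, 10)], [(0, 3), (3, 6), (2, 5), (5, 7), (4, 8), (8, 9)],
    [(0, 5), (5, 1), (3, 4), (4, 9), (7, 10), (10, 8)], [(1, 9), (9, 3), (3, 4), (2, 10), (10, 8), (8, 6)],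
    [(1, 8), (8, 3), (3, 4), (5, 7), (7, 10), (10, 6)], [(1, 3), (3, 2), (2, 5), (4, 6), (6, 7), (7, 9)],
    [(2, 9), (9, 7), (7, 6), (3, 10), (10, 8), (8, 5)], [(0, 3), (3, 2), (1, 10), (10, 5), (4, 9), (9, 7)],
    [(0, 4), (4, 2), (2, 9), (3, 6), (6, 7), (7, 5)], [(0, 1), (2, 3), (5, 10), (7, 8)],
    [(1, 4), (4, 10), (10, 7), (2, 5), (5, 8), (8, 9)], [(0, 3), (3, 5), (5, 10), (1, 9), (9, 2), (2, 7)],
    [(0, 2), (2, 3), (3, 6), (5, 9), (9, 7), (7, 10)], [(0, 2), (2, 9), (1, 5), (5, 7), (3, 10), (10, 6)],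
    [(0, 2), (2, 5), (5, 8), (1, 9), (9, 4), (4, 3)], [(1, 4), (4, 8), (8, 3), (2, 10), (10, 9), (9, 5)],
    [(1, 5), (2, 10), (4, 6), (8, 9)], [(1, 2), (2, 10), (10, 8), (4, 9), (9, 7), (7, 5)],
    [(0, 3), (3, 1), (2, 10), (10, 5), (6, 7), (7, 9)], [(1, 8), (8, 6), (2, 3), (3, 10), (4, 9), (9, 5)],
    [(0, 5), (5, 3), (3, 8), (2, 4), (4, 9), (9, 7)], [(1, 4), (4, 6), (6, 10), (2, 3), (3, 5), (5, 9)],
    [(3, 6), (6, 9), (9, 5), (4, 8), (8, 7), (7, 10)], [(1, 7), (7, 5), (5, 3), (2, 10), (10, 4), (4, 6)],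
    [(0, 7), (7, 9), (9, 10), (2, 3), (3, 8), (8, 5)], [(0, 1), (1, 4), (2, 6), (6, 3), (7, 9), (9, 8)],
    [(0, 9), (9, 4), (1, 10), (10, 2), (3, 8), (8, 6)], [(0, 4), (4, 7), (3, 8), (8, 5), (6, 10), (10, 9)],
    [(1, 6), (6, 2), (2, 5), (4, 7), (7, 10), (10, 8)], [(0, 9), (1, 2), (5, 7), (6, 8)],
    [(1, 6), (6, 7), (7, 10), (3, 8), (8, 5), (5, 9)], [(1, 10), (10, 9), (9, 2), (3, 8), (8, 7), (7, 5)],
    [(0, 3), (3, 1), (1, 8), (5, 10), (10, 6), (6, 9)], [(0, 6), (6, 2), (1, 8), (8, 9), (3, 7), (7, 5)],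
    [(0, 5), (5, 3), (3, 1), (4, 8), (8, 9), (9, 6)], [(1, 6), (6, 2), (2, 9), (3, 4), (4, 5), (5, 7)],
    [(0, 4), (4, 8), (8, 3), (5, 9), (9, 7), (7, 6)], [(1, 2), (2, 9), (9, 10), (3, 5), (5, 7), (7, 8)],
    [(1, 3), (3, 7), (7, 2), (4, 9), (9, 5), (5, 10)], [(0, 8), (8, 3), (2, 9), (9, 5), (6, 7), (7, 10)],
    [(0, 3), (3, 2), (1, 8), (8, 7), (6, 10), (10, 9)], [(0, 3), (3, 1), (2, 4), (4, 6), (8, 10), (10, 9)],
    [(0, 3), (3, 10), (10, 5), (4, 7), (7, 6), (6, 9)], [(0, 4), (1, 7), (3, 10), (5, 6)],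
    [(0, 8), (1, 3), (2, 7), (9, 10)], [(1, 3), (3, 4), (4, 8), (2, 6), (6, 9), (9, 7)],
    [(1, 2), (2, 6), (6, 5), (3, 4), (4, 9), (9, 10)], [(1, 5), (5, 7), (7, 3), (6, 8), (8, 10), (10, 9)],
    [(0, 4), (1, 9), (3, 5), (7, 8)], [(0, 3), (1, 7), (2, 8), (4, 10)],
    [(0, 10), (10, 3), (3, 1), (2, 8), (8, 5), (5, 9)], [(1, 9), (2, 7), (3, 10), (4, 6)],
    [(1, 3), (3, 7), (7, 5), (6, 9), (9, 10), (10, 8)], [(0, 1), (1, 9), (9, 7), (3, 8), (8, 6), (6, 4)],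
    [(1, 8), (8, 9), (9, 4), (2, 6), (6, 3), (3, 5)], [(0, 6), (1, 2), (3, 4), (8, 9)],
    [(1, 8), (8, 6), (6, 7), (3, 9), (9, 4), (4, 10)], [(0, 6), (6, 4), (4, 3), (5, 8), (8, 10), (10, 9)],
    [(2, 4), (3, 5), (6, 8), (9, 10)], [(0, 8), (8, 3), (3, 6), (1, 9), (9, 5), (5, 4)],
    [(1, 3), (3, 6), (6, 9), (2, 10), (10, 5), (5, 4)], [(0, 6), (6, 10), (10, 3), (2, 8), (8, 9), (9, 7)],
    [(1, 9), (9, 2), (2, 5), (3, 10), (10, 6), (6, 8)], [(0, 1), (1, 8), (8, 3), (2, 10), (10, 7), (7, 9)],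
    [(0, 7), (7, 9), (9, 1), (3, 4), (4, 6), (6, 8)], [(0, 1), (1, 3), (3, 4), (5, 7), (7, 9), (9, 10)],
    [(1, 9), (9, 4), (4, 2), (3, 6), (6, 8), (8, 7)], [(0, 4), (4, 5), (1, 3), (3, 9), (2, 7), (7, 10)],
    [(1, 4), (4, 6), (6, 9), (2, 8), (8, 7), (7, 5)], [(0, 5), (5, 3), (3, 7), (2, 10), (10, 6), (6, 9)],
    [(0, 1), (1, 6), (6, 7), (2, 9), (9, 10), (10, 3)], [(0, 3), (1, 2), (4, 6), (5, 10)],
    [(0, 5), (5, 8), (8, 9), (2, 10), (10, 3), (3, 4)], [(0, 7), (7, 2), (2, 3), (4, 6), (6, 9), (9, 5)],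
    [(0, 3), (3, 9), (1, 4), (4, 5), (2, 10), (10, 6)], [(1, 3), (2, 9), (5, 6), (7, 10)],
    [(0, 10), (1, 9), (2, 4), (3, 8)], [(0, 10), (10, 8), (1, 3), (3, 9), (2, 5), (5, 6)],
    [(1, 9), (9, 8), (8, 10), (2, 7), (7, 5), (5, 6)], [(0, 10), (10, 2), (3, 6), (6, 9), (4, 5), (5, 7)],
    [(0, 8), (8, 3), (3, 4), (2, 6), (6, 10), (10, 9)], [(2, 6), (6, 7), (7, 9), (3, 5), (5, 8), (8, 10)],
    [(0, 2), (2, 3), (3, 5), (1, 8), (8, 10), (10, 9)], [(1, 6), (6, 3), (3, 7), (4, 5), (5, 8), (8, 10)],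
    [(3, 9), (4, 7), (5, 6), (8, 10)], [(0, 7), (1, 8), (2, 3), (4, 9)],
    [(1, 10), (10, 9), (2, 5), (5, 8), (3, 4), (4, 6)], [(0, 4), (2, 5), (6, 9), (7, 10)],
    [(2, 9), (9, 10), (10, 5), (3, 7), (7, 4), (4, 6)], [(0, 9), (9, 1), (1, 8), (3, 7), (7, 10), (10, 4)],
    [(1, 10), (10, 9), (9, 7), (4, 8), (8, 5), (5, 6)], [(0, 2), (2, 7), (1, 10), (10, 6), (3, 9), (9, 4)],
    [(0, 8), (1, 7), (4, 9), (5, 10)], [(0, 1), (1, 5), (5, 9), (3, 6), (6, 4), (4, 10)],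
    [(0, 8), (1, 5), (3, 6), (7, 10)], [(0, 7), (7, 3), (3, 10), (1, 5), (5, 4), (4, 9)],
    [(1, 7), (7, 3), (3, 6), (4, 10), (10, 8), (8, 5)], [(1, 5), (5, 9), (9, 6), (2, 8), (8, 3), (3, 4)],
    [(1, 8), (8, 10), (3, 5), (5, 4), (6, 9), (9, 7)], [(0, 2), (2, 6), (3, 9), (9, 10), (4, 8), (8, 7)],
    [(0, 7), (7, 2), (2, 9), (3, 10), (10, 4), (4, 8)], [(0, 5), (5, 9), (9, 4), (1, 8), (8, 3), (3, 10)],
    [(2, 8), (3, 6), (4, 5), (7, 9)], [(0, 4), (4, 3), (1, 10), (10, 7), (6, 8), (8, 9)],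
    [(1, 9), (9, 7), (7, 8), (3, 6), (6, 5), (5, 10)], [(0, 3), (3, 10), (2, 8), (8, 4), (5, 9), (9, 7)],
    [(2, 7), (7, 3), (3, 10), (4, 5), (5, 6), (6, 8)], [(0, 8), (8, 10), (1, 9), (9, 3), (2, 6), (6, 5)],
    [(0, 9), (9, 3), (1, 7), (7, 6), (2, 8), (8, 5)], [(1, 3), (3, 2), (2, 9), (4, 10), (10, 8), (8, 7)],
    [(0, 7), (1, 3), (4, 10), (6, 9)], [(0, 5), (5, 9), (9, 3), (2, 7), (7, 8), (8, 10)],
    [(0, 4), (4, 9), (9, 7), (2, 6), (6, 3), (3, 10)], [(1, 7), (7, 8), (8, 6), (2, 10), (10, 5), (5, 9)],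
    [(0, 7), (7, 5), (1, 2), (2, 9), (3, 8), (8, 4)], [(2, 3), (4, 6), (5, 8), (7, 10)],
    [(2, 8), (8, 6), (6, 9), (3, 10), (10, 7), (7, 4)], [(0, 6), (6, 3), (3, 7), (1, 10), (10, 9), (9, 8)],
    [(0, 3), (3, 7), (2, 9), (9, 4), (6, 10), (10, 8)], [(1, 5), (5, 7), (7, 4), (2, 10), (10, 3), (3, 9)],
    [(0, 10), (1, 4), (3, 7), (6, 8)], [(0, 3), (3, 10), (10, 6), (2, 7), (7, 9), (9, 8)],
    [(0, 9), (9, 1), (1, 6), (2, 3), (3, 8), (8, 7)], [(0, 1), (1, 2), (2, 7), (3, 9), (9, 8), (8, 5)],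
    [(0, 6), (6, 10), (1, 9), (9, 5), (3, 8), (8, 7)], [(0, 5), (5, 3), (1, 9), (9, 4), (2, 7), (7, 6)],
    [(0, 4), (1, 8), (6, 10), (7, 9)], [(1, 6), (6, 10), (10, 8), (2, 7), (7, 3), (3, 9)],
    [(1, 4), (4, 8), (8, 7), (2, 3), (3, 10), (10, 6)], [(0, 6), (3, 8), (4, 9), (7, 10)],
    [(0, 9), (9, 4), (4, 8), (3, 5), (5, 6), (6, 10)], [(0, 3), (3, 5), (1, 4), (4, 9), (2, 6), (6, 7)],
    [(1, 4), (2, 6), (5, 10), (7, 9)], [(1, 5), (5, 8), (8, 10), (2, 4), (4, 9), (9, 3)],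
    [(2, 6), (6, 8), (8, 3), (4, 9), (9, 5), (5, 7)], [(1, 5), (5, 4), (2, 7), (7, 3), (6, 9), (9, 8)],
    [(1, 10), (10, 6), (6, 3), (2, 7), (7, 8), (8, 5)], [(1, 5), (5, 9), (2, 6), (6, 3), (4, 7), (7, 10)],
    [(2, 3), (3, 7), (7, 8), (5, 6), (6, 10), (10, 9)], [(0, 6), (6, 7), (2, 3), (3, 5), (4, 10), (10, 9)],
    [(2, 10), (10, 8), (3, 5), (5, 7), (4, 6), (6, 9)], [(0, 6), (2, 4), (5, 9), (7, 8)],
    [(2, 4), (4, 9), (9, 8), (5, 10), (10, 7), (7, 6)], [(0, 4), (1, 2), (5, 8), (9, 10)],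
    [(0, 6), (6, 8), (2, 5), (5, 10), (3, 4), (4, 9)], [(0, 1), (1, 7), (3, 6), (6, 9), (5, 8), (8, 10)],
    [(1, 6), (6, 5), (5, 2), (3, 7), (7, 9), (9, 8)], [(0, 6), (6, 2), (2, 3), (1, 10), (10, 4), (4, 9)],
    [(0, 1), (1, 9), (9, 5), (2, 4), (4, 7), (7, 3)], [(2, 5), (5, 4), (4, 3), (6, 10), (10, 8), (8, 9)],
    [(0, 7), (1, 10), (3, 4), (5, 8)], [(2, 3), (3, 4), (4, 5), (6, 9), (9, 8), (8, 10)],
    [(0, 8), (8, 1), (1, 3), (5, 9), (9, 6), (6, 10)], [(1, 7), (7, 4), (4, 6), (2, 3), (3, 9), (9, 8)],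
    [(0, 3), (3, 7), (7, 10), (5, 8), (8, 9), (9, 6)], [(2, 8), (8, 7), (7, 3), (5, 9), (9, 10), (10, 6)],
    [(1, 4), (4, 2), (2, 10), (5, 7), (7, 6), (6, 8)], [(0, 6), (6, 9), (9, 10), (2, 7), (7, 3), (3, 4)],
    [(0, 3), (3, 4), (4, 7), (1, 2), (2, 10), (10, 9)], [(1, 2), (3, 9), (4, 8), (7, 10)],
    [(0, 8), (1, 6), (2, 9), (3, 5)], [(0, 5), (5, 10), (1, 2), (2, 3), (4, 9), (9, 8)],
    [(0, 3), (3, 6), (6, 9), (1, 10), (10, 7), (7, 2)], [(0, 3), (1, 4), (5, 9), (7, 10)],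
    [(0, 9), (9, 2), (2, 10), (1, 6), (6, 4), (4, 3)], [(0, 1), (1, 8), (3, 6), (6, 5), (4, 7), (7, 9)],
    [(0, 3), (3, 4), (1, 7), (7, 10), (6, 9), (9, 8)], [(1, 2), (3, 5), (4, 7), (6, 9)],
    [(1, 5), (5, 4), (4, 8), (3, 9), (9, 10), (10, 6)], [(0, 3), (3, 5), (5, 9), (1, 2), (2, 4), (4, 8)],
    [(0, 5), (5, 8), (8, 3), (1, 2), (2, 6), (6, 9)], [(0, 8), (8, 9), (2, 7), (7, 10), (3, 6), (6, 4)],
    [(0, 5), (5, 9), (1, 3), (3, 4), (6, 7), (7, 8)], [(1, 8), (8, 3), (3, 2), (4, 6), (6, 9), (9, 10)],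
    [(1, 8), (2, 5), (6, 7), (9, 10)], [(1, 8), (8, 6), (6, 2), (3, 5), (5, 10), (10, 7)],
    [(0, 7), (1, 2), (3, 8), (6, 10)], [(0, 9), (9, 4), (2, 3), (3, 7), (5, 8), (8, 10)],
    [(0, 9), (4, 10), (5, 8), (6, 7)], [(0, 1), (1, 9), (9, 6), (3, 10), (10, 7), (7, 5)],
    [(0, 3), (3, 7), (7, 1), (4, 9), (9, 10), (10, 6)], [(1, 2), (2, 4), (4, 9), (3, 7), (7, 8), (8, 6)],
    [(0, 3), (3, 9), (1, 6), (6, 7), (2, 5), (5, 8)], [(0, 7), (7, 6), (6, 9), (1, 5), (5, 3), (3, 8)],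
    [(0, 8), (8, 4), (1, 7), (7, 9), (2, 3), (3, 10)], [(0, 9), (9, 10), (1, 2), (2, 4), (3, 7), (7, 5)],
    [(0, 3), (3, 7), (7, 6), (1, 2), (2, 9), (9, 5)], [(0, 3), (1, 9), (6, 7), (8, 10)],
    [(0, 7), (7, 5), (5, 9), (1, 3), (3, 2), (2, 10)], [(2, 5), (5, 10), (10, 9), (3, 6), (6, 4), (4, 7)],
    [(1, 7), (2, 4), (6, 9), (8, 10)], [(0, 8), (8, 5), (1, 6), (6, 3), (4, 10), (10, 9)],
    [(2, 7), (3, 8), (5, 10), (6, 9)], [(0, 7), (1, 4), (5, 6), (8, 9)],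
    [(0, 2), (2, 3), (3, 10), (4, 6), (6, 8), (8, 9)], [(0, 5), (5, 8), (1, 3), (3, 6), (4, 9), (9, 10)],
    [(0, 2), (2, 1), (1, 8), (3, 9), (9, 7), (7, 6)], [(1, 5), (5, 10), (10, 4), (2, 3), (3, 6), (6, 8)],
    [(0, 7), (7, 4), (1, 5), (5, 6), (2, 9), (9, 3)], [(0, 10), (2, 7), (4, 5), (8, 9)],
    [(1, 10), (10, 6), (6, 8), (8, 2), (2, 4), (4, 5), (5, 7), (3, 9)], [(0, 2), (2, 7), (3, 5), (5, 6), (8, 9), (9, 10)],
    [(1, 2), (3, 6), (5, 9), (8, 10)], [(0, 3), (3, 8), (8, 2), (4, 5), (5, 10), (10, 9)],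
    [(0, 3), (3, 4), (2, 9), (9, 7), (5, 10), (10, 6)], [(0, 8), (8, 9), (9, 2), (3, 10), (10, 5), (5, 7)],
    [(1, 10), (10, 5), (5, 4), (3, 7), (7, 8), (8, 9)], [(1, 7), (7, 3), (3, 10), (2, 6), (6, 9), (9, 5)],
    [(1, 10), (10, 2), (2, 7), (3, 4), (4, 9), (9, 8)], [(0, 5), (5, 10), (10, 1), (2, 9), (9, 3), (3, 6)],
    [(0, 5), (5, 4), (2, 9), (9, 6), (3, 7), (7, 8)], [(0, 3), (3, 1), (1, 9), (4, 6), (6, 5), (5, 7)],
    [(0, 4), (4, 9), (9, 3), (1, 2), (2, 5), (5, 7)], [(1, 2), (2, 9), (9, 3), (4, 6), (6, 8), (8, 5)],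
    [(0, 4), (2, 10), (3, 8), (5, 7)], [(1, 10), (10, 3), (3, 7), (2, 5), (5, 9), (9, 6)],
    [(0, 6), (6, 1), (1, 9), (2, 7), (7, 8), (8, 3)], [(0, 9), (9, 8), (8, 10), (1, 7), (7, 3), (3, 2)],
    [(1, 2), (2, 8), (8, 10), (3, 4), (4, 6), (6, 7)], [(0, 5), (5, 7), (1, 9), (9, 2), (3, 4), (4, 8)],
    [(0, 7), (7, 9), (2, 4), (4, 3), (5, 8), (8, 6)], [(0, 7), (7, 3), (3, 5), (2, 9), (9, 6), (6, 10)],
    [(0, 8), (2, 3), (4, 10), (5, 9)], [(1, 2), (2, 6), (6, 8), (3, 7), (7, 10), (10, 5)],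
    [(1, 5), (5, 3), (3, 6), (2, 7), (7, 9), (9, 10)], [(1, 5), (5, 2), (2, 9), (3, 8), (8, 6), (6, 10)],
    [(0, 10), (10, 9), (9, 8), (1, 5), (5, 3), (3, 4)], [(0, 6), (6, 7), (1, 3), (3, 9), (2, 8), (8, 4)],
    [(2, 8), (8, 3), (3, 5), (4, 7), (7, 6), (6, 10)], [(0, 10), (10, 5), (5, 9), (3, 8), (8, 7), (7, 4)],
    [(0, 2), (1, 4), (3, 6), (9, 10)], [(0, 9), (9, 5), (1, 4), (4, 3), (6, 8), (8, 7)],
    [(1, 6), (6, 7), (7, 8), (2, 3), (3, 5), (5, 4)], [(1, 9), (9, 5), (2, 3), (3, 6), (4, 10), (10, 7)],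
    [(2, 4), (4, 5), (5, 9), (3, 7), (7, 10), (10, 8)], [(1, 7), (7, 3), (2, 9), (9, 10), (4, 8), (8, 6)],
    [(1, 8), (8, 10), (10, 6), (2, 9), (9, 3), (3, 7)], [(0, 1), (1, 5), (5, 4), (2, 3), (3, 8), (8, 9)],
    [(1, 5), (5, 4), (4, 10), (2, 9), (9, 6), (6, 7)], [(2, 6), (6, 4), (4, 8), (3, 10), (10, 5), (5, 9)],
    [(1, 2), (2, 7), (7, 3), (4, 10), (10, 5), (5, 9)], [(0, 3), (3, 6), (6, 1), (5, 9), (9, 8), (8, 7)],
    [(0, 10), (10, 2), (1, 3), (3, 5), (7, 9), (9, 8)], [(0, 6), (6, 4), (1, 3), (3, 2), (7, 10), (10, 9)],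
    [(0, 5), (5, 9), (9, 10), (1, 7), (7, 6), (6, 3)], [(2, 9), (9, 3), (4, 5), (5, 10), (6, 7), (7, 8)],
    [(0, 5), (5, 1), (1, 3), (2, 4), (4, 10), (10, 9)], [(0, 4), (4, 7), (7, 9), (1, 3), (3, 8), (8, 2)],
    [(1, 9), (9, 6), (6, 3), (2, 4), (4, 5), (5, 10)], [(2, 8), (8, 10), (3, 7), (7, 5), (4, 9), (9, 6)],
    [(0, 9), (9, 2), (1, 10), (10, 4), (3, 5), (5, 8)], [(0, 1), (1, 10), (3, 7), (7, 4), (5, 6), (6, 9)],
    [(0, 5), (5, 1), (1, 9), (2, 6), (6, 7), (7, 10)], [(1, 6), (6, 4), (4, 9), (3, 5), (5, 10), (10, 8)],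
    [(0, 1), (1, 7), (2, 5), (5, 9), (3, 10), (10, 4)], [(1, 7), (2, 5), (3, 4), (6, 8)],
    [(0, 2), (3, 7), (4, 9), (5, 6)], [(1, 8), (8, 7), (2, 10), (10, 4), (3, 5), (5, 9)],
    [(1, 9), (9, 10), (10, 7), (2, 6), (6, 3), (3, 8)], [(0, 1), (2, 7), (5, 9), (6, 10)],
    [(0, 4), (4, 5), (2, 6), (6, 9), (3, 8), (8, 7)], [(0, 3), (3, 4), (1, 9), (9, 5), (2, 8), (8, 10)],
    [(0, 5), (3, 7), (4, 8), (9, 10)], [(0, 9), (1, 8), (2, 6), (3, 10)],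
    [(0, 10), (10, 3), (1, 8), (8, 9), (4, 6), (6, 5)], [(0, 10), (10, 3), (2, 4), (4, 8), (5, 7), (7, 9)],
    [(0, 9), (9, 8), (8, 6), (3, 7), (7, 4), (4, 5)], [(0, 9), (9, 7), (7, 4), (1, 2), (2, 8), (8, 3)],
    [(0, 8), (8, 6), (6, 3), (4, 7), (7, 9), (9, 10)], [(0, 7), (1, 5), (2, 9), (8, 10)],
    [(0, 10), (10, 9), (9, 7), (2, 5), (5, 8), (8, 3)], [(0, 10), (10, 6), (1, 8), (8, 4), (2, 3), (3, 9)],
    [(0, 1), (1, 10), (10, 3), (2, 7), (7, 5), (5, 4)], [(2, 3), (3, 9), (4, 10), (10, 5), (6, 8), (8, 7)],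
    [(1, 7), (7, 4), (4, 2), (3, 10), (10, 5), (5, 8)], [(1, 4), (4, 7), (7, 5), (2, 9), (9, 3), (3, 10)],
    [(0, 8), (8, 2), (3, 9), (9, 5), (4, 7), (7, 6)], [(0, 9), (9, 5), (5, 8), (2, 7), (7, 3), (3, 6)],
    [(1, 8), (8, 5), (5, 7), (2, 3), (3, 6), (6, 9)], [(0, 7), (7, 3), (3, 4), (2, 5), (5, 9), (9, 8)],
    [(1, 9), (9, 6), (6, 4), (2, 5), (5, 7), (7, 8)], [(1, 5), (5, 6), (6, 8), (2, 4), (4, 7), (7, 9)],
    [(2, 9), (9, 6), (6, 8), (3, 4), (4, 7), (7, 10)], [(0, 1), (2, 10), (3, 5), (4, 9)],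
    [(0, 8), (8, 9), (9, 4), (1, 3), (3, 7), (7, 6)], [(1, 8), (8, 6), (6, 5), (2, 9), (9, 7), (7, 4)],
    [(0, 7), (7, 4), (3, 5), (5, 8), (6, 9), (9, 10)], [(1, 8), (8, 3), (2, 6), (6, 10), (5, 9), (9, 7)],
    [(0, 10), (10, 9), (1, 4), (4, 2), (3, 5), (5, 7)], [(0, 4), (4, 8), (1, 5), (5, 2), (3, 6), (6, 9)],
    [(1, 8), (8, 4), (4, 3), (2, 7), (7, 9), (9, 6)], [(0, 6), (6, 10), (1, 4), (4, 8), (2, 9), (9, 3)],
    [(2, 7), (7, 5), (5, 8), (3, 9), (9, 10), (10, 4)], [(0, 4), (4, 9), (9, 5), (1, 10), (10, 3), (3, 8)],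
    [(0, 10), (10, 1), (1, 3), (4, 9), (9, 7), (7, 8)], [(0, 6), (6, 3), (3, 2), (5, 10), (10, 7), (7, 9)],
    [(0, 1), (2, 6), (3, 4), (7, 10)], [(1, 2), (2, 5), (5, 10), (4, 8), (8, 6), (6, 9)],
    [(0, 1), (1, 4), (3, 9), (9, 5), (6, 10), (10, 8)], [(2, 9), (9, 8), (8, 7), (3, 5), (5, 6), (6, 4)],
    [(0, 1), (1, 9), (9, 3), (4, 8), (8, 5), (5, 10)], [(0, 8), (8, 3), (1, 7), (7, 2), (4, 9), (9, 6)],
    [(1, 5), (5, 3), (3, 7), (2, 9), (9, 4), (4, 8)], [(1, 6), (6, 9), (2, 5), (5, 3), (7, 8), (8, 10)],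
    [(1, 7), (7, 8), (8, 3), (4, 5), (5, 6), (6, 9)], [(0, 2), (1, 9), (4, 10), (5, 7)],
    [(0, 8), (8, 9), (9, 10), (1, 4), (4, 3), (3, 5)], [(0, 10), (10, 7), (1, 2), (2, 6), (3, 5), (5, 9)],
    [(2, 10), (10, 9), (9, 6), (4, 5), (5, 8), (8, 7)], [(0, 8), (8, 5), (5, 9), (2, 6), (6, 3), (3, 7)],
    [(0, 5), (5, 8), (1, 7), (7, 10), (2, 3), (3, 9)], [(0, 9), (1, 6), (3, 7), (5, 10)],
    [(1, 6), (6, 3), (3, 5), (2, 10), (10, 9), (9, 7)], [(0, 10), (10, 6), (6, 3), (2, 5), (5, 9), (9, 4)],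
    [(1, 4), (4, 10), (10, 9), (3, 7), (7, 6), (6, 5)], [(0, 2), (2, 9), (9, 5), (3, 4), (4, 8), (8, 6)],
    [(1, 2), (2, 7), (3, 10), (10, 9), (5, 8), (8, 6)], [(0, 5), (1, 9), (3, 4), (6, 10)],
    [(0, 3), (1, 5), (4, 9), (6, 8)], [(0, 3), (3, 4), (4, 5), (1, 8), (8, 9), (9, 7)],
    [(3, 7), (7, 9), (9, 4), (5, 10), (10, 6), (6, 8)], [(0, 7), (7, 1), (3, 9), (9, 6), (5, 10), (10, 8)],
    [(2, 9), (9, 4), (4, 10), (3, 6), (6, 5), (5, 8)], [(1, 3), (3, 4), (2, 7), (7, 5), (6, 10), (10, 9)],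
    [(0, 10), (10, 5), (1, 3), (3, 2), (4, 8), (8, 9)], [(1, 7), (7, 4), (3, 8), (8, 6), (5, 10), (10, 9)],
    [(2, 10), (10, 7), (7, 5), (3, 6), (6, 8), (8, 9)], [(1, 4), (4, 9), (9, 5), (6, 7), (7, 8), (8, 10)],
    [(2, 5), (5, 7), (7, 10), (3, 9), (9, 8), (8, 6)], [(0, 6), (1, 8), (3, 5), (4, 10)],
    [(1, 3), (3, 10), (10, 8), (2, 4), (4, 6), (6, 5)], [(0, 6), (6, 3), (1, 8), (8, 5), (2, 9), (9, 10)],
    [(0, 10), (3, 5), (4, 6), (7, 9)], [(0, 8), (8, 4), (4, 9), (3, 10), (10, 6), (6, 5)],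
    [(1, 8), (8, 10), (10, 2), (4, 5), (5, 7), (7, 9)], [(0, 9), (9, 7), (7, 1), (2, 6), (6, 5), (5, 3)],
    [(0, 1), (1, 9), (2, 5), (5, 7), (3, 8), (8, 10)], [(0, 9), (1, 7), (3, 6), (4, 8)],
    [(0, 9), (9, 2), (2, 4), (3, 5), (5, 7), (7, 6)], [(1, 7), (3, 5), (6, 10), (8, 9)],
    [(1, 4), (4, 10), (2, 7), (7, 8), (3, 6), (6, 9)], [(1, 3), (3, 10), (10, 6), (4, 5), (5, 9), (9, 7)],
    [(1, 9), (9, 3), (4, 10), (10, 6), (5, 8), (8, 7)], [(0, 9), (9, 7), (7, 5), (3, 8), (8, 10), (10, 6)],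
    [(1, 3), (3, 8), (8, 7), (4, 9), (9, 6), (6, 5)], [(1, 10), (10, 3), (3, 6), (2, 4), (4, 8), (8, 9)],
    [(0, 9), (9, 3), (1, 10), (10, 8), (2, 4), (4, 7)], [(1, 9), (9, 10), (10, 4), (3, 5), (5, 6), (6, 7)],
    [(1, 9), (9, 2), (2, 3), (4, 7), (7, 8), (8, 10)], [(0, 2), (1, 6), (7, 10), (8, 9)],
    [(1, 8), (8, 5), (5, 3), (4, 9), (9, 10), (10, 7)], [(0, 1), (1, 2), (2, 4), (3, 10), (10, 6), (6, 9)],
    [(0, 2), (2, 8), (8, 3), (4, 9), (9, 10), (10, 5)], [(0, 2), (2, 8), (8, 9), (1, 3), (3, 6), (6, 5)],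
    [(0, 2), (2, 10), (3, 9), (9, 6), (4, 7), (7, 5)], [(0, 8), (8, 2), (1, 9), (9, 6), (3, 10), (10, 4)],
    [(3, 4), (4, 9), (9, 7), (5, 8), (8, 6), (6, 10)], [(0, 9), (9, 5), (5, 7), (1, 10), (10, 2), (2, 3)],
    [(0, 10), (10, 1), (3, 4), (4, 7), (5, 9), (9, 6)], [(0, 3), (3, 2), (2, 9), (5, 6), (6, 8), (8, 10)]]
  tab := [
    [(1, 2), (3, 3), (4, 2), (7, 2), (8, 6), (9, 3), (10, 2), (15, 5), (16, 0), (17, 2), (18, 2), (19, 3),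
     (20, 2), (21, 3), (22, 2), (30, 2), (31, 2), (32, 7), (33, 1), (34, 8), (35, 3), (36, 4), (37, 6), (38, 2),
     (39, 5), (40, 6), (41, 2), (42, 4), (43, 1), (44, 7), (59, 8), (60, 4), (61, 7), (62, 1), (63, 3), (64, 5),
     (65, 4), (66, 8), (67, 3), (68, 6), (69, 3), (70, 6), (71, 4), (57, 2), (72, 5), (73, 6), (74, 3), (75, 4),
     (76, 8), (77, 0), (78, 2), (79, 1), (80, 1), (81, 5), (82, 5), (83, 7), (84, 2), (85, 3), (86, 6), (111, 2),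
     (112, 1), (113, 2), (114, 5), (115, 3), (116, 8), (117, 2), (118, 8), (119, 2), (120, 5), (121, 2), (122, 2), (123, 1),
     (124, 3), (125, 2), (126, 5), (127, 6), (128, 5), (129, 0), (130, 3), (131, 7), (132, 6), (133, 7), (134, 3), (135, 4),
     (136, 2), (137, 8), (138, 2), (139, 1), (140, 4), (141, 4), (0, 2), (142, 5), (143, 8), (144, 3), (145, 3), (146, 7),
     (147, 7), (148, 6), (149, 7), (150, 7), (151, 6), (152, 5), (153, 0), (154, 8), (155, 3), (156, 2), (6, 7), (157, 3),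
     (158, 4), (159, 6), (160, 8), (207, 5), (208, 8), (209, 5), (210, 3), (50, 6), (211, 5), (212, 0), (213, 4), (214, 3),
     (92, 7), (215, 4), (12, 2), (216, 2), (217, 2), (218, 3), (219, 0), (220, 2), (221, 8), (187, 2), (222, 2), (223, 3),
     (224, 0), (225, 7), (226, 3), (227, 1), (228, 0), (107, 1), (229, 3), (230, 8), (231, 2), (232, 4), (233, 3), (234, 2),
     (235, 2), (236, 3), (237, 2), (238, 1), (239, 3), (240, 8), (241, 2), (242, 4), (243, 5), (89, 6), (244, 1), (14, 6),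
     (245, 2), (205, 7), (246, 5), (247, 4), (58, 7), (248, 4), (249, 7), (250, 4), (251, 2), (252, 2), (253, 5), (95, 4),
     (254, 5), (255, 8), (256, 5), (257, 2), (258, 7), (259, 2), (260, 7), (261, 8), (262, 3), (263, 7), (264, 8), (265, 2),
     (266, 2), (267, 8), (268, 7), (269, 3), (270, 3), (271, 6), (272, 3), (273, 2), (177, 3), (274, 3), (275, 8), (276, 6),
     (277, 5), (278, 5), (108, 7), (279, 7), (280, 4), (13, 7), (281, 3), (282, 2), (283, 7), (284, 7), (285, 7), (286, 2),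
     (191, 4), (287, 3), (288, 7), (358, 2), (359, 2), (360, 3), (361, 2), (362, 4), (363, 3), (364, 5), (365, 2), (366, 5),
     (367, 4), (196, 2), (100, 7), (321, 8), (368, 3), (369, 1), (298, 8), (370, 5), (371, 3), (372, 8), (373, 8), (374, 5),
     (375, 8), (376, 2), (377, 3), (378, 2), (379, 1), (380, 1), (381, 3), (382, 2), (383, 5), (384, 6), (385, 0), (386, 2),
     (200, 2), (52, 7), (387, 7), (388, 8), (389, 4), (173, 2), (390, 6), (391, 0), (392, 7), (393, 2), (394, 5), (395, 2),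
     (354, 8), (396, 2), (397, 5), (398, 2), (399, 6), (400, 0), (401, 3), (109, 6), (295, 7), (402, 2), (403, 2), (404, 5),
     (405, 6), (406, 2), (407, 3), (197, 0), (408, 0), (409, 2), (410, 3), (411, 4), (161, 0), (178, 5), (412, 4), (413, 1),
     (414, 8), (415, 2), (416, 2), (417, 3), (418, 2), (419, 2), (420, 7), (421, 1), (422, 2), (423, 3), (424, 7), (425, 7),
     (426, 4), (164, 3), (427, 3), (428, 2), (429, 2), (430, 5), (431, 7), (432, 7), (180, 7), (433, 5), (434, 7), (435, 7),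
     (436, 7), (437, 6), (438, 5), (439, 2), (440, 8), (441, 4), (442, 7), (443, 6), (444, 2), (445, 1), (446, 8), (447, 2),
     (448, 7), (449, 7), (305, 1), (450, 1), (98, 4), (451, 4), (452, 3), (453, 3), (454, 1), (455, 1), (456, 2), (457, 3),
     (458, 0), (459, 5), (460, 7), (461, 1), (462, 7), (463, 3), (464, 3), (344, 0), (465, 1), (466, 2), (467, 2), (93, 2),
     (468, 5), (469, 0), (169, 5), (470, 5), (471, 0), (472, 6), (88, 2), (473, 8), (27, 1), (28, 3), (29, 3), (474, 7),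
     (166, 7), (475, 4), (204, 6), (476, 1), (322, 3), (195, 4), (477, 4), (333, 2), (334, 3), (478, 8), (90, 3), (343, 3),
     (312, 3), (513, 2), (26, 3), (563, 7), (564, 8), (290, 1), (485, 2), (339, 6), (515, 5), (565, 5), (201, 6), (566, 8),
     (567, 4), (568, 1), (335, 8), (185, 5), (569, 3), (570, 2), (571, 4), (94, 5), (572, 8), (573, 5), (510, 0), (574, 3),
     (575, 2), (576, 5), (577, 2), (496, 5), (578, 2), (337, 5), (579, 2), (580, 3), (481, 8), (171, 4), (504, 3), (581, 4),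
     (582, 8), (583, 8), (584, 5), (162, 0), (585, 0), (586, 5), (535, 8), (587, 7), (588, 3), (529, 0), (589, 3), (590, 0),
     (591, 2), (592, 8), (54, 3), (521, 2), (593, 2), (594, 2), (595, 5), (596, 8), (597, 2), (598, 1), (599, 7), (503, 1),
     (202, 2), (600, 1), (560, 8), (601, 1), (534, 1), (345, 7), (602, 8), (603, 7), (604, 2), (348, 7), (292, 2), (605, 5),
     (606, 2), (551, 8), (11, 0), (607, 7), (608, 2), (556, 2), (609, 8), (610, 2), (163, 1), (611, 5), (612, 3), (613, 4),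
     (351, 4), (614, 4), (615, 8), (616, 2), (617, 4), (618, 3), (313, 1), (619, 2), (620, 8), (184, 2), (621, 1), (317, 4),
     (622, 3), (526, 2), (623, 5), (96, 2), (558, 5), (624, 6), (99, 7), (625, 2), (499, 2), (626, 0), (91, 8), (627, 6),
     (628, 3), (629, 5), (512, 8), (630, 5), (511, 3), (2, 3), (631, 2), (632, 5), (25, 4), (633, 3), (488, 3), (634, 8),
     (635, 2), (318, 7), (353, 8), (636, 3), (637, 5), (308, 1), (638, 2), (543, 3), (639, 3), (640, 5), (316, 0), (641, 2),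
     (642, 7), (326, 6), (643, 0), (644, 1), (645, 3), (479, 0), (646, 6), (557, 0), (552, 2), (647, 6), (648, 1), (357, 2),
     (649, 2), (110, 2), (650, 2), (480, 3), (347, 5), (651, 7), (55, 8), (652, 3), (331, 0), (653, 1), (654, 5), (168, 0),
     (536, 2), (655, 3), (315, 8), (656, 6), (657, 7), (658, 3), (659, 0), (660, 2), (302, 5), (661, 2), (338, 2), (662, 5),
     (53, 2), (663, 2), (664, 2), (665, 3), (666, 6), (667, 5), (668, 7), (669, 2), (670, 1), (671, 2), (330, 2), (672, 6),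
     (673, 3), (486, 8), (674, 2), (675, 2), (356, 2), (676, 3), (301, 7), (56, 8), (677, 2), (678, 5), (324, 6), (679, 5),
     (198, 5), (320, 5), (516, 4), (680, 4), (681, 0), (682, 5), (182, 2), (101, 5), (537, 8), (304, 7), (683, 2), (181, 3),
     (708, 8), (762, 8), (328, 1), (763, 5), (319, 2), (764, 3), (765, 0), (766, 8), (767, 5), (502, 8), (102, 7), (748, 3),
     (727, 1), (768, 7), (297, 2), (769, 3), (754, 2), (183, 8), (732, 7), (733, 2), (770, 8), (689, 2), (771, 0), (48, 6),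
     (739, 5), (550, 2), (772, 1), (755, 4), (773, 2), (538, 6), (704, 6), (718, 4), (175, 7), (774, 7), (775, 7), (776, 5),
     (777, 8), (729, 1), (709, 7), (778, 7), (562, 2), (779, 6), (531, 7), (724, 4), (749, 2), (780, 1), (746, 3), (539, 5),
     (781, 2), (291, 1), (782, 1), (518, 6), (705, 3), (5, 6), (489, 0), (783, 1), (784, 2), (785, 4), (786, 2), (787, 8),
     (350, 4), (174, 6), (788, 2), (525, 7), (760, 3), (789, 8), (790, 8), (711, 2), (519, 8), (506, 2), (791, 2), (694, 6),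
     (355, 2), (734, 8), (349, 8), (759, 2), (310, 6), (792, 8), (793, 3), (794, 3), (296, 7), (751, 7), (728, 8), (795, 8),
     (24, 6), (796, 3), (797, 1), (798, 3), (799, 2), (106, 2), (800, 3), (325, 3), (693, 5), (801, 6), (547, 2), (753, 1),
     (542, 2), (802, 3), (307, 4), (692, 0), (803, 7), (804, 5), (696, 5), (684, 7), (710, 3), (805, 8), (806, 8), (51, 7),
     (807, 8), (165, 8), (494, 6), (698, 2), (179, 2), (808, 8), (541, 2), (714, 2), (809, 4), (206, 2), (701, 5), (810, 6),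
     (811, 4), (706, 2), (192, 3), (532, 2), (533, 7), (170, 3), (46, 5), (97, 8), (49, 6), (549, 5), (509, 0), (744, 4),
     (812, 8), (813, 2), (555, 1), (814, 5), (703, 3), (189, 3), (23, 3), (747, 5), (294, 2), (508, 2), (712, 3), (306, 7),
     (104, 2), (756, 4), (309, 3), (815, 7), (716, 5), (816, 6), (559, 6), (492, 7), (188, 0), (700, 7), (817, 3), (738, 0),
     (340, 5), (528, 8), (735, 7), (818, 2), (819, 4), (820, 2), (723, 2), (821, 5), (695, 5), (822, 4), (540, 4), (823, 3),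
     (824, 3), (47, 3), (688, 2), (332, 5), (825, 8), (548, 7), (826, 8), (827, 5), (505, 3), (484, 4), (828, 1), (544, 2),
     (829, 2), (830, 1), (752, 0), (725, 8), (497, 2), (336, 0), (831, 7), (45, 0), (715, 4), (103, 1), (105, 6), (736, 4),
     (546, 5), (482, 3), (311, 1), (500, 2), (742, 2), (743, 3), (176, 2), (713, 0), (740, 6), (352, 4), (862, 1), (483, 2),
     (855, 7), (863, 2), (846, 5), (864, 5), (837, 1), (865, 4), (866, 7), (867, 3), (346, 3), (842, 2), (702, 7), (843, 8),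
     (720, 3), (687, 7), (856, 4), (690, 1), (868, 0), (554, 2), (87, 3), (545, 1), (731, 2), (522, 1), (869, 5), (167, 7),
     (870, 5), (871, 0), (872, 2), (833, 2), (699, 2), (730, 1), (726, 3), (849, 2), (839, 7), (523, 3), (852, 2), (722, 2),
     (329, 8), (686, 1), (873, 5), (737, 5), (314, 0), (697, 1), (527, 8), (854, 8), (853, 2), (874, 7), (561, 2), (758, 4),
     (721, 0), (327, 7), (875, 6), (717, 3), (299, 7), (517, 3), (845, 3), (530, 7), (293, 3), (493, 7), (691, 6), (685, 6),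
     (876, 2), (501, 3), (836, 6), (745, 4), (190, 2), (877, 7), (757, 0), (741, 7), (341, 0), (858, 7), (303, 3), (859, 3),
     (323, 2), (199, 3), (490, 2), (832, 8), (847, 0), (841, 7), (840, 2), (878, 1), (850, 6), (750, 7), (851, 8), (194, 7),
     (761, 2), (707, 2), (835, 2), (719, 0), (203, 7), (834, 3), (860, 3), (193, 8), (495, 8), (487, 6), (844, 5), (848, 7),
     (491, 3), (289, 8), (514, 2), (857, 7), (186, 7), (524, 6), (879, 2), (838, 5), (520, 2), (553, 8), (861, 2), (507, 7),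
     (300, 2), (498, 5), (342, 0), (172, 3)],
    [(0, 1), (95, 1), (254, 7), (434, 1), (271, 1), (435, 1), (38, 1), (316, 1), (641, 1), (642, 1), (109, 7), (288, 2),
     (326, 1), (73, 1), (74, 4), (5, 1), (753, 1), (218, 1), (813, 1), (80, 1), (469, 1), (76, 2), (416, 1), (617, 1),
     (353, 1), (555, 1), (272, 4), (139, 8), (140, 5), (141, 1), (315, 2), (701, 1), (299, 1), (568, 1), (855, 1), (370, 1),
     (740, 1), (531, 1), (180, 1), (357, 1), (389, 1), (872, 1), (127, 1), (144, 7), (219, 1), (33, 1), (624, 1), (131, 1),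
     (876, 4), (560, 1), (306, 1), (304, 8), (600, 1), (248, 1), (249, 1), (250, 1), (251, 8), (252, 2), (253, 1), (27, 1),
     (60, 6), (452, 5), (169, 1), (441, 1), (125, 1), (148, 1), (561, 8), (63, 1), (103, 1), (586, 1), (237, 1), (526, 1),
     (23, 1), (214, 1), (504, 1), (236, 2), (759, 1), (154, 1), (643, 1), (20, 1), (84, 7), (259, 1), (7, 1), (260, 1),
     (19, 4), (511, 1), (541, 1), (298, 6), (596, 1), (146, 1), (97, 1), (869, 1), (355, 1), (756, 1), (497, 1), (276, 1),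
     (217, 1), (741, 1), (818, 1), (832, 1), (164, 5), (427, 1), (428, 1), (429, 1), (430, 2), (431, 1), (432, 1), (401, 1),
     (117, 1), (433, 4), (116, 1), (155, 1), (402, 1), (802, 1), (324, 1), (265, 1), (727, 1), (300, 1), (301, 1), (479, 1),
     (646, 1), (705, 1), (89, 1), (599, 1), (176, 1), (690, 1), (698, 1), (266, 1), (857, 1), (485, 1), (781, 6), (721, 1),
     (234, 1), (133, 3), (515, 2), (611, 1), (165, 1), (494, 1), (480, 1), (59, 2), (748, 4), (597, 1), (372, 1), (404, 1),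
     (196, 8), (674, 1), (122, 1), (547, 1), (807, 1), (584, 1), (123, 1), (443, 1), (444, 1), (445, 1), (422, 1), (425, 1),
     (446, 1), (39, 1), (384, 1), (159, 8), (653, 8), (209, 1), (594, 1), (181, 1), (731, 1), (816, 1), (143, 1), (664, 1),
     (128, 1), (614, 1), (864, 1), (542, 7), (710, 1), (408, 1), (397, 3), (476, 1), (696, 1), (648, 1), (419, 1), (341, 1),
     (6, 1), (714, 1), (211, 1), (462, 1), (194, 1), (91, 1), (107, 1), (354, 1), (423, 1), (358, 1), (634, 1), (156, 1),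
     (635, 1), (318, 8), (277, 1), (636, 1), (43, 5), (381, 1), (637, 1), (161, 1), (308, 1), (92, 1), (638, 1), (475, 1),
     (543, 5), (639, 5), (640, 1), (25, 1), (202, 1), (199, 1), (677, 1), (406, 1), (303, 1), (606, 1), (13, 1), (800, 1),
     (151, 1), (495, 1), (362, 1), (294, 1), (221, 1), (238, 1), (704, 1), (554, 1), (291, 1), (41, 1), (854, 6), (459, 1),
     (22, 1), (205, 1), (566, 1), (534, 1), (670, 1), (145, 1), (320, 1), (766, 1), (281, 3), (317, 1), (220, 1), (239, 5),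
     (626, 0), (61, 6), (101, 1), (505, 5), (483, 1), (258, 1), (820, 7), (838, 1), (545, 1), (739, 1), (669, 1), (387, 2),
     (340, 8), (870, 1), (688, 1), (115, 1), (618, 1), (609, 1), (581, 1), (579, 1), (436, 1), (522, 1), (660, 5), (521, 1),
     (539, 1), (255, 1), (42, 1), (715, 1), (796, 1), (743, 7), (175, 1), (507, 1), (772, 7), (647, 0), (274, 8), (503, 1),
     (1, 1), (184, 1), (36, 1), (512, 1), (8, 1), (75, 7), (571, 1), (782, 1), (230, 2), (409, 1), (292, 1), (575, 1),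
     (817, 8), (827, 1), (293, 2), (687, 1), (683, 1), (343, 8), (44, 1), (697, 1), (465, 1), (32, 1), (717, 8), (297, 1),
     (108, 1), (793, 1), (312, 1), (798, 1), (603, 6), (852, 1), (484, 1), (364, 5), (749, 1), (577, 1), (333, 1), (593, 1),
     (478, 1), (530, 3), (138, 1), (729, 8), (82, 1), (70, 1), (656, 2), (332, 1), (132, 1), (31, 1), (71, 1), (570, 1),
     (702, 1), (325, 2), (811, 1), (518, 1), (693, 1), (595, 1), (706, 1), (192, 1), (751, 1), (613, 1), (449, 1), (532, 1),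
     (78, 1), (562, 1), (334, 1), (282, 1), (57, 1), (533, 1), (668, 1), (290, 1), (711, 1), (170, 1), (46, 1), (457, 5),
     (734, 1), (335, 1), (49, 1), (405, 1), (549, 1), (509, 1), (744, 1), (201, 1), (812, 0), (157, 1), (722, 1), (351, 1),
     (665, 1), (410, 1), (17, 1), (747, 1), (850, 0), (519, 1), (556, 1), (120, 1), (488, 1), (536, 1), (716, 1), (371, 4),
     (474, 1), (379, 1), (699, 1), (700, 1), (678, 1), (437, 1), (135, 1), (386, 1), (451, 1), (859, 1), (257, 1), (628, 1),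
     (779, 1), (862, 1), (373, 1), (56, 1), (177, 6), (775, 1), (708, 1), (675, 1), (323, 1), (376, 1), (863, 1), (746, 1),
     (296, 1), (843, 0), (226, 1), (360, 1), (400, 3), (186, 1), (853, 1), (564, 1), (166, 1), (359, 1), (182, 1), (380, 4),
     (837, 1), (612, 1), (728, 6), (93, 1), (692, 1), (514, 1), (178, 1), (826, 1), (228, 1), (37, 1), (516, 1), (414, 1),
     (348, 1), (369, 1), (77, 1), (623, 1), (261, 1), (111, 1), (788, 1), (242, 1), (787, 1), (68, 1), (464, 7), (846, 1),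
     (440, 1), (10, 1), (776, 1), (15, 1), (83, 1), (799, 1), (344, 1), (481, 1), (106, 1), (67, 1), (129, 1), (216, 1),
     (680, 1), (823, 1), (191, 1), (629, 1), (801, 1), (338, 1), (415, 1), (407, 7), (241, 1), (777, 1), (454, 1), (845, 5),
     (737, 1), (673, 1), (366, 1), (645, 1), (403, 1), (655, 1), (712, 1), (244, 8), (104, 3), (396, 1), (256, 1), (130, 1),
     (309, 1), (79, 1), (815, 1), (582, 1), (137, 1), (627, 1), (142, 1), (848, 1), (270, 1), (735, 1), (302, 1), (867, 1),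
     (314, 1), (651, 1), (482, 4), (463, 2), (50, 1), (442, 1), (550, 7), (113, 1), (768, 8), (223, 1), (770, 1), (273, 3),
     (806, 1), (264, 1), (472, 1), (96, 1), (506, 3), (723, 1), (786, 1), (569, 1), (210, 1), (279, 1), (587, 1), (529, 1),
     (14, 7), (758, 3), (732, 1), (4, 1), (755, 1), (24, 1), (644, 1), (666, 1), (501, 1), (510, 1), (691, 1), (695, 8),
     (771, 1), (797, 1), (625, 1), (615, 1), (750, 1), (856, 1), (424, 1), (631, 6), (240, 6), (829, 1), (322, 1), (86, 8),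
     (544, 1), (275, 1), (537, 5), (417, 1), (349, 1), (179, 1), (682, 1), (394, 1), (421, 1), (313, 4), (190, 1), (493, 1),
     (877, 1), (527, 2), (757, 1), (616, 3), (760, 1), (53, 1), (267, 1), (681, 1), (548, 7), (694, 1), (733, 1), (517, 1),
     (865, 1), (461, 1), (489, 1), (207, 1), (458, 1), (525, 1), (858, 1), (48, 1), (350, 1), (580, 2), (592, 1), (499, 1),
     (460, 1), (471, 1), (284, 8), (9, 1), (45, 1), (563, 1), (392, 1), (339, 1), (574, 1), (552, 1), (736, 1), (707, 1),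
     (356, 1), (468, 1), (605, 1), (81, 1), (66, 1), (245, 1), (565, 1), (861, 1), (672, 1), (833, 1), (703, 1), (874, 1),
     (828, 5), (342, 1), (840, 1), (232, 1), (337, 1), (725, 1), (619, 1), (622, 1), (630, 1), (29, 1), (588, 1), (150, 1),
     (814, 1), (330, 1), (498, 1), (51, 3), (604, 6), (831, 1), (821, 1), (719, 1), (390, 1), (382, 1), (448, 8), (378, 1),
     (285, 1), (310, 1), (62, 1), (365, 1), (204, 4), (72, 1), (466, 1), (162, 1), (585, 1), (426, 1), (329, 1), (188, 1),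
     (346, 1), (327, 1), (524, 7), (860, 1), (836, 1), (769, 6), (88, 1), (795, 1), (235, 1), (805, 1), (538, 1), (331, 1),
     (839, 1), (773, 1), (208, 1), (229, 6), (849, 1), (280, 1), (567, 1), (336, 1), (513, 1), (227, 1), (367, 1), (491, 1),
     (388, 5), (520, 1), (375, 1), (439, 1), (661, 1), (726, 2), (99, 1), (553, 1), (193, 1), (730, 1), (34, 1), (121, 1),
     (879, 6), (789, 1), (215, 2), (126, 1), (866, 1), (399, 1), (85, 1), (395, 1), (589, 1), (55, 1), (591, 1), (374, 1),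
     (149, 1), (347, 6), (233, 1), (822, 1), (676, 5), (500, 1), (393, 1), (679, 7), (152, 1), (147, 1), (231, 1), (286, 1),
     (18, 1), (508, 1), (784, 1), (224, 1), (2, 4), (590, 1), (64, 1), (413, 1), (851, 1), (804, 1), (352, 1), (134, 1),
     (124, 1), (808, 1), (663, 1), (671, 1), (650, 1), (321, 1), (114, 1), (69, 1), (878, 1), (659, 1), (601, 1), (287, 1),
     (608, 1), (540, 1), (713, 1), (438, 1), (183, 1), (172, 1), (163, 1), (546, 1), (35, 1), (87, 3), (453, 1), (825, 1),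
     (720, 2), (47, 1), (189, 1), (94, 1), (785, 1), (311, 1), (160, 1), (110, 1), (361, 5), (30, 1), (762, 1), (100, 6),
     (496, 0), (486, 4), (420, 1), (819, 1), (572, 1), (834, 1), (792, 2), (54, 1), (278, 1), (90, 1), (305, 1), (752, 1),
     (187, 1), (810, 1), (667, 1), (841, 1), (28, 3), (200, 1), (649, 1), (319, 1), (269, 4), (780, 1), (470, 1), (685, 1),
     (411, 1), (171, 4), (243, 4), (21, 8), (528, 1), (745, 1), (657, 1), (490, 1), (842, 1), (289, 1), (632, 1), (764, 1),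
     (368, 2), (447, 5), (763, 1), (418, 1), (26, 1), (198, 1), (724, 1), (40, 1), (3, 1), (718, 1), (824, 1), (158, 1),
     (16, 1), (467, 5), (803, 1), (247, 1), (875, 1), (774, 1), (602, 1), (102, 1), (621, 1), (652, 1), (558, 1), (98, 1),
     (794, 4), (118, 1), (738, 6), (523, 5), (830, 1), (551, 1), (212, 1), (377, 1), (662, 8), (610, 2), (487, 1), (283, 1),
     (328, 1), (847, 6), (844, 1), (65, 1), (295, 1), (385, 1), (761, 1), (12, 1), (576, 3), (684, 1), (52, 1), (754, 1),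
     (136, 1), (11, 1), (791, 1), (477, 1), (871, 1), (213, 1), (391, 1), (153, 1), (873, 1), (607, 1), (450, 1), (765, 1),
     (598, 6), (557, 1), (268, 1), (578, 1), (654, 1), (620, 1), (456, 1), (583, 1), (383, 1), (173, 1), (783, 1), (195, 1),
     (689, 1), (363, 1), (767, 1), (174, 1), (492, 1), (868, 6), (105, 1), (633, 5), (203, 1), (206, 1), (307, 2), (412, 1),
     (742, 1), (112, 1), (398, 5), (658, 1), (263, 1), (168, 1), (790, 1), (197, 1), (473, 1), (835, 1), (809, 1), (535, 1),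
     (345, 1), (573, 1), (167, 1), (119, 1), (455, 1), (185, 1), (58, 1), (246, 4), (225, 1), (778, 1), (502, 1), (686, 1),
     (559, 7), (709, 1), (222, 1), (262, 1)]]

theorem cA11 : A11.chk 11 g11 = true := by decide +kernel

end Cfsg.Agent.E8A.Two.Mk
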