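import Cfsg.Agent.E8A.Two.C11a

/-!
# The certificate in `M₁₁`: the cosets of `11` (helper44, generated by notes/E8A/two)
-/

set_option autoImplicit false
set_option maxRecDepth 100000

namespace Cfsg.Agent.E8A.Two.Mk

open Cfsg.Agent.R2.T1.Odd Cfsg.Agent.R2.T1.Msk

/-- cosets -/
def B11 : Dt where
  gT := [[(0, 1), (1, 2), (2, 3), (3, 4), (4, 5), (5, 6), (6, 7), (7, 8), (8, 9), (9, 10)]]
  zw := [[], [0], [0, 0], [0, 0, 0], [0, 0, 0, 0], [0, 0, 0, 0, 0], [0, 0, 0, 0, 0, 0], [0, 0, 0, 0, 0, 0, 0], [0, 0, 0, 0, 0, 0, 0, 0], [0, 0, 0, 0, 0, 0, 0, 0, 0], [0, 0, 0, 0, 0, 0, 0, 0, 0, 0]]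
  reps := [
    [], [(2, 6), (6, 10), (10, 7), (3, 9), (9, 4), (4, 5)],
    [(1, 3), (3, 5), (2, 9), (9, 6), (4, 8), (8, 10)], [(2, 10), (3, 4), (5, 9), (6, 7)],
    [(1, 7), (7, 9), (9, 3), (2, 5), (5, 10), (10, 8)], [(0, 3), (4, 5), (6, 10), (7, 8)],
    [(1, 9), (9, 10), (10, 5), (2, 4), (4, 8), (8, 7)], [(2, 7), (7, 10), (10, 6), (3, 5), (5, 4), (4, 9)],
    [(1, 7), (7, 8), (8, 6), (2, 10), (10, 5), (5, 9)], [(0, 7), (1, 4), (5, 6), (8, 9)],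
    [(0, 6), (6, 2), (2, 10), (3, 5), (5, 9), (9, 8)], [(0, 5), (5, 7), (7, 2), (1, 3), (3, 9), (9, 6)],
    [(1, 2), (2, 3), (4, 5), (5, 7), (6, 10), (10, 8)], [(0, 9), (9, 4), (4, 3), (2, 6), (6, 7), (7, 8)],
    [(0, 2), (2, 3), (1, 7), (7, 8), (6, 9), (9, 10)], [(0, 2), (2, 7), (1, 9), (9, 5), (4, 6), (6, 8)],
    [(1, 8), (2, 5), (6, 7), (9, 10)], [(0, 1), (1, 7), (7, 3), (4, 6), (6, 10), (10, 9)],
    [(1, 6), (6, 8), (8, 3), (2, 4), (4, 10), (10, 7)], [(0, 3), (3, 6), (6, 5), (1, 4), (4, 8), (8, 10)],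
    [(1, 10), (10, 5), (5, 4), (3, 7), (7, 8), (8, 9)], [(1, 7), (7, 6), (6, 5), (2, 3), (3, 8), (8, 10)],
    [(0, 3), (3, 7), (7, 1), (4, 9), (9, 10), (10, 6)], [(1, 4), (4, 2), (2, 8), (3, 7), (7, 9), (9, 10)],
    [(0, 10), (2, 7), (4, 5), (8, 9)], [(0, 4), (4, 6), (6, 10), (1, 5), (5, 8), (8, 3)],
    [(0, 9), (2, 3), (4, 7), (6, 10)], [(1, 9), (2, 3), (4, 8), (5, 6)],
    [(0, 9), (9, 6), (6, 1), (2, 5), (5, 8), (8, 10)], [(1, 3), (3, 8), (2, 10), (10, 6), (5, 7), (7, 9)],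
    [(0, 10), (2, 9), (3, 6), (7, 8)], [(0, 7), (7, 2), (1, 6), (6, 10), (3, 4), (4, 9)],
    [(1, 6), (6, 8), (8, 7), (2, 9), (9, 5), (5, 10)], [(1, 10), (10, 8), (3, 4), (4, 5), (6, 7), (7, 9)],
    [(0, 4), (4, 3), (1, 6), (6, 2), (5, 8), (8, 7)], [(0, 1), (1, 8), (2, 4), (4, 5), (3, 9), (9, 10)],
    [(0, 6), (6, 4), (1, 5), (5, 7), (3, 9), (9, 8)], [(0, 4), (4, 8), (8, 10), (2, 5), (5, 3), (3, 9)],
    [(0, 1), (3, 8), (5, 6), (9, 10)], [(1, 8), (8, 2), (2, 4), (3, 10), (10, 9), (9, 7)],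
    [(0, 7), (1, 10), (3, 4), (5, 8)], [(0, 3), (3, 6), (6, 9), (1, 10), (10, 7), (7, 2)],
    [(0, 1), (1, 8), (8, 2), (3, 5), (5, 7), (7, 4)], [(0, 4), (4, 9), (9, 1), (2, 8), (8, 10), (10, 7)],
    [(0, 4), (3, 6), (5, 10), (8, 9)], [(0, 5), (5, 6), (6, 9), (2, 7), (7, 4), (4, 8)],
    [(1, 3), (3, 7), (7, 5), (6, 9), (9, 10), (10, 8)], [(1, 7), (7, 8), (8, 4), (2, 6), (6, 10), (10, 3)],
    [(0, 5), (5, 4), (4, 7), (2, 3), (3, 10), (10, 8)], [(1, 6), (3, 4), (7, 8), (9, 10)],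
    [(0, 4), (2, 7), (3, 9), (6, 8)], [(0, 1), (1, 2), (2, 9), (4, 5), (5, 10), (10, 7)],
    [(1, 5), (5, 10), (10, 4), (2, 3), (3, 6), (6, 8)], [(0, 4), (4, 2), (2, 9), (3, 6), (6, 7), (7, 5)],
    [(0, 5), (5, 9), (9, 3), (2, 7), (7, 8), (8, 10)], [(0, 2), (2, 7), (7, 5), (1, 6), (6, 9), (9, 3)],
    [(0, 1), (3, 10), (4, 7), (8, 9)], [(0, 2), (2, 7), (1, 8), (8, 3), (4, 5), (5, 10)],
    [(1, 9), (9, 4), (4, 6), (3, 8), (8, 10), (10, 5)], [(1, 3), (3, 6), (6, 10), (2, 5), (5, 8), (8, 7)],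
    [(1, 5), (5, 4), (2, 7), (7, 3), (6, 9), (9, 8)], [(1, 4), (4, 5), (5, 10), (3, 9), (9, 8), (8, 7)],
    [(1, 7), (7, 5), (2, 6), (6, 8), (4, 10), (10, 9)], [(0, 1), (1, 5), (5, 9), (3, 6), (6, 4), (4, 10)],
    [(0, 10), (1, 2), (4, 9), (6, 7)], [(1, 2), (2, 6), (6, 8), (3, 7), (7, 10), (10, 5)],
    [(0, 2), (1, 8), (4, 5), (6, 9)], [(0, 3), (3, 8), (8, 5), (1, 9), (9, 6), (6, 2)],
    [(1, 2), (2, 9), (9, 3), (4, 6), (6, 8), (8, 5)], [(0, 8), (8, 3), (3, 9), (1, 5), (5, 10), (10, 2)],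
    [(0, 6), (1, 5), (4, 7), (9, 10)], [(1, 6), (6, 7), (7, 10), (3, 8), (8, 5), (5, 9)],
    [(0, 4), (4, 2), (2, 8), (1, 3), (3, 5), (5, 10)], [(1, 9), (9, 2), (2, 5), (3, 10), (10, 6), (6, 8)],
    [(0, 5), (5, 9), (1, 7), (7, 2), (4, 10), (10, 8)], [(1, 5), (3, 8), (4, 10), (7, 9)],
    [(0, 1), (1, 8), (8, 7), (4, 10), (10, 9), (9, 5)], [(1, 9), (9, 7), (7, 6), (2, 8), (8, 4), (4, 10)],
    [(1, 5), (5, 3), (3, 10), (4, 7), (7, 8), (8, 6)], [(0, 3), (3, 8), (8, 9), (1, 6), (6, 10), (10, 4)],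
    [(0, 8), (1, 5), (3, 6), (7, 10)], [(1, 7), (7, 9), (9, 2), (3, 4), (4, 10), (10, 6)],
    [(0, 2), (1, 10), (3, 5), (6, 7)], [(0, 3), (3, 10), (10, 2), (1, 6), (6, 5), (5, 9)],
    [(0, 4), (2, 10), (3, 8), (5, 7)], [(1, 9), (9, 10), (2, 8), (8, 5), (3, 6), (6, 4)],
    [(0, 9), (2, 8), (3, 5), (7, 10)], [(0, 3), (1, 6), (2, 4), (7, 9)],
    [(1, 5), (5, 8), (8, 2), (6, 9), (9, 7), (7, 10)], [(0, 3), (3, 7), (7, 6), (1, 2), (2, 9), (9, 5)],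
    [(1, 3), (2, 4), (5, 7), (8, 9)], [(0, 1), (1, 10), (10, 7), (2, 5), (5, 6), (6, 8)],
    [(1, 3), (3, 2), (2, 9), (4, 10), (10, 8), (8, 7)], [(1, 8), (2, 9), (3, 4), (5, 10)],
    [(1, 7), (7, 5), (5, 8), (2, 9), (9, 6), (6, 3)], [(0, 2), (2, 8), (8, 7), (1, 9), (9, 3), (3, 10)],
    [(0, 5), (5, 7), (2, 4), (4, 10), (6, 8), (8, 9)], [(0, 6), (6, 4), (4, 8), (2, 3), (3, 7), (7, 9)],
    [(1, 6), (6, 9), (9, 5), (2, 4), (4, 3), (3, 8)], [(0, 1), (1, 8), (8, 5), (3, 7), (7, 6), (6, 10)],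
    [(0, 5), (5, 3), (3, 4), (6, 8), (8, 10), (10, 7)], [(1, 2), (3, 6), (5, 9), (8, 10)],
    [(0, 1), (1, 7), (2, 8), (8, 3), (4, 6), (6, 5)], [(1, 3), (3, 8), (8, 6), (2, 7), (7, 10), (10, 4)],
    [(0, 4), (1, 2), (5, 8), (9, 10)], [(1, 5), (5, 3), (2, 6), (6, 9), (4, 10), (10, 8)],
    [(0, 2), (2, 4), (4, 7), (3, 6), (6, 9), (9, 8)], [(2, 6), (6, 5), (3, 8), (8, 4), (7, 10), (10, 9)],
    [(0, 1), (1, 5), (2, 3), (3, 10), (4, 6), (6, 7)], [(1, 2), (2, 9), (9, 7), (3, 6), (6, 10), (10, 4)],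
    [(0, 4), (4, 7), (7, 5), (1, 2), (2, 6), (6, 10)], [(0, 1), (2, 3), (5, 10), (7, 8)],
    [(1, 3), (2, 9), (5, 6), (7, 10)], [(1, 4), (4, 9), (9, 6), (2, 10), (10, 7), (7, 3)],
    [(2, 3), (3, 10), (10, 4), (5, 7), (7, 9), (9, 6)], [(0, 3), (3, 2), (2, 6), (1, 9), (9, 4), (4, 10)],
    [(0, 10), (1, 7), (2, 6), (5, 8)], [(0, 2), (2, 7), (7, 8), (4, 9), (9, 6), (6, 10)],
    [(0, 1), (1, 10), (10, 8), (3, 5), (5, 9), (9, 7)], [(1, 5), (5, 4), (4, 8), (3, 9), (9, 10), (10, 6)],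
    [(1, 10), (10, 4), (4, 5), (2, 7), (7, 6), (6, 9)], [(0, 5), (2, 6), (4, 9), (8, 10)],
    [(0, 2), (2, 3), (3, 4), (1, 9), (9, 6), (6, 7)], [(1, 6), (6, 3), (3, 7), (4, 5), (5, 8), (8, 10)],
    [(0, 2), (2, 6), (6, 4), (5, 8), (8, 9), (9, 7)], [(0, 5), (5, 2), (2, 7), (1, 4), (4, 9), (9, 10)],
    [(0, 8), (1, 9), (2, 6), (4, 7)], [(1, 6), (6, 7), (2, 4), (4, 9), (3, 10), (10, 5)],
    [(0, 2), (1, 3), (4, 6), (7, 8)], [(0, 3), (3, 1), (1, 4), (2, 7), (7, 6), (6, 10)],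
    [(0, 3), (1, 5), (4, 9), (6, 8)], [(0, 2), (2, 10), (3, 9), (9, 6), (4, 7), (7, 5)],
    [(0, 8), (1, 10), (3, 9), (4, 6)], [(1, 4), (2, 7), (3, 5), (8, 10)],
    [(1, 3), (3, 7), (7, 4), (2, 8), (8, 5), (5, 6)], [(1, 4), (4, 8), (8, 7), (2, 3), (3, 10), (10, 6)],
    [(2, 4), (3, 5), (6, 8), (9, 10)], [(0, 8), (8, 1), (1, 2), (3, 6), (6, 7), (7, 9)],
    [(0, 1), (1, 4), (2, 10), (10, 9), (5, 6), (6, 7)], [(0, 6), (2, 9), (3, 10), (4, 5)],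
    [(2, 8), (8, 6), (6, 9), (3, 10), (10, 7), (7, 4)], [(0, 2), (2, 10), (10, 4), (1, 3), (3, 9), (9, 8)],
    [(0, 3), (3, 5), (1, 6), (6, 8), (7, 9), (9, 10)], [(1, 7), (7, 5), (5, 9), (3, 4), (4, 8), (8, 10)],
    [(1, 7), (7, 3), (3, 10), (2, 6), (6, 9), (9, 5)], [(1, 10), (10, 7), (2, 8), (8, 4), (3, 6), (6, 5)],
    [(1, 2), (2, 8), (3, 9), (9, 4), (5, 7), (7, 6)], [(1, 4), (4, 9), (2, 3), (3, 8), (5, 7), (7, 10)],
    [(0, 5), (1, 4), (2, 8), (3, 9)], [(1, 9), (9, 7), (2, 4), (4, 6), (3, 5), (5, 8)],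
    [(0, 2), (2, 5), (5, 4), (1, 7), (7, 8), (8, 10)], [(0, 1), (2, 9), (4, 10), (6, 8)],
    [(1, 3), (3, 6), (6, 4), (7, 9), (9, 8), (8, 10)], [(0, 5), (5, 10), (1, 6), (6, 9), (2, 4), (4, 7)],
    [(0, 7), (2, 8), (4, 6), (9, 10)], [(1, 9), (9, 2), (4, 6), (6, 7), (5, 10), (10, 8)],
    [(0, 4), (4, 8), (8, 6), (1, 3), (3, 10), (10, 9)], [(1, 6), (6, 8), (2, 10), (10, 3), (4, 5), (5, 9)],
    [(1, 9), (9, 6), (2, 3), (3, 5), (7, 10), (10, 8)], [(1, 6), (6, 9), (9, 8), (4, 10), (10, 5), (5, 7)],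
    [(1, 6), (6, 5), (5, 4), (2, 8), (8, 10), (10, 9)], [(1, 5), (5, 10), (2, 8), (8, 9), (3, 7), (7, 6)],
    [(1, 10), (2, 6), (3, 8), (4, 5)], [(1, 4), (4, 5), (2, 3), (3, 7), (6, 8), (8, 9)],
    [(0, 2), (2, 9), (9, 8), (3, 7), (7, 5), (5, 10)], [(0, 4), (1, 9), (3, 5), (7, 8)],
    [(1, 2), (2, 3), (3, 4), (5, 8), (8, 7), (7, 9)], [(0, 3), (3, 5), (5, 6), (2, 10), (10, 7), (7, 4)],
    [(0, 4), (4, 6), (6, 2), (5, 7), (7, 9), (9, 8)], [(0, 3), (3, 4), (1, 7), (7, 10), (6, 9), (9, 8)],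
    [(1, 4), (4, 3), (3, 8), (5, 6), (6, 10), (10, 7)], [(1, 2), (3, 5), (4, 7), (6, 9)],
    [(0, 6), (6, 2), (1, 7), (7, 10), (4, 5), (5, 9)], [(1, 7), (2, 5), (3, 4), (6, 8)],
    [(1, 2), (2, 10), (10, 8), (4, 9), (9, 7), (7, 5)], [(0, 4), (4, 5), (5, 9), (2, 8), (8, 6), (6, 10)],
    [(1, 6), (6, 2), (2, 3), (5, 8), (8, 9), (9, 10)], [(1, 3), (3, 9), (9, 2), (4, 5), (5, 8), (8, 6)],
    [(1, 10), (2, 8), (4, 7), (5, 9)], [(0, 1), (1, 6), (6, 8), (3, 10), (10, 5), (5, 4)],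
    [(0, 2), (2, 8), (8, 3), (4, 9), (9, 10), (10, 5)], [(0, 1), (1, 10), (10, 3), (2, 7), (7, 5), (5, 4)],
    [(0, 4), (4, 1), (1, 10), (2, 6), (6, 9), (9, 8)], [(0, 1), (1, 9), (9, 7), (3, 8), (8, 6), (6, 4)],
    [(0, 4), (4, 6), (1, 8), (8, 10), (2, 9), (9, 5)], [(0, 10), (1, 5), (2, 3), (6, 9)],
    [(0, 6), (6, 8), (8, 3), (1, 7), (7, 5), (5, 10)], [(1, 3), (3, 5), (5, 8), (4, 7), (7, 10), (10, 9)],
    [(0, 1), (1, 2), (2, 7), (3, 9), (9, 8), (8, 5)], [(0, 3), (3, 4), (1, 2), (2, 6), (5, 7), (7, 8)],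
    [(1, 6), (6, 3), (3, 10), (2, 9), (9, 8), (8, 4)], [(0, 6), (1, 2), (3, 4), (8, 9)],
    [(0, 8), (2, 4), (3, 10), (6, 7)], [(1, 3), (3, 6), (6, 9), (2, 10), (10, 5), (5, 4)],
    [(1, 6), (6, 2), (3, 8), (8, 10), (4, 9), (9, 7)], [(0, 1), (2, 8), (3, 7), (6, 9)],
    [(0, 5), (5, 10), (10, 7), (1, 3), (3, 8), (8, 9)], [(1, 3), (3, 5), (5, 7), (2, 6), (6, 4), (4, 10)],
    [(0, 4), (4, 7), (7, 3), (1, 8), (8, 10), (10, 5)], [(0, 2), (2, 7), (1, 10), (10, 6), (3, 9), (9, 4)],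
    [(0, 9), (1, 6), (3, 7), (5, 10)], [(1, 3), (3, 4), (4, 5), (2, 10), (10, 7), (7, 8)],
    [(0, 2), (2, 5), (5, 10), (1, 6), (6, 3), (3, 8)], [(1, 9), (2, 10), (3, 7), (5, 8)],
    [(0, 4), (4, 3), (3, 9), (1, 8), (8, 5), (5, 6)], [(0, 3), (3, 8), (8, 7), (1, 4), (4, 2), (2, 5)],
    [(1, 4), (2, 6), (5, 10), (7, 9)], [(1, 10), (10, 2), (2, 8), (3, 5), (5, 6), (6, 9)],
    [(0, 2), (1, 9), (4, 10), (5, 7)], [(0, 9), (2, 5), (3, 8), (4, 6)],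
    [(2, 4), (4, 8), (8, 5), (3, 9), (9, 6), (6, 7)], [(1, 9), (9, 5), (5, 8), (2, 6), (6, 10), (10, 4)],
    [(0, 10), (3, 5), (4, 6), (7, 9)], [(1, 9), (9, 2), (2, 3), (4, 7), (7, 8), (8, 10)],
    [(0, 3), (3, 5), (5, 4), (1, 10), (10, 9), (9, 6)], [(0, 4), (1, 7), (3, 10), (5, 6)],
    [(0, 8), (8, 5), (5, 4), (3, 9), (9, 7), (7, 10)], [(0, 2), (2, 5), (1, 9), (9, 7), (6, 10), (10, 8)],
    [(0, 2), (2, 8), (8, 1), (3, 4), (4, 7), (7, 5)], [(1, 5), (5, 9), (9, 8), (2, 3), (3, 10), (10, 7)],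
    [(1, 9), (9, 8), (8, 10), (2, 7), (7, 5), (5, 6)], [(2, 3), (3, 9), (4, 10), (10, 5), (6, 8), (8, 7)],
    [(1, 6), (2, 5), (3, 9), (4, 10)], [(2, 10), (10, 8), (3, 5), (5, 7), (4, 6), (6, 9)],
    [(1, 10), (10, 9), (9, 7), (4, 8), (8, 5), (5, 6)], [(0, 5), (1, 2), (3, 10), (7, 9)],
    [(1, 9), (9, 5), (5, 3), (2, 8), (8, 6), (6, 7)], [(1, 10), (10, 8), (8, 5), (2, 3), (3, 9), (9, 4)],
    [(0, 10), (1, 8), (3, 9), (5, 7)], [(0, 2), (2, 7), (7, 3), (1, 4), (4, 8), (8, 9)],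
    [(0, 1), (1, 8), (2, 7), (7, 3), (4, 10), (10, 6)], [(0, 4), (4, 3), (2, 7), (7, 9), (5, 6), (6, 10)],
    [(0, 4), (4, 2), (2, 5), (1, 6), (6, 8), (8, 9)], [(1, 8), (8, 7), (2, 10), (10, 4), (3, 5), (5, 9)],
    [(0, 1), (1, 7), (7, 8), (2, 9), (9, 3), (3, 4)], [(0, 2), (2, 6), (3, 9), (9, 10), (4, 8), (8, 7)],
    [(0, 2), (3, 7), (4, 9), (5, 6)], [(2, 5), (5, 6), (3, 4), (4, 8), (7, 9), (9, 10)],
    [(1, 5), (2, 10), (4, 6), (8, 9)], [(2, 3), (3, 4), (4, 5), (6, 9), (9, 8), (8, 10)],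
    [(1, 6), (6, 9), (9, 4), (2, 3), (3, 7), (7, 10)], [(1, 5), (5, 7), (7, 3), (6, 8), (8, 10), (10, 9)],
    [(1, 6), (6, 5), (3, 10), (10, 7), (4, 8), (8, 9)], [(2, 3), (4, 6), (5, 8), (7, 10)],
    [(0, 2), (2, 8), (1, 7), (7, 3), (5, 6), (6, 10)], [(2, 8), (3, 6), (4, 5), (7, 9)],
    [(0, 3), (3, 10), (10, 1), (2, 4), (4, 5), (5, 7)], [(1, 8), (8, 4), (4, 3), (2, 7), (7, 9), (9, 6)],
    [(1, 6), (6, 5), (5, 2), (3, 7), (7, 9), (9, 8)], [(2, 4), (4, 10), (10, 3), (5, 6), (6, 9), (9, 7)],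
    [(0, 2), (3, 9), (5, 8), (6, 10)], [(0, 6), (6, 5), (5, 10), (1, 3), (3, 9), (9, 4)],
    [(1, 8), (8, 10), (10, 2), (4, 5), (5, 7), (7, 9)], [(0, 1), (1, 5), (5, 2), (3, 7), (7, 10), (10, 9)],
    [(0, 8), (8, 1), (1, 10), (4, 7), (7, 6), (6, 5)], [(0, 5), (1, 10), (6, 9), (7, 8)],
    [(1, 2), (2, 5), (5, 6), (3, 8), (8, 9), (9, 7)], [(0, 3), (3, 9), (9, 2), (4, 6), (6, 7), (7, 10)],
    [(1, 9), (9, 6), (6, 3), (2, 4), (4, 5), (5, 10)], [(1, 5), (5, 3), (3, 6), (2, 7), (7, 9), (9, 10)],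
    [(2, 9), (9, 10), (10, 5), (3, 7), (7, 4), (4, 6)], [(1, 7), (7, 6), (6, 8), (3, 10), (10, 4), (4, 9)],
    [(0, 3), (1, 7), (2, 8), (4, 10)], [(0, 8), (8, 9), (2, 7), (7, 10), (3, 6), (6, 4)],
    [(1, 3), (3, 4), (4, 8), (2, 6), (6, 9), (9, 7)], [(1, 7), (7, 10), (10, 5), (3, 9), (9, 6), (6, 4)],
    [(1, 3), (4, 8), (5, 10), (6, 7)], [(0, 10), (1, 6), (4, 8), (5, 9)],
    [(2, 7), (3, 8), (5, 10), (6, 9)], [(1, 10), (10, 3), (3, 7), (2, 5), (5, 9), (9, 6)],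
    [(2, 10), (10, 9), (9, 6), (4, 5), (5, 8), (8, 7)], [(0, 2), (4, 7), (5, 10), (6, 8)],
    [(0, 5), (1, 7), (2, 9), (4, 6)], [(1, 5), (5, 9), (9, 4), (6, 10), (10, 8), (8, 7)],
    [(1, 9), (9, 4), (2, 8), (8, 3), (5, 10), (10, 7)], [(1, 5), (5, 3), (3, 7), (2, 9), (9, 4), (4, 8)],
    [(2, 5), (5, 9), (9, 7), (4, 6), (6, 8), (8, 10)], [(0, 1), (1, 4), (4, 5), (2, 7), (7, 8), (8, 6)],
    [(2, 8), (8, 10), (3, 7), (7, 5), (4, 9), (9, 6)], [(0, 2), (2, 8), (3, 5), (5, 9), (4, 6), (6, 7)],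
    [(0, 4), (4, 9), (2, 7), (7, 3), (5, 10), (10, 8)], [(0, 9), (9, 10), (10, 6), (1, 3), (3, 5), (5, 2)],
    [(0, 3), (3, 5), (1, 10), (10, 2), (4, 7), (7, 8)], [(1, 5), (5, 2), (2, 9), (3, 8), (8, 6), (6, 10)],
    [(1, 10), (3, 6), (4, 9), (5, 7)], [(1, 4), (4, 10), (10, 7), (2, 5), (5, 8), (8, 9)],
    [(0, 1), (1, 6), (6, 5), (4, 9), (9, 7), (7, 10)], [(0, 3), (3, 10), (10, 7), (1, 8), (8, 4), (4, 6)],
    [(0, 9), (9, 2), (2, 10), (1, 6), (6, 4), (4, 3)], [(0, 5), (5, 6), (6, 8), (1, 9), (9, 3), (3, 7)],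
    [(0, 3), (3, 6), (6, 2), (1, 5), (5, 4), (4, 7)], [(0, 1), (1, 9), (2, 10), (10, 4), (3, 7), (7, 6)],
    [(1, 2), (2, 10), (10, 3), (6, 9), (9, 8), (8, 7)], [(1, 4), (4, 5), (5, 6), (2, 9), (9, 10), (10, 8)],
    [(0, 5), (5, 10), (10, 4), (2, 8), (8, 7), (7, 9)], [(1, 10), (10, 4), (2, 8), (8, 7), (3, 9), (9, 6)],
    [(1, 7), (7, 2), (2, 10), (3, 8), (8, 9), (9, 4)], [(0, 3), (3, 6), (6, 7), (2, 8), (8, 5), (5, 10)],
    [(0, 1), (1, 4), (4, 7), (3, 5), (5, 10), (10, 6)], [(0, 8), (1, 2), (3, 7), (4, 5)],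
    [(0, 5), (5, 2), (2, 8), (3, 10), (10, 9), (9, 6)], [(1, 5), (5, 9), (9, 6), (2, 8), (8, 3), (3, 4)],
    [(0, 2), (2, 4), (4, 8), (1, 6), (6, 5), (5, 7)], [(0, 6), (6, 10), (10, 2), (1, 5), (5, 7), (7, 8)],
    [(0, 3), (3, 2), (2, 4), (7, 8), (8, 9), (9, 10)], [(1, 6), (6, 4), (4, 2), (5, 9), (9, 10), (10, 7)],
    [(0, 2), (2, 9), (9, 1), (5, 6), (6, 7), (7, 8)], [(0, 4), (4, 3), (3, 2), (1, 7), (7, 6), (6, 9)],
    [(1, 6), (6, 10), (10, 8), (2, 7), (7, 3), (3, 9)], [(0, 4), (4, 3), (3, 6), (1, 10), (10, 2), (2, 5)],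
    [(0, 2), (2, 4), (4, 1), (5, 10), (10, 8), (8, 9)], [(1, 6), (6, 4), (4, 9), (3, 5), (5, 10), (10, 8)],
    [(0, 1), (2, 6), (3, 4), (7, 10)], [(0, 2), (2, 8), (8, 6), (1, 7), (7, 9), (9, 4)],
    [(1, 2), (2, 5), (5, 4), (3, 10), (10, 7), (7, 6)], [(1, 2), (2, 3), (3, 8), (4, 10), (10, 9), (9, 6)],
    [(1, 7), (2, 3), (4, 5), (9, 10)], [(0, 6), (6, 5), (5, 3), (2, 4), (4, 7), (7, 10)],
    [(1, 2), (3, 9), (4, 8), (7, 10)], [(1, 7), (7, 4), (4, 2), (3, 10), (10, 5), (5, 8)],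
    [(0, 3), (3, 7), (7, 5), (2, 4), (4, 6), (6, 8)], [(0, 4), (4, 9), (9, 8), (1, 6), (6, 7), (7, 3)],
    [(0, 6), (1, 10), (2, 7), (4, 8)], [(1, 5), (5, 9), (2, 6), (6, 3), (4, 7), (7, 10)],
    [(1, 4), (4, 10), (10, 5), (2, 8), (8, 6), (6, 3)], [(0, 3), (2, 10), (4, 8), (6, 9)],
    [(1, 5), (5, 4), (4, 10), (2, 9), (9, 6), (6, 7)], [(1, 4), (4, 9), (9, 8), (2, 5), (5, 3), (3, 6)],
    [(0, 6), (2, 5), (3, 7), (8, 10)], [(0, 5), (1, 3), (2, 10), (6, 8)],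
    [(3, 5), (5, 9), (9, 6), (4, 10), (10, 7), (7, 8)], [(1, 8), (8, 4), (4, 5), (3, 6), (6, 10), (10, 9)],
    [(0, 1), (4, 6), (5, 7), (8, 10)], [(0, 3), (3, 10), (1, 5), (5, 2), (6, 8), (8, 7)],
    [(0, 4), (4, 1), (2, 3), (3, 6), (7, 8), (8, 9)], [(0, 4), (1, 5), (2, 8), (6, 7)],
    [(0, 9), (9, 7), (1, 3), (3, 6), (2, 10), (10, 8)], [(0, 7), (7, 4), (4, 8), (1, 3), (3, 9), (9, 5)],
    [(1, 9), (9, 3), (4, 10), (10, 6), (5, 8), (8, 7)], [(0, 5), (2, 7), (3, 6), (4, 10)],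
    [(0, 3), (3, 1), (1, 5), (2, 9), (9, 10), (10, 4)], [(1, 3), (3, 9), (9, 10), (2, 4), (4, 7), (7, 6)],
    [(0, 4), (1, 6), (2, 3), (8, 10)], [(2, 10), (10, 6), (6, 4), (3, 9), (9, 7), (7, 8)],
    [(1, 4), (4, 2), (2, 10), (5, 7), (7, 6), (6, 8)], [(1, 3), (3, 8), (8, 4), (2, 5), (5, 9), (9, 10)],
    [(0, 3), (3, 5), (5, 1), (2, 6), (6, 10), (10, 8)], [(1, 10), (10, 7), (7, 8), (2, 9), (9, 4), (4, 6)],
    [(0, 5), (5, 3), (2, 9), (9, 8), (4, 6), (6, 10)], [(1, 2), (2, 8), (8, 9), (3, 10), (10, 4), (4, 5)],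
    [(0, 1), (1, 5), (5, 3), (2, 8), (8, 10), (10, 6)], [(1, 8), (8, 3), (3, 2), (4, 6), (6, 9), (9, 10)],
    [(0, 3), (2, 6), (5, 7), (9, 10)], [(0, 7), (7, 10), (10, 9), (3, 4), (4, 5), (5, 6)],
    [(1, 9), (9, 6), (6, 4), (2, 5), (5, 7), (7, 8)], [(1, 7), (7, 5), (5, 3), (2, 10), (10, 4), (4, 6)],
    [(1, 9), (9, 7), (7, 8), (3, 6), (6, 5), (5, 10)], [(0, 8), (3, 4), (5, 7), (6, 9)],
    [(0, 5), (5, 10), (10, 2), (1, 7), (7, 3), (3, 4)], [(3, 9), (4, 7), (5, 6), (8, 10)],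
    [(0, 2), (2, 1), (1, 4), (3, 5), (5, 6), (6, 8)], [(2, 9), (9, 5), (5, 4), (3, 8), (8, 10), (10, 7)],
    [(2, 7), (7, 6), (6, 3), (4, 8), (8, 10), (10, 9)], [(0, 2), (2, 3), (1, 5), (5, 10), (4, 7), (7, 9)],
    [(0, 7), (1, 3), (4, 10), (6, 9)], [(0, 1), (1, 7), (7, 6), (2, 4), (4, 10), (10, 5)],
    [(1, 5), (5, 2), (2, 3), (4, 9), (9, 7), (7, 6)], [(0, 7), (7, 1), (2, 9), (9, 5), (3, 4), (4, 10)],
    [(0, 1), (1, 9), (9, 2), (5, 8), (8, 7), (7, 6)], [(0, 2), (1, 6), (7, 10), (8, 9)],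
    [(2, 3), (3, 6), (6, 7), (4, 9), (9, 10), (10, 8)], [(0, 3), (3, 8), (8, 10), (2, 6), (6, 4), (4, 7)],
    [(0, 6), (6, 3), (3, 10), (4, 8), (8, 5), (5, 7)], [(1, 10), (10, 5), (5, 2), (4, 9), (9, 6), (6, 8)],
    [(2, 4), (4, 5), (5, 9), (3, 7), (7, 10), (10, 8)], [(0, 4), (4, 9), (9, 3), (1, 2), (2, 5), (5, 7)],
    [(0, 6), (2, 4), (5, 9), (7, 8)], [(0, 1), (2, 7), (5, 9), (6, 10)],
    [(0, 6), (3, 8), (4, 9), (7, 10)], [(1, 4), (4, 3), (3, 9), (2, 6), (6, 8), (8, 10)],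
    [(0, 6), (1, 3), (5, 8), (7, 9)], [(1, 6), (2, 8), (3, 10), (5, 7)],
    [(1, 7), (7, 3), (3, 5), (2, 8), (8, 4), (4, 9)], [(0, 2), (2, 7), (7, 1), (3, 6), (6, 8), (8, 10)],
    [(2, 6), (6, 4), (4, 8), (3, 10), (10, 5), (5, 9)], [(1, 8), (8, 10), (10, 3), (2, 5), (5, 6), (6, 4)],
    [(1, 3), (3, 9), (4, 6), (6, 10), (5, 7), (7, 8)], [(1, 7), (7, 2), (2, 4), (3, 6), (6, 5), (5, 9)],
    [(0, 7), (7, 1), (1, 10), (2, 4), (4, 6), (6, 3)], [(0, 3), (3, 2), (1, 4), (4, 6), (5, 8), (8, 9)],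
    [(1, 8), (8, 9), (9, 5), (2, 7), (7, 10), (10, 3)], [(0, 2), (2, 3), (3, 8), (1, 10), (10, 7), (7, 4)],
    [(0, 1), (1, 6), (6, 2), (3, 9), (9, 4), (4, 8)], [(1, 6), (6, 7), (7, 9), (2, 10), (10, 4), (4, 8)],
    [(1, 4), (4, 7), (7, 3), (2, 6), (6, 5), (5, 8)], [(1, 8), (8, 5), (5, 7), (2, 3), (3, 6), (6, 9)],
    [(0, 1), (1, 3), (3, 2), (4, 5), (5, 6), (6, 10)], [(1, 9), (9, 8), (8, 2), (3, 5), (5, 4), (4, 10)],
    [(0, 1), (1, 6), (6, 9), (2, 10), (10, 8), (8, 5)], [(1, 3), (3, 5), (5, 9), (2, 7), (7, 6), (6, 8)],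
    [(1, 9), (9, 5), (5, 7), (3, 10), (10, 8), (8, 4)], [(1, 8), (8, 7), (7, 6), (2, 4), (4, 5), (5, 3)],
    [(0, 7), (7, 9), (9, 8), (1, 2), (2, 4), (4, 10)], [(1, 3), (3, 10), (10, 2), (6, 7), (7, 8), (8, 9)],
    [(1, 5), (5, 4), (4, 3), (2, 8), (8, 7), (7, 10)], [(1, 4), (4, 9), (9, 5), (6, 7), (7, 8), (8, 10)],
    [(1, 2), (2, 7), (7, 4), (6, 8), (8, 9), (9, 10)], [(1, 7), (7, 4), (4, 6), (2, 3), (3, 9), (9, 8)],
    [(0, 1), (1, 10), (10, 4), (3, 6), (6, 7), (7, 8)], [(0, 2), (2, 8), (8, 10), (5, 7), (7, 6), (6, 9)],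
    [(0, 4), (4, 9), (1, 7), (7, 8), (2, 6), (6, 5)], [(1, 2), (2, 4), (4, 7), (3, 8), (8, 5), (5, 10)],
    [(1, 4), (2, 9), (3, 8), (6, 7)], [(1, 9), (2, 7), (3, 10), (4, 6)],
    [(0, 10), (2, 8), (3, 4), (5, 6)], [(1, 8), (8, 10), (3, 5), (5, 4), (6, 9), (9, 7)],
    [(1, 4), (4, 3), (3, 2), (5, 9), (9, 7), (7, 8)], [(1, 9), (9, 4), (4, 7), (2, 10), (10, 6), (6, 5)],
    [(0, 3), (3, 8), (8, 2), (4, 5), (5, 10), (10, 9)], [(1, 3), (3, 10), (10, 8), (2, 4), (4, 6), (6, 5)],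
    [(1, 9), (9, 4), (4, 3), (3, 5), (2, 7), (7, 8), (8, 6), (6, 10)], [(0, 1), (1, 2), (2, 3), (4, 7), (7, 6), (6, 8)],
    [(1, 2), (2, 4), (4, 9), (3, 7), (7, 8), (8, 6)], [(0, 4), (1, 8), (6, 10), (7, 9)],
    [(1, 7), (7, 2), (2, 8), (4, 5), (5, 10), (10, 6)], [(0, 1), (1, 3), (2, 5), (5, 10), (6, 9), (9, 7)],
    [(0, 9), (4, 10), (5, 8), (6, 7)], [(0, 5), (5, 4), (4, 10), (3, 8), (8, 6), (6, 9)],
    [(0, 3), (3, 5), (5, 10), (1, 9), (9, 2), (2, 7)], [(2, 9), (9, 6), (6, 8), (3, 4), (4, 7), (7, 10)],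
    [(2, 7), (7, 9), (9, 5), (4, 10), (10, 8), (8, 6)], [(0, 5), (2, 3), (6, 7), (8, 9)],
    [(1, 4), (4, 5), (5, 9), (9, 3), (2, 8), (8, 10), (10, 7), (7, 6)], [(0, 1), (1, 10), (10, 6), (4, 5), (5, 8), (8, 9)],
    [(0, 3), (2, 9), (4, 7), (5, 8)], [(1, 8), (8, 6), (2, 3), (3, 10), (4, 9), (9, 5)],
    [(1, 4), (4, 8), (8, 3), (2, 10), (10, 9), (9, 5)], [(1, 8), (8, 3), (3, 4), (5, 7), (7, 10), (10, 6)],
    [(1, 8), (8, 2), (2, 7), (4, 6), (6, 10), (10, 5)], [(1, 5), (5, 6), (3, 7), (7, 10), (4, 9), (9, 8)],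
    [(0, 2), (2, 10), (1, 4), (4, 9), (5, 8), (8, 6)], [(2, 3), (3, 5), (5, 10), (4, 8), (8, 9), (9, 7)],
    [(0, 1), (1, 5), (5, 6), (3, 4), (4, 8), (8, 7)], [(2, 9), (9, 8), (8, 7), (3, 5), (5, 6), (6, 4)],
    [(0, 9), (1, 2), (5, 7), (6, 8)], [(0, 8), (8, 10), (10, 7), (2, 3), (3, 9), (9, 6)],
    [(0, 3), (1, 4), (5, 9), (7, 10)], [(1, 5), (5, 10), (10, 9), (2, 7), (7, 8), (8, 4)],
    [(1, 8), (8, 5), (5, 3), (4, 9), (9, 10), (10, 7)], [(2, 5), (5, 10), (10, 9), (3, 6), (6, 4), (4, 7)],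
    [(0, 8), (1, 7), (4, 9), (5, 10)], [(1, 10), (10, 5), (2, 9), (9, 8), (3, 6), (6, 7)],
    [(0, 3), (3, 4), (4, 7), (1, 2), (2, 10), (10, 9)], [(0, 1), (1, 9), (9, 5), (2, 4), (4, 7), (7, 3)],
    [(1, 4), (4, 3), (2, 5), (5, 7), (6, 9), (9, 10)], [(1, 3), (3, 10), (10, 6), (4, 5), (5, 9), (9, 7)],
    [(0, 8), (8, 4), (4, 9), (3, 10), (10, 6), (6, 5)], [(0, 5), (5, 1), (1, 8), (2, 3), (3, 4), (4, 6)],
    [(1, 2), (2, 6), (6, 5), (3, 4), (4, 9), (9, 10)], [(3, 8), (8, 9), (9, 10), (4, 5), (5, 7), (7, 6)],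
    [(2, 7), (7, 5), (5, 8), (3, 9), (9, 10), (10, 4)], [(0, 4), (1, 3), (2, 6), (5, 9)],
    [(1, 5), (5, 7), (7, 2), (3, 8), (8, 4), (4, 6)], [(1, 3), (3, 9), (9, 5), (5, 4), (2, 6), (6, 7), (7, 10), (10, 8)],
    [(0, 1), (1, 7), (2, 10), (10, 6), (4, 9), (9, 8)], [(0, 1), (1, 6), (6, 4), (2, 5), (5, 3), (3, 7)],
    [(2, 8), (8, 7), (7, 3), (5, 9), (9, 10), (10, 6)], [(0, 4), (4, 5), (5, 6), (1, 9), (9, 7), (7, 2)],
    [(0, 1), (1, 4), (2, 6), (6, 3), (7, 9), (9, 8)], [(1, 5), (5, 8), (8, 10), (2, 4), (4, 9), (9, 3)],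
    [(0, 5), (5, 4), (1, 2), (2, 8), (3, 6), (6, 10)], [(1, 10), (10, 3), (3, 5), (4, 6), (6, 8), (8, 7)],
    [(1, 5), (5, 2), (3, 4), (4, 7), (8, 9), (9, 10)], [(0, 4), (4, 9), (9, 5), (1, 10), (10, 3), (3, 8)],
    [(0, 4), (4, 1), (1, 9), (2, 3), (3, 10), (10, 5)], [(0, 5), (5, 4), (4, 3), (1, 7), (7, 9), (9, 8)],
    [(0, 2), (2, 5), (1, 3), (3, 10), (4, 9), (9, 6)], [(1, 10), (10, 2), (2, 4), (5, 8), (8, 6), (6, 7)],
    [(0, 4), (4, 10), (10, 6), (3, 9), (9, 5), (5, 7)], [(1, 4), (4, 10), (2, 7), (7, 8), (3, 6), (6, 9)],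
    [(1, 3), (3, 9), (9, 7), (2, 8), (8, 10), (10, 5)], [(0, 1), (1, 3), (2, 6), (6, 4), (8, 9), (9, 10)],
    [(0, 7), (7, 6), (1, 10), (10, 2), (5, 9), (9, 8)], [(0, 8), (2, 3), (4, 10), (5, 9)],
    [(1, 4), (4, 8), (8, 6), (3, 5), (5, 7), (7, 9)], [(0, 2), (1, 7), (3, 8), (5, 9)],
    [(1, 9), (9, 10), (10, 4), (3, 5), (5, 6), (6, 7)], [(1, 5), (5, 7), (2, 8), (8, 6), (4, 9), (9, 10)],
    [(0, 9), (1, 7), (3, 6), (4, 8)], [(0, 7), (7, 10), (10, 3), (1, 6), (6, 4), (4, 8)],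
    [(1, 5), (2, 6), (3, 9), (7, 8)], [(0, 4), (4, 6), (6, 1), (2, 7), (7, 3), (3, 5)],
    [(1, 8), (8, 5), (5, 9), (2, 4), (4, 10), (10, 6)], [(0, 7), (7, 5), (2, 10), (10, 4), (6, 9), (9, 8)],
    [(0, 5), (1, 6), (3, 8), (4, 7)], [(0, 5), (5, 3), (3, 10), (1, 4), (4, 2), (2, 6)],
    [(0, 2), (2, 4), (4, 10), (3, 5), (5, 8), (8, 7)], [(0, 9), (1, 5), (2, 7), (3, 4)],
    [(0, 2), (2, 10), (10, 1), (4, 6), (6, 9), (9, 7)], [(0, 3), (3, 6), (6, 10), (2, 4), (4, 9), (9, 5)],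
    [(0, 2), (2, 1), (1, 5), (4, 9), (9, 8), (8, 7)], [(0, 1), (1, 5), (2, 4), (4, 8), (6, 10), (10, 9)],
    [(0, 1), (1, 9), (4, 7), (7, 8), (5, 6), (6, 10)], [(0, 10), (1, 4), (3, 7), (6, 8)],
    [(0, 1), (1, 10), (10, 9), (2, 8), (8, 4), (4, 3)], [(2, 10), (10, 7), (7, 5), (3, 6), (6, 8), (8, 9)],
    [(0, 5), (5, 7), (7, 3), (2, 8), (8, 6), (6, 4)], [(0, 4), (4, 7), (7, 6), (2, 10), (10, 8), (8, 9)],
    [(1, 9), (4, 5), (6, 8), (7, 10)], [(1, 7), (7, 8), (2, 4), (4, 10), (3, 9), (9, 5)],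
    [(1, 3), (3, 2), (2, 5), (4, 6), (6, 7), (7, 9)], [(0, 1), (1, 2), (2, 8), (4, 9), (9, 5), (5, 6)],
    [(0, 2), (2, 6), (1, 3), (3, 4), (5, 8), (8, 10)], [(0, 5), (1, 8), (2, 4), (7, 10)],
    [(1, 3), (3, 7), (7, 2), (4, 9), (9, 5), (5, 10)], [(2, 6), (6, 3), (3, 4), (5, 10), (10, 8), (8, 7)],
    [(0, 4), (4, 5), (1, 8), (8, 2), (3, 10), (10, 6)], [(0, 8), (1, 3), (2, 7), (9, 10)],
    [(1, 9), (9, 3), (3, 2), (5, 7), (7, 6), (6, 10)], [(0, 1), (1, 4), (4, 9), (3, 7), (7, 5), (5, 8)],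
    [(0, 1), (1, 7), (7, 4), (5, 9), (9, 6), (6, 8)], [(0, 7), (7, 5), (5, 1), (2, 4), (4, 9), (9, 6)],
    [(1, 7), (3, 5), (6, 10), (8, 9)], [(0, 7), (1, 2), (3, 8), (6, 10)],
    [(1, 7), (2, 4), (6, 9), (8, 10)], [(2, 8), (8, 4), (4, 6), (3, 9), (9, 5), (5, 10)],
    [(2, 8), (8, 3), (3, 5), (4, 7), (7, 6), (6, 10)], [(0, 3), (3, 7), (7, 4), (1, 5), (5, 10), (10, 8)],
    [(0, 4), (4, 7), (7, 10), (1, 9), (9, 3), (3, 6)], [(1, 2), (2, 7), (7, 3), (4, 10), (10, 5), (5, 9)],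
    [(2, 5), (5, 8), (8, 4), (3, 7), (7, 6), (6, 9)], [(0, 5), (5, 6), (6, 7), (1, 2), (2, 4), (4, 3)],
    [(2, 4), (4, 6), (6, 10), (3, 8), (8, 7), (7, 9)], [(1, 8), (8, 4), (2, 10), (10, 7), (5, 6), (6, 9)],
    [(1, 7), (7, 6), (6, 2), (4, 8), (8, 9), (9, 5)], [(2, 8), (8, 5), (5, 7), (3, 4), (4, 10), (10, 9)],
    [(0, 5), (5, 1), (1, 2), (4, 7), (7, 8), (8, 9)], [(1, 7), (7, 3), (3, 6), (4, 10), (10, 8), (8, 5)],
    [(2, 5), (3, 10), (4, 9), (7, 8)], [(0, 1), (3, 9), (4, 5), (6, 7)],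
    [(2, 5), (5, 4), (4, 3), (6, 10), (10, 8), (8, 9)], [(1, 4), (4, 6), (6, 9), (2, 8), (8, 7), (7, 5)],
    [(0, 2), (2, 9), (9, 6), (1, 10), (10, 8), (8, 3)], [(0, 7), (1, 5), (2, 9), (8, 10)],
    [(0, 6), (6, 7), (7, 1), (2, 5), (5, 10), (10, 4)], [(0, 3), (3, 6), (1, 2), (2, 4), (7, 10), (10, 8)],
    [(1, 3), (3, 4), (2, 7), (7, 5), (6, 10), (10, 9)], [(0, 2), (2, 4), (4, 3), (1, 8), (8, 6), (6, 10)],
    [(1, 4), (3, 10), (5, 8), (6, 9)], [(1, 10), (10, 4), (4, 8), (2, 5), (5, 7), (7, 3)],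
    [(1, 2), (2, 9), (4, 7), (7, 6), (5, 8), (8, 10)], [(0, 5), (5, 6), (6, 1), (4, 10), (10, 7), (7, 9)],
    [(0, 2), (2, 5), (5, 1), (3, 9), (9, 10), (10, 7)], [(0, 3), (3, 4), (4, 6), (5, 9), (9, 10), (10, 8)],
    [(1, 2), (2, 6), (6, 7), (4, 5), (5, 9), (9, 8)], [(3, 10), (10, 9), (9, 8), (4, 6), (6, 7), (7, 5)],
    [(1, 10), (2, 3), (6, 8), (7, 9)], [(0, 8), (1, 4), (2, 5), (6, 10)],
    [(1, 7), (7, 6), (2, 9), (9, 4), (3, 5), (5, 10)], [(0, 6), (1, 9), (2, 8), (5, 10)],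
    [(0, 6), (6, 2), (3, 10), (10, 9), (4, 7), (7, 8)], [(0, 1), (1, 9), (9, 6), (3, 10), (10, 7), (7, 5)],
    [(1, 2), (2, 10), (10, 6), (3, 5), (5, 8), (8, 4)], [(0, 3), (3, 7), (7, 2), (1, 9), (9, 8), (8, 4)],
    [(1, 10), (10, 3), (3, 6), (2, 4), (4, 8), (8, 9)], [(1, 6), (6, 2), (2, 9), (3, 4), (4, 5), (5, 7)],
    [(1, 4), (4, 7), (7, 2), (6, 10), (10, 9), (9, 8)], [(1, 5), (2, 4), (3, 7), (6, 10)],
    [(2, 6), (6, 8), (8, 3), (4, 9), (9, 5), (5, 7)], [(1, 2), (2, 7), (7, 5), (3, 6), (6, 4), (4, 8)],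
    [(1, 5), (5, 6), (6, 7), (2, 10), (10, 8), (8, 3)], [(1, 2), (2, 5), (3, 7), (7, 4), (8, 10), (10, 9)],
    [(1, 4), (4, 6), (6, 3), (7, 10), (10, 8), (8, 9)], [(1, 8), (8, 7), (7, 9), (3, 10), (10, 5), (5, 6)],
    [(1, 9), (9, 4), (4, 2), (3, 6), (6, 8), (8, 7)], [(0, 4), (4, 7), (7, 1), (5, 8), (8, 6), (6, 9)],
    [(0, 2), (2, 4), (1, 3), (3, 6), (5, 10), (10, 7)], [(1, 8), (8, 2), (3, 4), (4, 9), (5, 6), (6, 7)],
    [(0, 2), (2, 5), (3, 8), (8, 9), (4, 7), (7, 10)], [(1, 10), (10, 8), (8, 9), (2, 6), (6, 5), (5, 7)],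
    [(0, 1), (2, 10), (3, 5), (4, 9)], [(1, 6), (6, 10), (10, 2), (3, 4), (4, 8), (8, 5)],
    [(0, 3), (3, 1), (4, 7), (7, 10), (5, 6), (6, 8)], [(1, 8), (8, 9), (2, 3), (3, 4), (6, 10), (10, 7)],
    [(0, 1), (1, 3), (3, 5), (4, 6), (6, 9), (9, 8)], [(2, 6), (6, 9), (9, 10), (4, 7), (7, 8), (8, 5)],
    [(1, 8), (8, 5), (2, 6), (6, 7), (3, 10), (10, 4)], [(0, 1), (1, 3), (3, 8), (2, 6), (6, 7), (7, 5)],
    [(1, 9), (9, 7), (7, 10), (2, 5), (5, 3), (3, 4)], [(1, 3), (3, 2), (4, 7), (7, 5), (6, 8), (8, 10)],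
    [(2, 7), (7, 8), (8, 9), (3, 4), (4, 6), (6, 5)], [(0, 2), (2, 10), (10, 6), (1, 8), (8, 7), (7, 5)],
    [(0, 10), (1, 3), (2, 5), (4, 7)], [(1, 5), (5, 8), (8, 9), (3, 6), (6, 7), (7, 4)],
    [(0, 5), (1, 9), (3, 4), (6, 10)], [(3, 6), (6, 9), (9, 5), (4, 8), (8, 7), (7, 10)],
    [(0, 3), (3, 5), (5, 7), (4, 9), (9, 8), (8, 10)], [(0, 3), (1, 9), (6, 7), (8, 10)],
    [(0, 9), (1, 10), (2, 4), (5, 6)], [(0, 6), (1, 8), (3, 5), (4, 10)],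
    [(1, 8), (8, 9), (9, 6), (4, 7), (7, 5), (5, 10)], [(1, 5), (5, 3), (3, 4), (4, 9), (2, 10), (10, 6), (6, 8), (8, 7)],
    [(0, 2), (2, 3), (3, 6), (5, 9), (9, 7), (7, 10)], [(1, 2), (2, 8), (8, 5), (6, 10), (10, 7), (7, 9)],
    [(2, 10), (10, 3), (3, 7), (4, 8), (8, 6), (6, 5)], [(0, 8), (8, 4), (4, 10), (1, 3), (3, 6), (6, 2)],
    [(0, 3), (1, 10), (2, 5), (8, 9)], [(0, 7), (1, 9), (2, 5), (3, 6)],
    [(0, 1), (1, 5), (5, 4), (2, 3), (3, 8), (8, 9)], [(1, 3), (2, 8), (4, 9), (6, 10)],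
    [(1, 6), (6, 8), (8, 4), (3, 9), (9, 7), (7, 5)], [(0, 9), (1, 4), (2, 10), (7, 8)],
    [(0, 7), (7, 3), (3, 10), (1, 5), (5, 4), (4, 9)], [(1, 4), (4, 10), (10, 9), (3, 7), (7, 6), (6, 5)],
    [(1, 8), (8, 7), (7, 10), (2, 6), (6, 4), (4, 9)], [(0, 5), (5, 10), (2, 6), (6, 8), (3, 9), (9, 7)],
    [(1, 4), (4, 2), (2, 7), (3, 9), (9, 5), (5, 6)], [(1, 8), (8, 4), (4, 10), (2, 3), (3, 7), (7, 5)],
    [(1, 6), (6, 9), (2, 5), (5, 3), (7, 8), (8, 10)], [(1, 5), (5, 8), (2, 7), (7, 6), (3, 4), (4, 10)],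
    [(0, 3), (3, 4), (4, 1), (2, 5), (5, 6), (6, 9)], [(1, 9), (9, 8), (2, 4), (4, 3), (6, 7), (7, 10)],
    [(0, 4), (4, 1), (1, 8), (2, 7), (7, 5), (5, 9)], [(0, 3), (3, 2), (1, 8), (8, 7), (6, 10), (10, 9)],
    [(1, 8), (8, 10), (10, 6), (2, 9), (9, 3), (3, 7)], [(1, 8), (8, 9), (9, 4), (2, 6), (6, 3), (3, 5)],
    [(1, 8), (8, 6), (6, 7), (3, 9), (9, 4), (4, 10)], [(1, 3), (3, 2), (2, 6), (5, 10), (10, 9), (9, 8)],
    [(0, 8), (8, 7), (7, 5), (1, 3), (3, 10), (10, 4)], [(2, 9), (4, 8), (5, 7), (6, 10)],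
    [(1, 9), (9, 8), (8, 5), (3, 4), (4, 7), (7, 6)], [(0, 2), (2, 1), (1, 8), (3, 9), (9, 7), (7, 6)],
    [(0, 7), (1, 8), (2, 3), (4, 9)], [(1, 8), (8, 3), (2, 6), (6, 10), (5, 9), (9, 7)],
    [(0, 1), (2, 5), (4, 8), (7, 9)], [(0, 5), (5, 8), (8, 7), (3, 9), (9, 4), (4, 6)],
    [(1, 9), (9, 2), (2, 6), (3, 7), (7, 5), (5, 4)], [(0, 2), (1, 5), (3, 10), (4, 8)],
    [(1, 4), (4, 8), (2, 7), (7, 10), (5, 9), (9, 6)], [(1, 6), (6, 3), (3, 5), (2, 10), (10, 9), (9, 7)],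
    [(3, 4), (4, 9), (9, 7), (5, 8), (8, 6), (6, 10)], [(0, 1), (2, 4), (3, 6), (5, 8)],
    [(1, 9), (9, 3), (3, 4), (2, 10), (10, 8), (8, 6)], [(1, 6), (6, 4), (4, 7), (2, 8), (8, 9), (9, 3)],
    [(1, 5), (5, 6), (6, 2), (3, 10), (10, 9), (9, 4)], [(2, 6), (3, 7), (4, 10), (8, 9)],
    [(0, 4), (4, 8), (8, 1), (2, 10), (10, 5), (5, 6)], [(1, 6), (2, 7), (4, 9), (5, 8)],
    [(1, 7), (7, 4), (4, 9), (2, 5), (5, 6), (6, 10)], [(0, 8), (2, 10), (5, 6), (7, 9)],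
    [(2, 4), (4, 3), (3, 6), (5, 7), (7, 8), (8, 10)], [(1, 2), (2, 3), (3, 9), (5, 10), (10, 6), (6, 7)],
    [(0, 8), (1, 6), (2, 9), (3, 5)], [(0, 10), (1, 9), (2, 4), (3, 8)],
    [(1, 2), (2, 5), (5, 10), (4, 8), (8, 6), (6, 9)], [(1, 8), (8, 6), (6, 2), (3, 5), (5, 10), (10, 7)],
    [(1, 10), (10, 2), (2, 7), (3, 4), (4, 9), (9, 8)], [(1, 6), (6, 7), (7, 8), (2, 3), (3, 5), (5, 4)],
    [(1, 5), (5, 10), (10, 7), (3, 4), (4, 6), (6, 9)], [(1, 2), (4, 10), (5, 6), (7, 8)],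
    [(0, 1), (1, 2), (2, 6), (7, 8), (8, 10), (10, 9)], [(2, 5), (5, 7), (7, 10), (3, 9), (9, 8), (8, 6)],
    [(0, 9), (1, 8), (2, 6), (3, 10)], [(1, 8), (8, 2), (2, 10), (3, 9), (9, 6), (6, 5)],
    [(0, 8), (8, 10), (10, 4), (1, 5), (5, 6), (6, 9)], [(0, 2), (2, 9), (9, 7), (1, 3), (3, 5), (5, 4)],
    [(0, 4), (2, 5), (6, 9), (7, 10)], [(0, 5), (5, 9), (9, 2), (3, 6), (6, 8), (8, 4)],
    [(0, 6), (6, 9), (2, 3), (3, 10), (5, 8), (8, 7)], [(2, 3), (3, 7), (7, 8), (5, 6), (6, 10), (10, 9)],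
    [(0, 2), (3, 4), (7, 9), (8, 10)], [(0, 6), (1, 7), (2, 10), (3, 9)],
    [(0, 6), (6, 10), (1, 4), (4, 8), (2, 9), (9, 3)], [(2, 7), (7, 3), (3, 10), (4, 5), (5, 6), (6, 8)],
    [(0, 7), (2, 6), (3, 5), (4, 8)], [(3, 7), (7, 9), (9, 4), (5, 10), (10, 6), (6, 8)],
    [(2, 3), (3, 8), (8, 6), (4, 7), (7, 5), (5, 9)], [(2, 10), (10, 5), (5, 3), (4, 7), (7, 9), (9, 8)],
    [(0, 8), (8, 6), (1, 3), (3, 5), (2, 4), (4, 7)], [(2, 9), (9, 3), (4, 5), (5, 10), (6, 7), (7, 8)],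
    [(1, 10), (10, 7), (7, 9), (2, 4), (4, 3), (3, 5)], [(1, 7), (7, 10), (2, 4), (4, 8), (3, 5), (5, 6)],
    [(0, 3), (1, 2), (4, 6), (5, 10)], [(1, 2), (2, 4), (4, 6), (5, 7), (7, 10), (10, 9)],
    [(1, 10), (10, 6), (6, 3), (2, 7), (7, 8), (8, 5)], [(0, 7), (1, 6), (2, 10), (4, 5)],
    [(1, 2), (2, 6), (3, 10), (10, 8), (4, 7), (7, 9)], [(0, 1), (1, 2), (3, 8), (8, 7), (4, 9), (9, 10)],
    [(0, 2), (1, 4), (3, 6), (9, 10)], [(1, 8), (2, 10), (3, 6), (4, 7)],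
    [(0, 7), (2, 4), (3, 9), (5, 10)], [(2, 5), (5, 3), (3, 8), (4, 10), (10, 6), (6, 7)],
    [(0, 2), (2, 9), (9, 5), (3, 4), (4, 8), (8, 6)], [(0, 3), (3, 10), (10, 9), (1, 7), (7, 8), (8, 5)],
    [(1, 4), (4, 5), (5, 2), (3, 6), (6, 7), (7, 10)], [(0, 5), (5, 4), (1, 6), (6, 7), (8, 9), (9, 10)],
    [(0, 7), (3, 10), (5, 9), (6, 8)], [(0, 4), (1, 10), (2, 9), (3, 7)],
    [(1, 9), (9, 5), (2, 3), (3, 6), (4, 10), (10, 7)], [(0, 4), (4, 10), (1, 8), (8, 6), (2, 5), (5, 7)],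
    [(0, 5), (5, 1), (1, 9), (2, 6), (6, 7), (7, 10)], [(1, 6), (6, 10), (10, 3), (4, 7), (7, 9), (9, 5)],
    [(0, 6), (1, 4), (2, 3), (5, 7)], [(1, 7), (7, 9), (2, 6), (6, 4), (3, 8), (8, 5)],
    [(1, 7), (7, 9), (9, 10), (4, 6), (6, 5), (5, 8)], [(1, 7), (7, 10), (10, 4), (2, 9), (9, 8), (8, 5)],
    [(0, 2), (2, 1), (1, 7), (5, 10), (10, 9), (9, 6)], [(0, 1), (1, 9), (9, 4), (2, 7), (7, 10), (10, 8)],
    [(0, 6), (6, 8), (1, 5), (5, 3), (2, 7), (7, 4)], [(0, 3), (1, 8), (2, 7), (5, 6)],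
    [(0, 5), (3, 7), (4, 8), (9, 10)], [(1, 10), (10, 9), (9, 3), (2, 6), (6, 7), (7, 4)],
    [(1, 10), (10, 7), (7, 6), (3, 9), (9, 5), (5, 8)], [(1, 10), (10, 9), (2, 5), (5, 8), (3, 4), (4, 6)],
    [(0, 9), (1, 3), (4, 5), (8, 10)], [(1, 8), (3, 7), (4, 6), (5, 9)],
    [(0, 1), (1, 2), (4, 8), (8, 5), (6, 7), (7, 10)], [(0, 8), (8, 3), (3, 10), (1, 6), (6, 9), (9, 7)],
    [(0, 3), (3, 4), (4, 5), (1, 8), (8, 9), (9, 7)], [(0, 7), (7, 8), (1, 2), (2, 3), (5, 9), (9, 6)]]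
  tab := [
    [(0, 1), (2, 5), (4, 3), (5, 1), (8, 6), (9, 1), (10, 1), (11, 6), (15, 5), (16, 1), (17, 1), (18, 1),
     (19, 10), (20, 1), (21, 2), (29, 1), (30, 1), (31, 7), (32, 7), (33, 3), (34, 2), (35, 0), (36, 6), (37, 1),
     (38, 1), (39, 5), (40, 1), (3, 1), (41, 1), (55, 3), (56, 1), (57, 1), (58, 6), (59, 10), (60, 1), (61, 2),
     (62, 1), (63, 1), (64, 1), (65, 8), (66, 1), (67, 4), (68, 1), (69, 1), (70, 1), (71, 1), (72, 10), (73, 5),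
     (74, 6), (24, 1), (75, 1), (76, 2), (77, 6), (78, 1), (79, 1), (103, 1), (104, 1), (81, 6), (105, 3), (106, 1),
     (107, 1), (108, 0), (109, 7), (110, 1), (111, 1), (97, 1), (112, 1), (113, 1), (114, 1), (115, 1), (116, 1), (117, 1),
     (118, 3), (119, 8), (120, 7), (121, 1), (122, 0), (123, 7), (124, 1), (125, 1), (126, 1), (127, 7), (128, 1), (129, 1),
     (130, 1), (131, 1), (132, 1), (133, 1), (134, 4), (135, 1), (136, 1), (137, 1), (138, 0), (139, 1), (140, 1), (141, 1),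
     (142, 1), (143, 1), (7, 1), (144, 5), (145, 3), (26, 1), (146, 1), (184, 10), (185, 1), (186, 10), (187, 1), (188, 0),
     (189, 1), (48, 1), (190, 5), (191, 1), (192, 1), (193, 9), (100, 1), (194, 7), (195, 1), (196, 1), (197, 10), (198, 5),
     (199, 6), (200, 1), (201, 1), (45, 1), (46, 1), (202, 1), (203, 1), (204, 6), (90, 1), (205, 1), (206, 1), (207, 9),
     (208, 1), (209, 1), (210, 1), (211, 8), (212, 1), (213, 1), (214, 2), (215, 1), (216, 1), (217, 3), (218, 3), (175, 1),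
     (219, 8), (220, 10), (221, 1), (152, 4), (222, 1), (223, 1), (224, 3), (225, 1), (226, 3), (227, 6), (228, 1), (229, 9),
     (230, 5), (231, 1), (232, 9), (233, 7), (234, 0), (235, 1), (236, 1), (237, 1), (156, 1), (238, 1), (239, 1), (240, 9),
     (241, 1), (94, 4), (242, 5), (243, 1), (244, 1), (245, 1), (246, 10), (247, 5), (248, 2), (249, 1), (250, 1), (14, 0),
     (251, 1), (252, 10), (253, 1), (174, 1), (311, 3), (312, 1), (313, 1), (314, 4), (315, 1), (163, 1), (264, 8), (316, 1),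
     (165, 1), (317, 1), (280, 1), (318, 1), (319, 6), (320, 1), (99, 8), (321, 7), (322, 1), (323, 9), (324, 6), (325, 1),
     (326, 1), (327, 1), (328, 1), (257, 1), (329, 1), (284, 1), (330, 1), (331, 5), (332, 1), (333, 2), (334, 0), (335, 1),
     (282, 9), (336, 1), (177, 1), (337, 5), (338, 3), (275, 7), (339, 1), (340, 3), (341, 10), (342, 1), (343, 1), (344, 10),
     (151, 1), (345, 1), (346, 8), (347, 5), (259, 1), (348, 1), (349, 1), (350, 5), (266, 1), (351, 2), (352, 1), (353, 1),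
     (354, 4), (355, 3), (356, 8), (357, 1), (358, 7), (359, 1), (360, 1), (361, 1), (362, 1), (363, 10), (364, 1), (365, 1),
     (366, 3), (367, 5), (368, 1), (369, 1), (370, 1), (158, 4), (167, 1), (371, 1), (372, 1), (294, 1), (148, 1), (373, 4),
     (374, 1), (375, 7), (376, 1), (377, 1), (378, 1), (89, 5), (379, 9), (380, 1), (381, 1), (382, 5), (383, 7), (384, 1),
     (385, 3), (256, 1), (95, 10), (386, 1), (387, 6), (388, 1), (389, 1), (390, 5), (271, 1), (391, 4), (392, 6), (47, 8),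
     (181, 1), (393, 1), (394, 1), (395, 9), (396, 0), (397, 2), (296, 6), (302, 7), (180, 1), (398, 4), (291, 4), (27, 1),
     (28, 9), (1, 1), (399, 1), (400, 5), (401, 2), (402, 10), (403, 1), (404, 1), (405, 5), (290, 1), (281, 1), (301, 6),
     (299, 1), (480, 1), (481, 0), (482, 2), (414, 1), (417, 4), (483, 1), (428, 7), (484, 1), (447, 1), (485, 1), (486, 4),
     (411, 7), (446, 1), (487, 7), (449, 1), (488, 1), (87, 1), (83, 9), (489, 8), (444, 1), (468, 1), (472, 1), (490, 1),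
     (491, 10), (492, 1), (493, 1), (494, 1), (495, 1), (496, 1), (497, 1), (498, 10), (147, 9), (499, 1), (435, 5), (410, 8),
     (43, 6), (500, 2), (501, 8), (502, 0), (503, 1), (504, 2), (505, 1), (506, 1), (507, 1), (508, 1), (509, 6), (426, 1),
     (510, 1), (456, 1), (511, 0), (512, 1), (513, 1), (514, 7), (515, 1), (516, 1), (292, 1), (517, 1), (518, 2), (519, 1),
     (520, 1), (440, 9), (521, 5), (52, 1), (522, 1), (523, 1), (450, 1), (12, 3), (524, 1), (50, 1), (525, 1), (477, 3),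
     (457, 5), (53, 1), (96, 1), (526, 1), (42, 1), (454, 1), (527, 8), (528, 9), (529, 1), (54, 1), (530, 1), (429, 1),
     (531, 1), (408, 0), (285, 9), (532, 1), (23, 8), (443, 1), (183, 3), (304, 1), (533, 4), (473, 8), (534, 2), (535, 1),
     (536, 1), (305, 3), (161, 1), (537, 6), (538, 1), (84, 1), (539, 1), (448, 3), (540, 1), (541, 9), (424, 6), (542, 3),
     (420, 5), (166, 1), (441, 1), (543, 1), (544, 7), (545, 1), (255, 1), (286, 1), (265, 6), (546, 4), (547, 10), (49, 1),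
     (432, 3), (475, 2), (548, 1), (549, 8), (550, 9), (470, 8), (551, 6), (552, 5), (425, 1), (553, 1), (554, 1), (555, 1),
     (556, 1), (309, 9), (557, 1), (558, 6), (452, 9), (474, 4), (559, 1), (560, 1), (561, 4), (562, 1), (563, 4), (157, 8),
     (564, 8), (565, 1), (566, 2), (416, 2), (427, 1), (567, 1), (568, 1), (463, 4), (182, 8), (569, 1), (51, 0), (570, 1),
     (571, 1), (572, 3), (573, 5), (168, 1), (574, 2), (102, 6), (575, 9), (160, 1), (576, 1), (469, 10), (577, 7), (578, 1),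
     (633, 3), (630, 2), (623, 1), (594, 1), (276, 1), (609, 1), (644, 2), (615, 1), (178, 1), (622, 1), (645, 1), (462, 1),
     (646, 8), (310, 10), (647, 1), (465, 1), (584, 1), (162, 1), (479, 9), (298, 1), (627, 1), (617, 5), (179, 2), (634, 1),
     (306, 0), (648, 9), (610, 1), (464, 5), (649, 1), (616, 7), (650, 1), (651, 1), (579, 3), (652, 1), (407, 6), (150, 10),
     (581, 8), (653, 1), (433, 0), (654, 1), (603, 1), (655, 1), (154, 1), (632, 1), (86, 1), (478, 1), (635, 1), (612, 5),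
     (258, 4), (656, 7), (595, 1), (657, 1), (596, 1), (613, 9), (466, 1), (438, 7), (176, 1), (658, 7), (44, 1), (659, 1),
     (660, 0), (661, 1), (471, 10), (662, 1), (626, 6), (663, 4), (664, 9), (665, 1), (666, 1), (667, 1), (668, 1), (261, 7),
     (605, 1), (621, 2), (669, 1), (421, 0), (670, 1), (607, 1), (22, 7), (671, 1), (614, 8), (620, 9), (672, 8), (436, 1),
     (591, 5), (673, 1), (442, 0), (674, 1), (675, 1), (676, 1), (13, 1), (587, 0), (295, 4), (619, 8), (677, 1), (88, 1),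
     (678, 1), (679, 1), (680, 4), (681, 10), (682, 1), (586, 5), (639, 4), (631, 2), (683, 1), (589, 2), (170, 8), (422, 1),
     (274, 4), (684, 3), (459, 1), (25, 8), (641, 1), (585, 1), (685, 1), (625, 4), (588, 3), (611, 1), (82, 1), (272, 1),
     (686, 6), (601, 9), (85, 4), (445, 1), (687, 0), (453, 1), (688, 1), (689, 1), (458, 1), (690, 1), (430, 1), (606, 1),
     (269, 8), (608, 0), (164, 1), (6, 6), (691, 1), (692, 1), (263, 1), (693, 5), (694, 1), (91, 0), (283, 1), (467, 0),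
     (695, 7), (260, 1), (643, 7), (277, 0), (582, 9), (696, 1), (270, 1), (92, 1), (93, 1), (98, 5), (101, 1), (159, 1),
     (604, 1), (461, 1), (406, 4), (618, 9), (476, 10), (171, 1), (593, 9), (460, 1), (638, 8), (710, 1), (287, 5), (268, 1),
     (297, 1), (597, 1), (711, 3), (706, 2), (413, 1), (580, 1), (602, 1), (303, 8), (418, 1), (590, 1), (712, 6), (431, 1),
     (254, 2), (705, 4), (697, 1), (713, 9), (700, 1), (419, 1), (80, 1), (701, 1), (169, 1), (698, 5), (714, 1), (262, 1),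
     (437, 5), (308, 8), (715, 1), (708, 3), (640, 1), (716, 0), (149, 1), (624, 6), (153, 9), (279, 1), (702, 1), (288, 3),
     (415, 10), (709, 1), (717, 7), (273, 2), (592, 1), (434, 1), (599, 1), (699, 6), (455, 1), (439, 8), (642, 4), (636, 2),
     (423, 1), (637, 1), (307, 9), (600, 7), (155, 4), (451, 5), (173, 1), (278, 1), (409, 1), (300, 1), (718, 0), (172, 6),
     (703, 1), (412, 1), (267, 1), (704, 10), (289, 7), (628, 4), (598, 1), (629, 1), (719, 1), (707, 1), (293, 1), (583, 1)],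
    [(69, 5), (129, 6), (227, 1), (2, 8), (167, 2), (37, 5), (371, 8), (36, 10), (230, 4), (542, 5), (420, 7), (141, 0),
     (142, 9), (54, 5), (68, 7), (422, 3), (421, 10), (257, 4), (117, 6), (118, 7), (452, 2), (71, 7), (581, 5), (530, 10),
     (232, 0), (569, 0), (126, 1), (127, 3), (128, 9), (591, 2), (12, 7), (630, 8), (694, 7), (307, 10), (586, 0), (461, 2),
     (176, 5), (610, 0), (415, 7), (641, 10), (132, 5), (91, 3), (433, 10), (373, 0), (340, 5), (388, 3), (507, 2), (151, 4),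
     (660, 1), (152, 8), (222, 0), (223, 4), (224, 1), (225, 5), (226, 7), (444, 5), (155, 4), (563, 3), (154, 9), (374, 7),
     (192, 3), (94, 10), (457, 10), (644, 5), (410, 0), (499, 6), (493, 0), (560, 9), (540, 6), (699, 6), (210, 4), (588, 7),
     (589, 0), (688, 9), (212, 2), (20, 1), (233, 6), (19, 8), (525, 5), (134, 1), (710, 1), (405, 8), (345, 7), (486, 7),
     (18, 0), (658, 5), (716, 9), (501, 3), (429, 7), (357, 4), (138, 2), (607, 3), (105, 4), (368, 10), (243, 7), (349, 7),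
     (369, 0), (203, 5), (370, 9), (204, 5), (35, 5), (158, 7), (174, 6), (592, 0), (62, 0), (319, 3), (320, 3), (169, 7),
     (260, 4), (545, 7), (424, 0), (432, 7), (437, 7), (616, 10), (579, 1), (667, 4), (335, 0), (84, 5), (77, 7), (59, 6),
     (680, 1), (595, 2), (471, 8), (602, 7), (539, 6), (468, 3), (527, 8), (293, 9), (661, 5), (707, 3), (350, 5), (266, 6),
     (238, 5), (593, 10), (611, 2), (90, 10), (406, 9), (700, 5), (135, 10), (45, 4), (376, 10), (377, 2), (30, 6), (361, 8),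
     (705, 7), (73, 3), (470, 6), (177, 10), (446, 2), (263, 7), (577, 6), (578, 6), (258, 5), (66, 0), (656, 5), (529, 4),
     (546, 0), (29, 2), (383, 8), (372, 3), (481, 9), (147, 7), (648, 6), (510, 10), (324, 7), (391, 8), (194, 8), (443, 4),
     (393, 0), (712, 8), (534, 10), (535, 4), (89, 8), (536, 10), (331, 6), (305, 0), (7, 7), (161, 5), (537, 4), (538, 6),
     (16, 6), (448, 6), (541, 0), (207, 5), (629, 0), (300, 4), (416, 7), (417, 2), (106, 3), (262, 0), (384, 3), (455, 8),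
     (352, 1), (179, 3), (285, 4), (550, 7), (70, 2), (718, 10), (673, 0), (195, 3), (206, 7), (389, 10), (670, 9), (671, 2),
     (460, 0), (582, 0), (395, 10), (687, 9), (205, 8), (219, 5), (196, 5), (517, 9), (397, 5), (347, 1), (215, 10), (619, 0),
     (401, 6), (564, 7), (634, 9), (255, 1), (390, 7), (526, 6), (228, 0), (505, 2), (311, 5), (295, 7), (13, 10), (3, 2),
     (50, 0), (511, 7), (328, 0), (17, 3), (600, 0), (519, 10), (649, 5), (82, 6), (479, 2), (278, 8), (40, 1), (22, 9),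
     (296, 2), (88, 7), (286, 7), (61, 5), (492, 7), (428, 5), (484, 9), (39, 3), (265, 7), (108, 3), (136, 7), (178, 2),
     (355, 2), (115, 2), (277, 0), (209, 5), (614, 7), (231, 4), (49, 9), (463, 7), (249, 4), (269, 1), (333, 0), (674, 1),
     (359, 8), (272, 10), (400, 3), (622, 0), (287, 3), (375, 10), (702, 10), (685, 0), (248, 5), (677, 2), (423, 6), (113, 2),
     (267, 0), (544, 0), (411, 5), (378, 10), (628, 5), (184, 2), (220, 3), (681, 7), (682, 5), (166, 10), (360, 5), (354, 3),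
     (342, 9), (398, 5), (156, 1), (565, 1), (48, 3), (27, 10), (668, 10), (53, 10), (639, 2), (15, 3), (522, 10), (435, 6),
     (317, 10), (236, 10), (63, 7), (620, 8), (631, 6), (496, 4), (385, 7), (337, 8), (683, 7), (170, 0), (264, 9), (52, 5),
     (46, 8), (133, 2), (609, 6), (304, 9), (633, 6), (185, 8), (547, 6), (92, 4), (188, 5), (329, 5), (557, 0), (543, 8),
     (590, 10), (438, 3), (122, 10), (146, 10), (8, 7), (576, 0), (418, 5), (102, 10), (322, 0), (189, 0), (646, 1), (659, 0),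
     (686, 7), (33, 4), (654, 5), (202, 0), (386, 1), (244, 6), (617, 0), (441, 5), (163, 10), (235, 9), (137, 9), (601, 2),
     (678, 7), (684, 1), (399, 7), (217, 6), (60, 7), (603, 8), (268, 5), (713, 1), (572, 7), (172, 10), (98, 8), (310, 5),
     (242, 10), (583, 6), (708, 10), (148, 7), (42, 3), (303, 0), (655, 5), (476, 2), (459, 7), (458, 7), (358, 5), (509, 5),
     (666, 8), (573, 3), (119, 9), (261, 0), (442, 4), (11, 9), (561, 8), (714, 8), (343, 7), (323, 7), (635, 10), (101, 7),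
     (447, 5), (474, 3), (44, 5), (706, 5), (139, 4), (594, 4), (282, 1), (497, 2), (150, 6), (596, 8), (625, 10), (200, 5),
     (348, 4), (74, 4), (558, 7), (130, 10), (131, 2), (704, 9), (465, 2), (87, 10), (124, 10), (407, 10), (250, 6), (81, 4),
     (500, 6), (283, 7), (487, 0), (237, 9), (574, 10), (198, 8), (34, 0), (520, 10), (647, 10), (663, 2), (698, 2), (23, 9),
     (512, 8), (180, 6), (297, 5), (430, 0), (431, 10), (412, 7), (636, 1), (55, 0), (464, 3), (241, 8), (274, 5), (110, 1),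
     (568, 10), (364, 9), (506, 7), (482, 1), (394, 10), (618, 8), (608, 10), (114, 3), (521, 0), (380, 10), (140, 8), (4, 5),
     (427, 6), (121, 1), (363, 2), (190, 3), (623, 6), (514, 5), (171, 2), (696, 3), (75, 8), (553, 4), (554, 10), (691, 4),
     (637, 5), (104, 1), (96, 4), (93, 5), (99, 6), (100, 4), (367, 4), (567, 6), (245, 3), (599, 0), (508, 7), (211, 0),
     (665, 6), (86, 7), (327, 6), (326, 4), (408, 1), (695, 4), (306, 1), (298, 2), (462, 5), (334, 10), (308, 0), (301, 10),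
     (434, 10), (552, 6), (299, 4), (585, 1), (559, 5), (85, 7), (488, 10), (64, 0), (83, 5), (379, 5), (473, 1), (549, 0),
     (341, 9), (153, 0), (57, 0), (218, 0), (175, 7), (165, 1), (449, 4), (624, 9), (472, 4), (403, 9), (284, 3), (491, 0),
     (451, 3), (51, 5), (480, 5), (312, 1), (532, 6), (6, 9), (344, 2), (570, 5), (10, 7), (271, 0), (498, 2), (524, 8),
     (515, 0), (467, 2), (483, 4), (76, 6), (38, 5), (523, 5), (475, 10), (440, 6), (516, 3), (551, 4), (711, 1), (26, 2),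
     (80, 8), (56, 3), (419, 3), (453, 3), (466, 9), (314, 3), (309, 1), (450, 5), (613, 2), (251, 5), (193, 2), (404, 6),
     (14, 9), (676, 10), (562, 7), (381, 7), (254, 0), (717, 8), (290, 10), (556, 9), (387, 10), (503, 0), (199, 1), (78, 2),
     (160, 7), (531, 4), (632, 10), (273, 6), (318, 7), (332, 0), (289, 10), (246, 8), (662, 1), (279, 4), (9, 10), (494, 8),
     (351, 9), (571, 8), (657, 10), (259, 9), (111, 5), (651, 5), (229, 10), (291, 2), (703, 10), (43, 8), (425, 5), (120, 0),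
     (321, 6), (392, 10), (47, 1), (439, 7), (144, 2), (239, 8), (208, 3), (143, 8), (650, 3), (518, 6), (414, 0), (612, 6),
     (21, 8), (640, 6), (164, 5), (157, 7), (598, 2), (313, 10), (201, 8), (445, 8), (168, 3), (256, 7), (103, 9), (402, 9),
     (24, 0), (213, 8), (642, 7), (672, 6), (336, 2), (587, 0), (382, 7), (41, 5), (325, 9), (533, 2), (5, 6), (79, 8),
     (605, 5), (173, 10), (597, 8), (566, 7), (275, 10), (288, 2), (112, 7), (214, 1), (365, 3), (316, 9), (276, 0), (181, 10),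
     (65, 7), (436, 2), (234, 10), (709, 10), (669, 1), (281, 9), (697, 1), (315, 7), (454, 2), (621, 7), (495, 2), (606, 5),
     (701, 6), (693, 1), (366, 10), (240, 7), (72, 5), (247, 9), (123, 8), (32, 5), (302, 10), (162, 1), (477, 0), (186, 5),
     (645, 4), (626, 7), (690, 5), (25, 6), (197, 7), (362, 9), (719, 10), (638, 7), (58, 8), (615, 5), (485, 10), (116, 0),
     (292, 7), (28, 8), (67, 1), (187, 7), (675, 1), (125, 2), (159, 0), (253, 5), (679, 7), (280, 5), (339, 2), (97, 4),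
     (353, 8), (413, 3), (149, 3), (689, 2), (182, 1), (555, 3), (396, 0), (294, 5), (575, 10), (409, 8), (502, 3), (478, 4),
     (95, 3), (513, 0), (604, 2), (183, 8), (145, 10), (664, 8), (584, 3), (191, 10), (270, 8), (456, 5), (643, 10), (490, 6),
     (504, 5), (31, 2), (330, 4), (0, 0), (346, 8), (426, 4), (692, 4), (356, 5), (216, 7), (580, 2), (548, 7), (1, 2),
     (653, 3), (715, 7), (528, 2), (221, 4), (107, 7), (252, 8), (489, 9), (627, 5), (469, 6), (109, 7), (652, 5), (338, 7)]]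

theorem cB11 : B11.chk 11 g11 = true := by decide +kernel

end Cfsg.Agent.E8A.Two.Mk
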