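import Cfsg.Agent.E8A.Two.C11b

/-!
# The certificate in `M₁₁`: `f(3²) + f(11) ≤ f(5) + f(11:5)` (helper44, generated by notes/E8A/two)
-/

set_option autoImplicit false
set_option maxRecDepth 100000

namespace Cfsg.Agent.E8A.Two.Mk

open Cfsg.Agent.R2.T1.Odd Cfsg.Agent.R2.T1.Msk

/-- a mask -/
def mA11 : ℕ := 984025245785103652385917556970836261838619848664061752019525348971059684714915310846432911051260273338539541925518447874804048776432764074308233708142592743402510416400587015810387833921187825495039052613166003719300248551565250587410183225823805579638714925056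

/-- a mask -/
def mB11 : ℕ := 2758005972781049145603875157310593437995861596134091348153663706034826808461902971668930093078370700138331519509085095028547716075315706433123140394102635198286255139266248039579513489874941905177692243451911084179520

/-- a mask -/
def mE11 : ℕ := 8299031137761985917024815727382322302024916281536202611824365911048139071922179666956565024817853977135239080519038402117139198185596771617889467253922117804818339737412177003282433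

/-- the element of order 5 -/
def t11 : SW := [(0, 1), (1, 4), (4, 2), (2, 7), (3, 10), (10, 9), (9, 6), (6, 8)]

/-- a sum of words -/
def tA11 : Tr :=
  (.ap 0 (.ap 0 (.one (.ap 0 (.one (.ap 0 (.ap 0 (.one .nil) (.ap 1 (.one (.ap 0 (.one (.ap 0 (.ap 1 (.ap 1 (.one
    .nil) .nil) .nil) .nil)) (.ap 1 (.one .nil) .nil))) .nil)) (.ap 1 (.one (.ap 0 (.ap 0 (.one (.ap 0 (.ap 0 (.one
    (.ap 1 (.one (.ap 0 (.one (.ap 1 (.ap 0 (.one .nil) (.ap 1 (.one .nil) .nil)) .nil)) .nil)) .nil)) .nil) .nil))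
    (.ap 1 (.one .nil) .nil)) (.ap 1 (.ap 0 (.one (.ap 0 (.one (.ap 1 (.ap 0 (.one (.ap 0 (.one .nil) (.ap 1 (.one
    (.ap 0 (.ap 0 (.one .nil) .nil) .nil)) .nil))) .nil) .nil)) (.ap 1 (.one (.ap 0 (.ap 0 (.one .nil) (.ap 1 (.one
    (.ap 1 (.ap 0 (.ap 0 (.one .nil) .nil) .nil) .nil)) .nil)) .nil)) .nil))) .nil) .nil))) .nil))) (.ap 1 (.ap 0
    (.ap 1 (.one (.ap 0 (.one (.ap 0 (.one (.ap 0 (.ap 1 (.one (.ap 0 (.one .nil) (.ap 1 (.one (.ap 0 (.ap 0 (.ap 0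
    (.one .nil) (.ap 1 (.one (.ap 0 (.ap 1 (.one .nil) .nil) .nil)) .nil)) .nil) .nil)) .nil))) .nil) .nil)) (.ap 1
    (.one (.ap 0 (.one (.ap 0 (.one (.ap 0 (.one (.ap 0 (.one .nil) (.ap 1 (.ap 0 (.one .nil) .nil) .nil))) .nil))
    (.ap 1 (.one .nil) .nil))) (.ap 1 (.ap 0 (.one .nil) .nil) .nil))) .nil))) (.ap 1 (.one .nil) .nil))) .nil)
    (.ap 1 (.one (.ap 0 (.one (.ap 0 (.one (.ap 0 (.ap 0 (.ap 0 (.one (.ap 0 (.one (.ap 1 (.ap 0 (.one .nil) .nil)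
    .nil)) (.ap 1 (.one .nil) .nil))) .nil) (.ap 1 (.one (.ap 0 (.ap 0 (.one (.ap 0 (.ap 1 (.one .nil) .nil) .nil))
    .nil) .nil)) .nil)) (.ap 1 (.ap 0 (.one .nil) (.ap 1 (.one .nil) .nil)) .nil))) .nil)) .nil)) .nil)) .nil)))
    (.ap 1 (.ap 0 (.one (.ap 0 (.ap 0 (.ap 1 (.one (.ap 0 (.ap 0 (.one .nil) .nil) .nil)) .nil) (.ap 1 (.one .nil)
    .nil)) (.ap 1 (.ap 0 (.one (.ap 0 (.one (.ap 0 (.ap 0 (.one .nil) (.ap 1 (.one (.ap 0 (.ap 0 (.one .nil) .nil)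
    .nil)) .nil)) (.ap 1 (.one (.ap 0 (.one (.ap 0 (.one (.ap 0 (.ap 1 (.ap 1 (.one .nil) .nil) .nil) .nil)) (.ap 1
    (.one (.ap 0 (.one (.ap 0 (.one (.ap 0 (.one (.ap 1 (.one (.ap 0 (.one (.ap 0 (.ap 0 (.one (.ap 1 (.ap 1 (.one
    .nil) .nil) .nil)) .nil) .nil)) (.ap 1 (.one .nil) .nil))) .nil)) .nil)) (.ap 1 (.one (.ap 0 (.one .nil) (.ap 1
    (.one (.ap 0 (.ap 0 (.one .nil) .nil) .nil)) .nil))) .nil))) (.ap 1 (.one (.ap 0 (.one (.ap 0 (.ap 0 (.one (.ap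
    0 (.ap 1 (.one .nil) .nil) .nil)) .nil) (.ap 1 (.ap 0 (.one (.ap 0 (.one .nil) .nil)) .nil) .nil))) .nil))
    .nil))) .nil))) (.ap 1 (.one (.ap 0 (.ap 0 (.ap 0 (.one .nil) .nil) (.ap 1 (.one (.ap 0 (.one .nil) .nil))
    .nil)) .nil)) .nil))) .nil))) .nil)) .nil) .nil))) .nil) .nil)) .nil)

/-- a sum of words -/
def tB11 : Tr :=
  (.ap 1 (.one (.ap 0 (.one (.ap 0 (.one (.ap 0 (.one (.ap 0 (.one (.ap 0 (.one (.ap 0 (.one (.ap 0 (.ap 0 (.one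
    (.ap 0 (.one .nil) .nil)) (.ap 1 (.ap 0 (.ap 0 (.one .nil) .nil) .nil) .nil)) (.ap 1 (.ap 0 (.one (.ap 0 (.one
    (.ap 0 (.one (.ap 0 (.one (.ap 0 (.one (.ap 1 (.ap 0 (.ap 1 (.one .nil) .nil) .nil) .nil)) .nil)) .nil)) .nil))
    (.ap 1 (.ap 0 (.ap 1 (.one .nil) .nil) (.ap 1 (.one .nil) .nil)) .nil))) .nil) .nil))) (.ap 1 (.ap 0 (.one (.ap
    0 (.ap 0 (.one .nil) .nil) (.ap 1 (.ap 1 (.one .nil) .nil) .nil))) .nil) .nil))) (.ap 1 (.ap 0 (.ap 0 (.one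
    .nil) (.ap 1 (.ap 0 (.one .nil) .nil) .nil)) (.ap 1 (.one (.ap 0 (.one (.ap 0 (.ap 0 (.one (.ap 0 (.one (.ap 0
    (.ap 0 (.one (.ap 0 (.one (.ap 1 (.ap 1 (.ap 0 (.one .nil) .nil) .nil) .nil)) (.ap 1 (.ap 1 (.one (.ap 0 (.ap 1
    (.one .nil) .nil) .nil)) .nil) .nil))) .nil) .nil)) .nil)) (.ap 1 (.one .nil) .nil)) .nil)) .nil)) .nil))
    .nil))) .nil)) .nil)) (.ap 1 (.one (.ap 0 (.ap 0 (.ap 1 (.ap 1 (.one .nil) .nil) .nil) .nil) (.ap 1 (.one (.ap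
    0 (.one (.ap 0 (.ap 0 (.one (.ap 1 (.one (.ap 0 (.ap 0 (.one .nil) .nil) .nil)) .nil)) (.ap 1 (.one (.ap 0 (.ap
    0 (.ap 0 (.one (.ap 0 (.ap 0 (.ap 0 (.ap 0 (.one .nil) .nil) .nil) (.ap 1 (.ap 1 (.one .nil) .nil) .nil))
    .nil)) (.ap 1 (.one .nil) .nil)) .nil) .nil)) .nil)) .nil)) .nil)) .nil))) .nil))) (.ap 1 (.ap 0 (.one (.ap 0
    (.one (.ap 0 (.ap 0 (.one .nil) .nil) (.ap 1 (.one (.ap 0 (.one (.ap 1 (.one (.ap 0 (.ap 1 (.ap 1 (.one .nil)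
    .nil) .nil) .nil)) .nil)) .nil)) .nil))) (.ap 1 (.ap 0 (.one (.ap 0 (.one (.ap 0 (.one (.ap 0 (.one (.ap 1
    (.one .nil) .nil)) (.ap 1 (.ap 1 (.ap 0 (.one .nil) .nil) .nil) .nil))) (.ap 1 (.one (.ap 1 (.ap 0 (.one .nil)
    .nil) .nil)) .nil))) .nil)) .nil) .nil))) .nil) .nil))) .nil)

/-- a sum of words -/
def sA11 : Tr :=
  (.one (.ap 0 (.ap 0 (.ap 0 (.ap 1 (.ap 0 (.ap 1 (.ap 0 (.ap 0 (.ap 1 (.ap 0 (.ap 1 (.ap 1 (.ap 0 (.ap 0 (.ap 1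
    (.one .nil) .nil) .nil) .nil) .nil) .nil) .nil) .nil) .nil) .nil) .nil) .nil) .nil) .nil) (.ap 1 (.ap 0 (.ap 0
    (.ap 0 (.ap 1 (.ap 1 (.ap 0 (.ap 1 (.ap 0 (.ap 1 (.ap 0 (.one .nil) .nil) .nil) .nil) .nil) .nil) .nil) .nil)
    .nil) .nil) .nil) .nil)) (.ap 1 (.one (.ap 0 (.ap 0 (.ap 0 (.ap 1 (.ap 0 (.ap 1 (.ap 0 (.ap 0 (.ap 1 (.ap 0
    (.ap 1 (.ap 1 (.ap 0 (.ap 0 (.ap 1 (.one .nil) .nil) .nil) .nil) .nil) .nil) .nil) .nil) .nil) .nil) .nil)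
    .nil) .nil) .nil) (.ap 1 (.ap 0 (.ap 0 (.ap 0 (.ap 1 (.ap 1 (.ap 0 (.ap 1 (.ap 0 (.ap 1 (.ap 0 (.one .nil)
    .nil) .nil) .nil) .nil) .nil) .nil) .nil) .nil) .nil) .nil) .nil)) (.ap 1 (.one (.ap 0 (.ap 0 (.ap 0 (.ap 1
    (.ap 0 (.ap 1 (.ap 0 (.ap 0 (.ap 1 (.ap 0 (.ap 1 (.ap 1 (.ap 0 (.ap 0 (.ap 1 (.one .nil) .nil) .nil) .nil)
    .nil) .nil) .nil) .nil) .nil) .nil) .nil) .nil) .nil) .nil) (.ap 1 (.ap 0 (.ap 0 (.ap 0 (.ap 1 (.ap 1 (.ap 0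
    (.ap 1 (.ap 0 (.ap 1 (.ap 0 (.one .nil) .nil) .nil) .nil) .nil) .nil) .nil) .nil) .nil) .nil) .nil) .nil))
    .nil)) .nil))) .nil)))

/-- a sum of words -/
def sB11 : Tr :=
  (.one (.ap 0 (.one (.ap 0 (.one (.ap 0 (.one (.ap 0 (.one (.ap 0 (.one (.ap 0 (.one (.ap 0 (.one (.ap 0 (.one
    (.ap 0 (.one (.ap 0 (.one .nil) .nil)) .nil)) .nil)) .nil)) .nil)) .nil)) .nil)) .nil)) .nil)) .nil))

theorem cCA11 : okC 11 g11 A11.tab [t11] [[1, 0, 1, 1, 0, 1, 1]] mA11 = true := by decide +kernel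

theorem cCB11 : okC 11 g11 B11.tab [t11] [[1, 0, 1, 1, 0, 1, 1]] mB11 = true := by decide +kernel

theorem cD11 : okC 11 g11 B11.tab [g11.getD 0 [], t11] [[0], [1, 0, 1, 1, 0, 1, 1]] mE11 = true := by decide +kernel

theorem h111 : sA11.ev A11.tab (tA11.ev A11.tab mA11) = 1 := by decide +kernel

theorem h211 : sA11.ev B11.tab (tA11.ev B11.tab mB11) = 0 := by decide +kernel

theorem h311 : sB11.ev A11.tab (tB11.ev A11.tab mA11) = 0 := by decide +kernel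

theorem h411 : Nat.xor (sB11.ev B11.tab (tB11.ev B11.tab mB11)) mE11 = 1 := by decide +kernel

end Cfsg.Agent.E8A.Two.Mk
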