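import Cfsg.Agent.E8A.Two.Mk

/-!
# The certificate in `A₇`: `f(5) + f(7) ≤ f(3²) + f(7:3)` (helper44, generated by notes/E8A/two)
-/

set_option autoImplicit false
set_option maxRecDepth 100000

namespace Cfsg.Agent.E8A.Two.Mk

open Cfsg.Agent.R2.T1.Odd Cfsg.Agent.R2.T1.Msk

/-- generators -/
def g7 : List SW := [[(0, 1), (1, 2), (2, 3), (3, 4), (4, 5), (5, 6)], [(1, 2), (2, 4), (3, 6), (6, 5)], [(0, 1), (1, 2), (2, 3), (3, 4)]]

/-- cosets -/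
def A7 : Dt where
  gT := [[(0, 1), (1, 2), (2, 3), (3, 4)]]
  zw := [[], [0], [0, 0], [0, 0, 0], [0, 0, 0, 0]]
  reps := [
    [], [(0, 5), (5, 6)],
    [(1, 2), (2, 4), (3, 6), (6, 5)], [(0, 5), (1, 6)],
    [(1, 2), (4, 5)], [(0, 6), (2, 3)],
    [(1, 4), (4, 2), (3, 5), (5, 6)], [(1, 5), (5, 6)],
    [(1, 6), (6, 5), (5, 4), (4, 3)], [(1, 3), (3, 5), (2, 4), (4, 6)],
    [(1, 2), (2, 4), (4, 5), (5, 6)], [(0, 1), (1, 5), (3, 6), (6, 4)],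
    [(0, 5), (2, 6)], [(1, 3), (3, 4)],
    [(0, 4), (4, 5), (1, 6), (6, 2)], [(1, 4), (4, 3), (3, 6), (6, 5)],
    [(0, 1), (1, 5), (5, 3), (3, 6)], [(0, 6), (6, 2)],
    [(1, 5), (2, 4), (4, 6), (6, 3)], [(1, 5), (2, 6)],
    [(0, 5), (2, 3)], [(1, 6), (3, 4)],
    [(1, 2), (2, 5), (5, 6), (6, 4)], [(2, 5), (5, 6)],
    [(0, 1), (1, 6), (6, 5), (2, 3)], [(2, 4), (4, 6), (6, 3), (3, 5)],
    [(1, 4), (4, 2), (2, 5), (3, 6)], [(0, 2), (2, 4), (4, 5), (5, 6)],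
    [(1, 2), (2, 4), (4, 5), (3, 6)], [(0, 4), (2, 5)],
    [(1, 5), (5, 4), (4, 3), (3, 6)], [(1, 2), (3, 4), (4, 5), (5, 6)],
    [(2, 6), (6, 4), (4, 3), (3, 5)], [(1, 4), (4, 6), (6, 3), (2, 5)],
    [(0, 3), (3, 2), (2, 6), (1, 5)], [(1, 3), (3, 4), (2, 5), (5, 6)],
    [(0, 2), (2, 3), (3, 6), (6, 5)], [(0, 5), (3, 6)],
    [(0, 3), (1, 5)], [(1, 6), (6, 4), (4, 5), (5, 2)],
    [(0, 4), (2, 6)], [(0, 1), (1, 3), (3, 5), (4, 6)],
    [(1, 6), (6, 5), (5, 3), (2, 4)], [(1, 6), (6, 4), (4, 2), (3, 5)],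
    [(1, 3), (3, 4), (4, 5), (5, 2)], [(1, 3), (3, 6), (6, 4), (2, 5)],
    [(0, 1), (1, 3), (3, 6), (6, 5)], [(1, 5), (5, 3), (2, 4), (4, 6)],
    [(0, 3), (1, 6)], [(0, 1), (4, 6)],
    [(0, 1), (1, 2), (2, 5), (3, 6)], [(1, 5), (5, 2), (2, 6), (6, 3)],
    [(1, 4), (4, 3), (2, 5), (5, 6)], [(0, 2), (2, 3), (3, 6), (1, 5)],
    [(1, 5), (3, 6)], [(1, 2), (3, 4)],
    [(1, 6), (6, 3), (3, 4), (4, 5)], [(1, 3), (3, 4), (2, 6), (6, 5)],
    [(1, 2), (2, 5), (5, 4), (4, 6)], [(1, 6), (6, 3)],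
    [(1, 3), (2, 6), (6, 4), (4, 5)], [(2, 5), (3, 6)],
    [(1, 5), (3, 4)], [(0, 2), (2, 3), (3, 5), (5, 6)],
    [(3, 5), (5, 6)], [(1, 2), (2, 6), (6, 5), (3, 4)],
    [(3, 5), (4, 6)], [(1, 3), (3, 5), (5, 2), (4, 6)],
    [(0, 4), (4, 5), (1, 6), (2, 3)], [(2, 5), (5, 3), (3, 6), (6, 4)],
    [(1, 3), (3, 4), (4, 6), (2, 5)], [(0, 2), (2, 4), (4, 5), (3, 6)],
    [(1, 5), (2, 3)], [(1, 5), (2, 6), (6, 4), (4, 3)],
    [(0, 3), (3, 4), (4, 6), (2, 5)], [(1, 2), (2, 4), (4, 6), (6, 5)],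
    [(1, 5), (5, 4)], [(1, 2), (2, 6), (6, 5), (5, 4)],
    [(0, 1), (1, 4), (4, 6), (3, 5)], [(1, 2), (3, 4), (4, 6), (6, 5)],
    [(2, 6), (6, 3), (3, 5), (5, 4)], [(1, 3), (3, 5), (5, 6), (6, 2)],
    [(1, 2), (5, 6)], [(1, 5), (4, 6)],
    [(1, 2), (2, 5), (5, 3), (4, 6)], [(0, 1), (1, 5), (2, 6), (6, 3)],
    [(1, 5), (5, 2), (2, 3), (3, 6)], [(1, 5), (5, 2), (3, 6), (6, 4)],
    [(0, 1), (1, 3), (3, 5), (5, 6)], [(1, 5), (5, 3)],
    [(2, 3), (3, 6)], [(1, 3), (3, 5), (5, 6), (6, 4)],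
    [(1, 2), (2, 6), (6, 5), (5, 3)], [(1, 5), (5, 3), (3, 2), (4, 6)],
    [(0, 1), (1, 6), (2, 3), (3, 5)], [(0, 4), (4, 2), (2, 5), (1, 6)],
    [(0, 5), (4, 6)], [(1, 5), (5, 2), (2, 4), (4, 3)],
    [(2, 3), (3, 5)], [(0, 2), (2, 6)],
    [(4, 6), (6, 5)], [(1, 4), (4, 3)],
    [(2, 3), (4, 5)], [(0, 3), (4, 6)],
    [(0, 1), (1, 4), (4, 5), (3, 6)], [(2, 6), (6, 5)],
    [(0, 2), (2, 4), (4, 5), (1, 6)], [(1, 5), (5, 6), (6, 3), (3, 2)],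
    [(1, 6), (2, 3), (3, 5), (5, 4)], [(1, 3), (3, 2), (4, 5), (5, 6)],
    [(2, 6), (3, 5)], [(1, 4), (4, 2), (2, 6), (3, 5)],
    [(0, 5), (3, 4)], [(0, 2), (4, 5)],
    [(2, 3), (4, 6)], [(0, 3), (3, 1), (1, 6), (2, 5)],
    [(0, 5), (5, 2)], [(1, 4), (4, 6), (6, 5), (5, 3)],
    [(1, 6), (6, 3), (2, 5), (5, 4)], [(1, 4), (4, 5), (2, 3), (3, 6)],
    [(0, 2), (3, 5)], [(1, 6), (2, 5), (5, 4), (4, 3)],
    [(0, 1), (4, 5)], [(1, 3), (2, 4), (4, 6), (6, 5)],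
    [(0, 1), (1, 4), (4, 3), (3, 6)], [(1, 2), (2, 4)],
    [(1, 5), (5, 3), (2, 6), (6, 4)], [(1, 5), (5, 2), (2, 6), (6, 4)],
    [(1, 4), (4, 2), (2, 5), (5, 6)], [(1, 6), (6, 4), (4, 3), (2, 5)],
    [(0, 1), (3, 5)], [(0, 1), (1, 5), (2, 3), (3, 6)],
    [(1, 5), (5, 6), (6, 4), (4, 2)], [(0, 1), (1, 2), (2, 6), (3, 5)],
    [(1, 5), (5, 3), (3, 6), (6, 4)], [(1, 4), (4, 3), (3, 6), (2, 5)],
    [(1, 3), (3, 4), (4, 6), (6, 5)], [(1, 4), (2, 5)],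
    [(0, 1), (1, 6), (3, 4), (4, 5)], [(0, 1), (3, 6)],
    [(1, 2), (2, 3), (4, 6), (6, 5)], [(0, 1), (1, 6), (3, 5), (5, 4)],
    [(1, 5), (5, 3), (3, 4), (4, 2)], [(0, 2), (2, 4), (4, 6), (3, 5)],
    [(1, 2), (2, 6), (6, 3), (4, 5)], [(1, 4), (2, 6)],
    [(0, 6), (1, 2)], [(1, 2), (2, 3), (3, 5), (4, 6)],
    [(1, 5), (5, 6), (6, 3), (3, 4)], [(2, 5), (4, 6)],
    [(1, 4), (4, 2)], [(2, 6), (6, 4)],
    [(0, 4), (4, 1), (1, 6), (3, 5)], [(1, 3), (3, 4), (4, 5), (5, 6)],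
    [(4, 5), (5, 6)], [(1, 4), (4, 6), (6, 5), (5, 2)],
    [(2, 4), (4, 6), (6, 5), (5, 3)], [(1, 3), (3, 2), (4, 6), (6, 5)],
    [(2, 4), (4, 5), (5, 3), (3, 6)], [(1, 6), (6, 4), (4, 5), (2, 3)],
    [(0, 1), (1, 6), (2, 4), (4, 5)], [(1, 4), (4, 5), (5, 3), (3, 6)],
    [(2, 3), (3, 6), (6, 5), (5, 4)], [(1, 3), (3, 2), (2, 5), (4, 6)],
    [(1, 5), (5, 3), (3, 6), (6, 2)], [(1, 4), (4, 2), (3, 6), (6, 5)],
    [(0, 3), (3, 2), (2, 5), (1, 6)], [(0, 1), (1, 6), (2, 3), (4, 5)],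
    [(0, 2), (2, 4), (4, 6), (6, 5)], [(1, 2), (2, 5), (5, 4), (4, 3)],
    [(2, 6), (6, 5), (5, 4), (4, 3)], [(1, 6), (6, 2), (2, 4), (4, 5)],
    [(1, 6), (6, 5)], [(0, 1), (1, 6), (2, 5), (5, 3)],
    [(0, 2), (2, 6), (1, 4), (3, 5)], [(0, 1), (1, 5), (5, 6), (2, 3)],
    [(0, 6), (3, 4)], [(1, 4), (5, 6)],
    [(1, 6), (6, 4), (4, 3), (3, 5)], [(0, 5), (5, 3)],
    [(1, 5), (2, 4), (4, 3), (3, 6)], [(0, 1), (1, 6), (6, 4), (4, 5)],
    [(0, 1), (1, 4), (4, 6), (6, 5)], [(1, 6), (6, 2), (2, 3), (4, 5)],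
    [(0, 3), (3, 6), (1, 5), (2, 4)], [(0, 6), (1, 3)],
    [(3, 4), (5, 6)], [(1, 6), (3, 5)],
    [(2, 5), (5, 4)], [(1, 6), (6, 4)],
    [(1, 6), (6, 3), (3, 5), (5, 2)], [(0, 1), (1, 6), (2, 5), (5, 4)],
    [(0, 1), (2, 6)], [(2, 4), (3, 5)],
    [(1, 4), (4, 3), (3, 5), (5, 6)], [(0, 1), (1, 5), (2, 6), (3, 4)],
    [(1, 6), (6, 5), (5, 3), (3, 4)], [(0, 2), (2, 3), (3, 6), (4, 5)],
    [(0, 1), (1, 6), (6, 5), (3, 4)], [(1, 2), (3, 6), (6, 5), (5, 4)],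
    [(1, 4), (4, 6), (6, 2), (3, 5)], [(2, 4), (4, 5)],
    [(0, 2), (2, 5), (5, 3), (3, 6)], [(1, 3), (3, 6), (2, 5), (5, 4)],
    [(1, 5), (5, 6), (6, 4), (4, 3)], [(2, 3), (3, 4)],
    [(1, 3), (3, 4), (4, 2), (2, 6)], [(1, 3), (3, 5), (5, 4), (4, 6)],
    [(1, 2), (2, 6), (6, 4), (4, 3)], [(1, 4), (4, 5), (5, 6), (6, 3)],
    [(2, 3), (3, 4), (4, 6), (6, 5)], [(0, 2), (2, 6), (6, 4), (4, 5)],
    [(3, 6), (6, 5)], [(0, 1), (1, 5), (5, 6), (3, 4)],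
    [(0, 3), (5, 6)], [(1, 3), (3, 2), (2, 6), (4, 5)],
    [(0, 3), (3, 1), (1, 5), (2, 6)], [(0, 6), (6, 5)],
    [(2, 5), (5, 3)], [(1, 6), (4, 5)],
    [(1, 2), (2, 3), (3, 5), (5, 6)], [(0, 2), (2, 5)],
    [(0, 3), (3, 6), (2, 5), (5, 4)], [(1, 4), (4, 5), (5, 2), (3, 6)],
    [(1, 3), (3, 6), (6, 5), (2, 4)], [(1, 2), (2, 5)],
    [(1, 4), (3, 6)], [(1, 3), (3, 6), (2, 4), (4, 5)],
    [(1, 4), (4, 5), (5, 6), (2, 3)], [(0, 4), (4, 5)],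
    [(1, 3), (3, 5), (5, 4), (2, 6)], [(0, 3), (3, 6)],
    [(0, 2), (5, 6)], [(1, 2), (2, 6), (6, 4), (3, 5)],
    [(1, 6), (2, 4)], [(1, 4), (2, 5), (5, 6), (6, 3)],
    [(0, 2), (2, 6), (1, 5), (5, 4)], [(1, 5), (5, 3), (3, 2), (2, 6)],
    [(0, 5), (1, 3)], [(1, 2), (2, 5), (5, 4), (3, 6)],
    [(1, 6), (6, 5), (2, 3), (3, 4)], [(1, 2), (2, 6), (3, 4), (4, 5)],
    [(1, 6), (6, 5), (5, 4), (4, 2)], [(2, 4), (4, 5), (5, 6), (6, 3)],
    [(1, 3), (3, 4), (4, 2), (5, 6)], [(1, 5), (2, 3), (3, 4), (4, 6)],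
    [(1, 4), (4, 2), (2, 6), (6, 5)], [(1, 6), (6, 3), (3, 2), (4, 5)],
    [(1, 3), (3, 2), (2, 5), (5, 6)], [(1, 5), (5, 4), (4, 6), (2, 3)],
    [(1, 3), (3, 6)], [(0, 2), (2, 5), (5, 6), (1, 4)],
    [(1, 3), (3, 5), (5, 6), (2, 4)], [(2, 3), (3, 5), (5, 4), (4, 6)],
    [(1, 6), (6, 3), (2, 4), (4, 5)], [(1, 4), (4, 5), (2, 6), (6, 3)],
    [(0, 2), (2, 4), (4, 6), (1, 5)], [(1, 3), (5, 6)],
    [(0, 4), (1, 5)], [(0, 2), (2, 1), (1, 6), (3, 5)],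
    [(1, 4), (4, 5), (5, 2), (2, 6)], [(1, 3), (2, 4)],
    [(1, 2), (2, 3), (3, 6), (4, 5)], [(1, 2), (2, 5), (5, 3), (3, 6)],
    [(0, 1), (1, 5), (5, 6), (2, 4)], [(1, 6), (6, 2), (2, 4), (4, 3)],
    [(1, 2), (2, 4), (4, 3), (3, 6)], [(3, 6), (4, 5)],
    [(0, 6), (4, 5)], [(1, 6), (6, 2), (3, 4), (4, 5)],
    [(1, 6), (6, 4), (4, 2), (2, 5)], [(2, 5), (3, 4)],
    [(0, 1), (1, 5), (5, 2), (2, 6)], [(1, 6), (2, 4), (4, 5), (5, 3)],
    [(1, 4), (4, 3), (2, 6), (6, 5)], [(0, 2), (2, 5), (1, 6), (6, 4)],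
    [(2, 3), (5, 6)], [(0, 6), (2, 5)],
    [(0, 2), (2, 1), (1, 6), (4, 5)], [(1, 2), (2, 5), (3, 6), (6, 4)],
    [(2, 5), (5, 3), (3, 4), (4, 6)], [(3, 4), (4, 6)],
    [(0, 1), (1, 5), (5, 4), (4, 6)], [(1, 6), (6, 2), (2, 5), (3, 4)],
    [(0, 6), (1, 5)], [(1, 2), (2, 4), (4, 5), (5, 3)],
    [(3, 4), (4, 5)], [(0, 6), (1, 4)],
    [(1, 3), (3, 5), (2, 6), (6, 4)], [(1, 4), (4, 6), (6, 2), (2, 5)],
    [(2, 5), (5, 6), (6, 4), (4, 3)], [(0, 3), (3, 4), (4, 5), (2, 6)],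
    [(0, 1), (1, 4), (4, 5), (5, 6)], [(1, 6), (6, 2), (2, 5), (5, 4)],
    [(1, 3), (3, 6), (6, 5), (5, 4)], [(0, 3), (3, 5), (2, 6), (6, 4)],
    [(1, 4), (2, 6), (6, 3), (3, 5)], [(1, 3), (4, 5)],
    [(0, 1), (1, 6), (6, 2), (2, 5)], [(0, 5), (1, 2)],
    [(1, 5), (5, 6), (6, 2), (2, 4)], [(1, 2), (2, 5), (3, 4), (4, 6)],
    [(0, 2), (2, 5), (5, 4), (4, 6)], [(1, 5), (5, 3), (3, 4), (2, 6)],
    [(1, 6), (6, 5), (5, 2), (3, 4)], [(1, 2), (4, 6)],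
    [(0, 2), (2, 1), (1, 6), (6, 5)], [(0, 2), (2, 3), (3, 5), (1, 6)],
    [(1, 3), (3, 5), (5, 4), (4, 2)], [(1, 5), (5, 4), (4, 2), (2, 6)],
    [(0, 2), (2, 1), (1, 5), (4, 6)], [(0, 2), (3, 6)],
    [(1, 6), (2, 3)], [(0, 3), (3, 6), (1, 4), (2, 5)],
    [(1, 2), (3, 5), (5, 6), (6, 4)], [(0, 6), (3, 5)],
    [(1, 5), (5, 6), (6, 2), (3, 4)], [(3, 5), (5, 4)],
    [(2, 4), (4, 3)], [(1, 4), (2, 3), (3, 6), (6, 5)],
    [(1, 5), (5, 3), (3, 6), (2, 4)], [(1, 6), (6, 2), (3, 5), (5, 4)],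
    [(1, 3), (3, 2)], [(2, 4), (4, 3), (3, 6), (6, 5)],
    [(1, 5), (5, 4), (4, 2), (3, 6)], [(1, 6), (6, 2), (2, 3), (3, 5)],
    [(1, 3), (3, 5)], [(0, 1), (1, 3), (3, 2), (2, 6)],
    [(1, 5), (5, 2), (2, 4), (3, 6)], [(1, 3), (3, 4), (4, 2), (2, 5)],
    [(2, 5), (5, 4), (4, 6), (6, 3)], [(1, 3), (3, 4), (4, 6), (6, 2)],
    [(1, 5), (5, 6), (6, 2), (2, 3)], [(2, 4), (4, 6)],
    [(1, 2), (2, 4), (4, 3), (5, 6)], [(0, 1), (1, 5), (2, 3), (4, 6)],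
    [(0, 5), (5, 4)], [(0, 5), (1, 4)],
    [(1, 3), (2, 6)], [(0, 5), (5, 1)],
    [(0, 1), (1, 2), (2, 6), (4, 5)], [(0, 3), (3, 5), (1, 4), (2, 6)],
    [(0, 4), (4, 6), (1, 5), (2, 3)], [(0, 2), (1, 6)],
    [(0, 4), (4, 6), (1, 5), (5, 2)], [(0, 1), (1, 5), (2, 4), (4, 6)],
    [(1, 5), (5, 6), (2, 4), (4, 3)], [(0, 1), (1, 5), (2, 6), (6, 4)],
    [(1, 4), (4, 6)], [(1, 3), (2, 5), (5, 4), (4, 6)],
    [(0, 2), (2, 6), (1, 5), (3, 4)], [(1, 5), (5, 4), (4, 3), (2, 6)],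
    [(0, 1), (1, 2), (2, 5), (4, 6)], [(0, 1), (1, 4), (4, 3), (3, 5)],
    [(2, 6), (6, 3), (3, 4), (4, 5)], [(0, 3), (2, 5)],
    [(0, 1), (1, 4), (4, 5), (2, 6)], [(2, 6), (3, 4)],
    [(0, 2), (2, 5), (1, 3), (3, 6)], [(0, 3), (3, 5), (2, 4), (4, 6)],
    [(1, 3), (3, 5), (5, 2), (2, 6)], [(0, 5), (2, 4)],
    [(1, 2), (2, 6), (3, 5), (5, 4)], [(1, 4), (4, 5), (5, 3), (2, 6)],
    [(0, 3), (3, 5), (5, 6), (2, 4)], [(1, 6), (6, 2)],
    [(1, 5), (5, 4), (4, 6), (6, 2)], [(0, 2), (2, 5), (1, 6), (3, 4)],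
    [(1, 4), (4, 5), (5, 6), (6, 2)], [(0, 6), (6, 4)],
    [(0, 6), (6, 1)], [(1, 6), (6, 5), (5, 2), (2, 4)],
    [(1, 4), (4, 6), (2, 5), (5, 3)], [(1, 5), (5, 4), (2, 3), (3, 6)],
    [(1, 6), (6, 5), (2, 4), (4, 3)], [(1, 2), (2, 6)],
    [(1, 6), (6, 3), (3, 4), (2, 5)], [(1, 6), (2, 3), (3, 4), (4, 5)],
    [(1, 5), (5, 6), (2, 3), (3, 4)], [(1, 6), (6, 5), (5, 2), (2, 3)],
    [(0, 1), (1, 2), (2, 6), (6, 5)], [(1, 5), (2, 6), (6, 3), (3, 4)],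
    [(0, 4), (4, 3), (3, 5), (1, 6)], [(1, 6), (6, 4), (4, 5), (5, 3)],
    [(0, 6), (2, 4)], [(1, 6), (6, 3), (3, 5), (2, 4)],
    [(0, 4), (4, 2), (2, 6), (1, 5)], [(0, 2), (2, 6), (6, 3), (3, 5)],
    [(2, 3), (3, 6), (6, 4), (4, 5)], [(1, 5), (5, 4), (4, 6), (6, 3)],
    [(1, 2), (2, 4), (4, 3), (3, 5)], [(1, 4), (4, 3), (3, 5), (2, 6)],
    [(0, 3), (2, 6)], [(1, 3), (3, 2), (2, 6), (6, 5)],
    [(1, 5), (5, 6), (6, 4), (2, 3)], [(1, 4), (2, 3), (3, 5), (5, 6)],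
    [(1, 2), (2, 4), (4, 6), (3, 5)], [(0, 1), (1, 6), (6, 3), (3, 5)],
    [(1, 5), (5, 2), (2, 6), (3, 4)], [(2, 4), (4, 3), (3, 5), (5, 6)],
    [(1, 2), (2, 6), (6, 3), (3, 5)], [(1, 4), (4, 6), (6, 5), (2, 3)],
    [(0, 1), (1, 2), (2, 5), (5, 6)], [(0, 4), (4, 6)],
    [(2, 4), (3, 6)], [(1, 5), (5, 2), (2, 4), (4, 6)],
    [(1, 2), (2, 4), (4, 6), (6, 3)], [(1, 2), (2, 3), (3, 6), (6, 5)],
    [(1, 5), (5, 6), (6, 3), (2, 4)], [(0, 2), (2, 5), (5, 1), (1, 6)],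
    [(1, 4), (4, 6), (6, 3), (3, 5)], [(1, 6), (6, 2), (2, 5), (5, 3)],
    [(0, 2), (2, 6), (6, 1), (1, 5)], [(1, 2), (2, 4), (3, 5), (5, 6)],
    [(0, 1), (1, 6)], [(2, 6), (6, 3)],
    [(0, 1), (1, 5), (3, 4), (4, 6)], [(0, 1), (5, 6)],
    [(0, 2), (2, 6), (6, 5), (1, 4)], [(1, 6), (6, 3), (3, 4), (4, 2)],
    [(1, 3), (3, 4), (4, 5), (2, 6)], [(1, 6), (6, 2), (2, 4), (3, 5)],
    [(1, 2), (2, 6), (6, 4), (4, 5)], [(0, 1), (1, 6), (2, 5), (3, 4)],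
    [(2, 5), (5, 4), (4, 3), (3, 6)], [(1, 6), (6, 5), (5, 3), (3, 2)],
    [(0, 2), (2, 6), (1, 4), (4, 5)], [(0, 2), (2, 5), (1, 4), (4, 6)],
    [(0, 4), (4, 3), (3, 6), (1, 5)], [(1, 4), (4, 6), (2, 3), (3, 5)],
    [(1, 2), (2, 3), (4, 5), (5, 6)], [(1, 5), (5, 2), (2, 3), (4, 6)],
    [(0, 4), (5, 6)], [(1, 6), (2, 5)],
    [(1, 5), (2, 3), (3, 6), (6, 4)], [(1, 3), (3, 6), (6, 4), (4, 2)],
    [(0, 2), (2, 6), (1, 3), (3, 5)], [(1, 3), (2, 5), (5, 6), (6, 4)],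
    [(0, 4), (4, 1), (1, 5), (3, 6)], [(1, 3), (3, 6), (6, 2), (2, 5)],
    [(1, 3), (4, 6)], [(1, 3), (2, 6), (6, 5), (5, 4)],
    [(0, 1), (1, 4), (4, 6), (2, 5)], [(0, 1), (1, 3), (3, 2), (2, 5)],
    [(1, 2), (2, 5), (5, 6), (3, 4)], [(0, 4), (1, 6)],
    [(0, 2), (2, 1), (1, 5), (3, 6)], [(2, 6), (4, 5)],
    [(0, 3), (3, 5)], [(2, 6), (6, 4), (4, 5), (5, 3)],
    [(1, 2), (3, 6)], [(0, 3), (4, 5)],
    [(2, 3), (3, 4), (4, 5), (5, 6)], [(0, 2), (4, 6)],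
    [(1, 5), (2, 4)], [(0, 2), (2, 3), (3, 5), (4, 6)],
    [(1, 3), (3, 6), (6, 5), (5, 2)], [(0, 2), (2, 5), (1, 4), (3, 6)],
    [(1, 6), (6, 4), (2, 3), (3, 5)], [(2, 4), (5, 6)],
    [(0, 1), (2, 5)], [(1, 2), (2, 3)],
    [(0, 4), (3, 5)], [(0, 1), (1, 3), (3, 6), (2, 5)],
    [(0, 3), (3, 6), (2, 4), (4, 5)], [(1, 6), (6, 4), (2, 5), (5, 3)],
    [(1, 2), (3, 5), (5, 4), (4, 6)], [(1, 2), (3, 5)],
    [(1, 3), (3, 6), (6, 2), (4, 5)], [(1, 2), (3, 6), (6, 4), (4, 5)],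
    [(3, 6), (6, 4)], [(1, 2), (2, 5), (5, 6), (6, 3)],
    [(1, 4), (2, 5), (5, 3), (3, 6)], [(1, 4), (3, 5)],
    [(2, 5), (5, 6), (6, 3), (3, 4)], [(1, 3), (2, 5)],
    [(0, 1), (1, 6), (6, 5), (2, 4)], [(0, 1), (1, 5), (2, 4), (3, 6)],
    [(0, 3), (3, 5), (1, 6), (2, 4)], [(2, 3), (3, 5), (5, 6), (6, 4)],
    [(1, 5), (5, 2)], [(1, 6), (2, 4), (4, 3), (3, 5)],
    [(1, 6), (6, 3), (3, 5), (5, 4)], [(1, 4), (4, 5)],
    [(1, 5), (5, 4), (2, 6), (6, 3)], [(1, 6), (2, 5), (5, 3), (3, 4)],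
    [(0, 4), (3, 6)], [(2, 6), (6, 5), (5, 3), (3, 4)],
    [(0, 1), (1, 5)], [(0, 3), (3, 6), (6, 5), (2, 4)],
    [(1, 5), (5, 2), (3, 4), (4, 6)], [(0, 1), (1, 3), (3, 5), (2, 6)],
    [(1, 3), (2, 4), (4, 5), (5, 6)], [(0, 6), (6, 3)],
    [(1, 4), (2, 6), (6, 5), (5, 3)], [(0, 1), (1, 6), (2, 4), (3, 5)],
    [(0, 2), (2, 1), (1, 5), (5, 6)], [(1, 5), (5, 3), (3, 4), (4, 6)],
    [(1, 6), (6, 5), (5, 4), (2, 3)], [(0, 1), (1, 3), (3, 6), (4, 5)],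
    [(1, 3), (3, 6), (6, 4), (4, 5)], [(0, 2), (1, 5)],
    [(1, 6), (6, 3), (3, 2), (2, 5)], [(1, 4), (2, 3)]]
  tab := [
    [(1, 1), (3, 1), (4, 2), (9, 4), (5, 1), (10, 0), (11, 0), (12, 1), (13, 4), (25, 1), (14, 2), (15, 2),
     (26, 3), (27, 1), (28, 4), (29, 1), (30, 2), (31, 0), (32, 1), (33, 3), (34, 2), (35, 4), (36, 1), (37, 1),
     (38, 2), (66, 1), (67, 2), (68, 2), (39, 2), (16, 1), (40, 1), (41, 0), (42, 3), (69, 1), (70, 3), (71, 1),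
     (72, 2), (73, 2), (74, 3), (2, 4), (6, 3), (75, 1), (76, 4), (77, 4), (78, 0), (79, 2), (62, 2), (80, 1),
     (81, 4), (82, 1), (83, 2), (84, 3), (85, 0), (86, 2), (87, 2), (88, 0), (45, 4), (89, 3), (90, 1), (91, 4),
     (92, 3), (93, 2), (94, 0), (95, 3), (96, 1), (97, 3), (100, 1), (156, 1), (119, 4), (157, 2), (158, 1), (159, 2),
     (160, 0), (123, 3), (161, 1), (98, 1), (99, 1), (101, 3), (58, 1), (102, 1), (103, 1), (104, 0), (20, 1), (105, 1),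
     (162, 1), (163, 3), (164, 2), (165, 2), (166, 3), (167, 0), (107, 2), (168, 1), (169, 3), (170, 1), (111, 4), (171, 4),
     (172, 1), (173, 0), (174, 4), (128, 3), (0, 1), (175, 0), (176, 1), (177, 1), (178, 2), (179, 1), (180, 4), (181, 0),
     (145, 4), (182, 0), (118, 3), (183, 3), (184, 3), (185, 1), (186, 1), (187, 4), (143, 4), (188, 1), (189, 4), (190, 2),
     (191, 3), (192, 0), (146, 1), (193, 1), (194, 2), (63, 1), (140, 3), (117, 3), (195, 0), (196, 4), (197, 0), (54, 2),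
     (198, 0), (121, 3), (199, 2), (200, 2), (201, 1), (202, 1), (203, 4), (204, 2), (205, 1), (206, 4), (141, 0), (207, 1),
     (208, 3), (209, 3), (153, 0), (210, 1), (211, 1), (212, 1), (213, 0), (214, 1), (215, 4), (216, 3), (217, 1), (218, 1),
     (317, 1), (318, 1), (247, 2), (319, 4), (320, 4), (321, 2), (322, 2), (323, 1), (324, 2), (308, 2), (325, 4), (48, 2),
     (326, 1), (327, 0), (261, 3), (328, 4), (116, 1), (108, 4), (219, 3), (106, 0), (220, 0), (221, 1), (57, 4), (222, 3),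
     (223, 2), (224, 4), (225, 1), (226, 4), (227, 2), (228, 0), (229, 1), (230, 4), (231, 1), (232, 1), (233, 4), (234, 4),
     (235, 3), (236, 4), (131, 0), (18, 3), (113, 1), (312, 2), (329, 4), (150, 2), (330, 1), (315, 1), (249, 2), (331, 2),
     (24, 0), (251, 4), (332, 3), (333, 1), (334, 3), (335, 0), (286, 1), (246, 3), (336, 1), (307, 0), (337, 1), (338, 3),
     (301, 3), (339, 1), (340, 0), (17, 1), (341, 4), (342, 2), (343, 4), (43, 2), (44, 2), (344, 2), (314, 2), (269, 2),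
     (345, 0), (284, 1), (59, 3), (346, 2), (238, 1), (8, 3), (300, 4), (347, 0), (348, 3), (349, 3), (350, 2), (305, 2),
     (137, 4), (351, 3), (125, 4), (352, 0), (353, 0), (354, 1), (355, 1), (49, 0), (356, 0), (357, 1), (316, 2), (358, 1),
     (359, 1), (281, 1), (134, 4), (60, 3), (360, 1), (361, 1), (272, 1), (362, 4), (363, 3), (364, 1), (365, 2), (366, 2),
     (367, 0), (148, 4), (368, 2), (369, 1), (370, 1), (239, 4), (371, 4), (133, 0), (372, 3), (373, 4), (285, 3), (374, 4),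
     (112, 1), (241, 0), (266, 4), (155, 2), (267, 1), (154, 1), (375, 1), (376, 4), (377, 0), (278, 2), (268, 1), (378, 0),
     (379, 3), (61, 1), (380, 0), (381, 3), (382, 2), (311, 1), (55, 2), (240, 3), (383, 3), (384, 1), (385, 4), (386, 2),
     (387, 1), (388, 1), (250, 1), (389, 3), (130, 0), (276, 1), (390, 4), (391, 4), (124, 0), (392, 1), (393, 1), (394, 2),
     (395, 4), (396, 2), (46, 0), (262, 0), (397, 0), (403, 1), (402, 0), (467, 2), (468, 2), (139, 0), (292, 0), (462, 1),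
     (435, 2), (296, 4), (115, 3), (248, 3), (469, 2), (464, 1), (470, 1), (243, 1), (446, 2), (64, 1), (443, 0), (65, 1),
     (414, 1), (409, 1), (471, 3), (313, 3), (445, 2), (56, 3), (398, 1), (399, 4), (237, 1), (400, 1), (298, 0), (401, 3),
     (23, 1), (404, 1), (405, 3), (406, 3), (407, 1), (53, 0), (126, 3), (259, 4), (255, 3), (408, 3), (245, 2), (410, 1),
     (411, 3), (256, 4), (265, 3), (144, 3), (412, 4), (413, 4), (415, 1), (283, 4), (416, 0), (417, 1), (452, 0), (120, 1),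
     (424, 1), (450, 2), (460, 0), (52, 3), (465, 4), (472, 4), (291, 1), (473, 4), (258, 2), (431, 3), (420, 4), (294, 4),
     (444, 0), (127, 4), (429, 3), (270, 3), (425, 2), (151, 1), (463, 0), (254, 3), (474, 3), (475, 3), (476, 0), (477, 0),
     (253, 1), (288, 4), (47, 3), (50, 0), (129, 3), (271, 1), (478, 4), (7, 1), (109, 2), (110, 1), (479, 1), (480, 2),
     (295, 1), (481, 4), (149, 1), (482, 4), (289, 3), (455, 1), (252, 4), (437, 3), (422, 1), (299, 1), (483, 3), (22, 4),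
     (51, 3), (484, 4), (274, 3), (485, 4), (486, 1), (122, 0), (260, 3), (439, 1), (135, 2), (280, 1), (306, 2), (487, 1),
     (488, 1), (421, 4), (456, 2), (244, 2), (433, 3), (489, 1), (279, 2), (490, 2), (459, 1), (461, 3), (263, 1), (426, 0),
     (491, 0), (492, 4), (434, 2), (493, 1), (436, 4), (441, 3), (132, 2), (287, 1), (457, 4), (257, 1), (423, 0), (136, 1),
     (142, 2), (147, 2), (494, 4), (448, 1), (495, 4), (496, 2), (282, 1), (497, 2), (273, 2), (498, 4), (114, 1), (499, 0),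
     (419, 2), (242, 2), (432, 1), (310, 2), (466, 2), (302, 1), (275, 4), (152, 4), (454, 4), (500, 2), (19, 4), (418, 4),
     (138, 0), (303, 4), (453, 1), (277, 1), (440, 3), (293, 4), (290, 2), (451, 1), (428, 2), (501, 4), (449, 1), (502, 3),
     (438, 4), (430, 0), (297, 3), (309, 4), (427, 3), (447, 1), (503, 4), (21, 2), (304, 2), (442, 3), (458, 4), (264, 0)],
    [(2, 0), (5, 2), (6, 0), (14, 3), (15, 0), (16, 1), (0, 0), (17, 2), (18, 0), (39, 0), (40, 4), (3, 2),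
     (41, 1), (42, 0), (11, 0), (25, 0), (1, 2), (43, 3), (44, 0), (45, 0), (46, 1), (47, 0), (48, 3), (49, 1),
     (50, 1), (4, 0), (98, 0), (99, 4), (29, 4), (100, 1), (9, 0), (101, 0), (58, 0), (102, 0), (94, 1), (103, 3),
     (104, 1), (20, 2), (105, 2), (30, 0), (66, 1), (106, 0), (107, 0), (7, 0), (8, 0), (108, 0), (37, 2), (109, 0),
     (110, 2), (111, 4), (112, 2), (113, 2), (114, 0), (115, 4), (116, 2), (117, 0), (97, 0), (118, 0), (119, 0), (120, 2),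
     (121, 0), (122, 1), (123, 0), (124, 1), (125, 0), (33, 0), (10, 0), (219, 0), (195, 0), (220, 0), (183, 0), (221, 4),
     (57, 0), (70, 0), (222, 3), (223, 0), (224, 0), (26, 0), (27, 0), (209, 0), (225, 0), (189, 0), (226, 0), (227, 0),
     (228, 0), (229, 2), (230, 0), (207, 0), (231, 2), (232, 2), (233, 0), (234, 0), (235, 0), (153, 0), (236, 0), (131, 0),
     (95, 3), (157, 0), (77, 0), (78, 1), (28, 0), (156, 0), (65, 0), (237, 2), (238, 2), (239, 0), (12, 4), (13, 0),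
     (19, 0), (21, 0), (22, 0), (23, 0), (24, 2), (240, 3), (241, 0), (191, 1), (242, 3), (243, 0), (72, 0), (32, 0),
     (244, 3), (245, 0), (246, 4), (247, 0), (143, 0), (165, 0), (248, 0), (203, 0), (90, 0), (249, 0), (214, 2), (96, 2),
     (250, 0), (251, 0), (252, 0), (253, 0), (254, 0), (162, 0), (88, 2), (179, 2), (255, 0), (256, 0), (257, 0), (63, 4),
     (258, 4), (69, 0), (259, 3), (260, 0), (261, 0), (262, 0), (212, 0), (263, 0), (264, 0), (265, 0), (266, 0), (267, 0),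
     (31, 0), (56, 0), (314, 0), (398, 0), (167, 3), (399, 0), (400, 0), (377, 0), (91, 0), (64, 0), (298, 1), (350, 0),
     (387, 4), (401, 0), (301, 0), (87, 0), (328, 0), (402, 1), (175, 4), (403, 2), (173, 2), (404, 0), (405, 0), (276, 2),
     (67, 0), (68, 3), (71, 0), (73, 0), (74, 4), (202, 2), (406, 0), (300, 0), (407, 0), (320, 0), (76, 0), (53, 0),
     (126, 4), (82, 0), (333, 0), (181, 2), (408, 0), (409, 4), (397, 2), (410, 0), (154, 0), (199, 0), (292, 1), (325, 0),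
     (343, 2), (92, 0), (411, 0), (171, 0), (372, 0), (318, 0), (144, 0), (412, 4), (413, 0), (414, 2), (415, 2), (283, 0),
     (211, 2), (416, 1), (417, 1), (180, 0), (145, 0), (182, 1), (184, 3), (317, 0), (190, 0), (319, 0), (193, 0), (321, 0),
     (357, 0), (418, 4), (270, 0), (138, 1), (419, 3), (128, 0), (164, 0), (205, 0), (34, 4), (35, 0), (36, 2), (38, 3),
     (51, 0), (52, 0), (54, 0), (55, 0), (59, 0), (60, 0), (61, 0), (62, 0), (192, 1), (420, 0), (421, 0), (327, 4),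
     (365, 0), (422, 0), (336, 4), (271, 0), (423, 3), (311, 2), (210, 1), (364, 2), (424, 0), (425, 0), (391, 0), (395, 0),
     (287, 2), (93, 0), (200, 0), (390, 0), (426, 4), (204, 0), (86, 0), (140, 0), (268, 2), (316, 0), (330, 0), (427, 1),
     (139, 1), (282, 1), (428, 0), (429, 0), (430, 0), (285, 0), (284, 2), (431, 0), (277, 2), (432, 4), (334, 0), (152, 3),
     (433, 0), (388, 0), (370, 1), (310, 4), (185, 2), (434, 0), (385, 0), (382, 1), (188, 0), (374, 0), (352, 1), (306, 3),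
     (435, 0), (355, 3), (436, 4), (437, 0), (389, 0), (161, 0), (438, 0), (359, 2), (172, 0), (439, 0), (367, 3), (142, 3),
     (303, 0), (278, 1), (348, 0), (213, 1), (440, 0), (75, 0), (79, 0), (80, 0), (81, 0), (83, 0), (196, 0), (466, 0),
     (326, 0), (127, 0), (371, 0), (133, 1), (308, 0), (379, 0), (339, 1), (383, 0), (453, 2), (469, 0), (486, 4), (478, 4),
     (136, 1), (489, 0), (465, 0), (274, 4), (386, 4), (335, 4), (344, 2), (269, 3), (499, 0), (295, 4), (331, 0), (358, 0),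
     (158, 0), (159, 0), (160, 2), (163, 0), (166, 3), (168, 0), (169, 0), (170, 2), (347, 4), (84, 0), (356, 1), (455, 4),
     (293, 0), (476, 3), (289, 0), (290, 0), (146, 0), (134, 0), (500, 0), (291, 3), (470, 0), (497, 1), (363, 4), (324, 0),
     (452, 0), (288, 0), (490, 0), (472, 0), (451, 3), (351, 0), (338, 0), (484, 0), (457, 0), (475, 0), (345, 0), (346, 0),
     (495, 3), (480, 0), (463, 0), (353, 1), (362, 0), (501, 2), (155, 0), (149, 0), (449, 2), (376, 0), (206, 0), (151, 0),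
     (368, 0), (448, 2), (349, 0), (305, 0), (137, 0), (354, 0), (176, 2), (174, 4), (467, 0), (468, 0), (462, 4), (296, 0),
     (322, 0), (442, 1), (201, 0), (394, 0), (216, 4), (150, 0), (315, 2), (130, 1), (488, 2), (493, 2), (85, 4), (89, 0),
     (129, 0), (132, 0), (135, 0), (141, 2), (147, 0), (148, 0), (272, 4), (491, 4), (313, 4), (447, 0), (445, 4), (215, 0),
     (281, 1), (373, 0), (360, 0), (187, 0), (464, 2), (312, 0), (299, 2), (458, 0), (273, 0), (502, 0), (197, 0), (380, 1),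
     (392, 3), (280, 1), (361, 2), (279, 0), (198, 1), (444, 0), (473, 0), (393, 2), (208, 0), (485, 3), (456, 0), (307, 4),
     (482, 0), (443, 4), (309, 0), (450, 0), (441, 4), (494, 0), (186, 1), (340, 1), (302, 4), (378, 0), (483, 0), (177, 0),
     (178, 0), (194, 0), (396, 0), (503, 0), (479, 0), (459, 0), (461, 0), (498, 0), (446, 0), (337, 2), (341, 2), (375, 0),
     (294, 0), (366, 0), (454, 0), (323, 0), (329, 0), (332, 0), (286, 1), (471, 0), (217, 2), (477, 3), (297, 0), (275, 0),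
     (369, 4), (218, 2), (474, 0), (496, 0), (384, 2), (492, 0), (381, 0), (342, 3), (481, 0), (304, 3), (460, 1), (487, 0)],
    [(0, 1), (7, 1), (8, 3), (19, 1), (20, 1), (21, 1), (22, 4), (23, 1), (24, 0), (51, 3), (52, 3), (53, 0),
     (54, 1), (55, 2), (56, 0), (57, 4), (58, 1), (59, 1), (60, 3), (61, 1), (62, 1), (40, 1), (63, 1), (64, 1),
     (65, 1), (126, 3), (127, 4), (128, 3), (129, 3), (130, 1), (131, 0), (132, 2), (133, 0), (134, 4), (135, 1), (31, 2),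
     (136, 1), (83, 1), (137, 1), (138, 0), (139, 1), (34, 3), (140, 3), (141, 0), (142, 2), (143, 1), (75, 1), (144, 3),
     (145, 1), (146, 1), (147, 1), (69, 1), (148, 4), (70, 1), (149, 1), (150, 2), (87, 2), (79, 2), (14, 2), (151, 1),
     (152, 4), (66, 1), (29, 1), (153, 1), (154, 1), (155, 2), (268, 1), (78, 0), (171, 0), (236, 4), (269, 2), (270, 3),
     (271, 1), (272, 0), (273, 2), (274, 3), (221, 1), (36, 1), (203, 4), (242, 2), (275, 4), (243, 1), (276, 1), (277, 1),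
     (278, 2), (279, 1), (280, 1), (16, 0), (10, 1), (188, 1), (281, 1), (27, 1), (162, 1), (282, 0), (241, 1), (283, 0),
     (284, 1), (285, 3), (286, 1), (250, 1), (217, 1), (13, 4), (112, 1), (287, 1), (288, 4), (212, 1), (289, 3), (290, 1),
     (291, 1), (292, 0), (267, 1), (293, 4), (258, 1), (238, 1), (176, 1), (111, 1), (89, 1), (294, 4), (295, 1), (296, 4),
     (297, 1), (298, 0), (299, 1), (92, 3), (206, 4), (101, 3), (222, 1), (202, 1), (300, 4), (173, 0), (4, 1), (301, 1),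
     (213, 0), (262, 1), (302, 1), (303, 4), (304, 2), (120, 1), (30, 2), (305, 1), (306, 2), (307, 0), (308, 2), (309, 3),
     (310, 2), (311, 1), (312, 1), (313, 4), (314, 2), (315, 1), (125, 4), (231, 1), (108, 0), (316, 2), (1, 1), (2, 4),
     (441, 3), (182, 0), (118, 3), (160, 0), (372, 3), (230, 4), (418, 4), (442, 0), (330, 1), (77, 4), (391, 1), (106, 0),
     (246, 3), (443, 0), (380, 0), (33, 3), (105, 1), (362, 1), (121, 4), (444, 1), (445, 1), (232, 1), (94, 0), (76, 1),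
     (254, 3), (428, 2), (224, 4), (446, 2), (377, 3), (234, 1), (432, 1), (447, 1), (448, 1), (99, 1), (449, 1), (367, 0),
     (450, 1), (451, 1), (35, 4), (410, 2), (199, 2), (95, 3), (15, 2), (46, 0), (239, 4), (179, 1), (207, 1), (359, 1),
     (175, 0), (322, 2), (331, 2), (216, 3), (327, 0), (91, 4), (425, 2), (342, 2), (100, 1), (194, 2), (177, 1), (356, 0),
     (26, 1), (172, 1), (317, 1), (12, 1), (452, 1), (326, 1), (412, 4), (233, 4), (379, 3), (98, 1), (453, 1), (411, 3),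
     (395, 4), (339, 1), (71, 1), (348, 1), (257, 1), (197, 1), (392, 1), (394, 4), (358, 1), (424, 1), (454, 1), (455, 1),
     (456, 2), (366, 2), (198, 0), (437, 3), (244, 2), (190, 2), (371, 4), (181, 0), (399, 1), (345, 0), (333, 1), (346, 4),
     (332, 3), (457, 4), (84, 3), (458, 4), (260, 3), (459, 1), (460, 1), (215, 1), (421, 4), (461, 3), (341, 4), (253, 1),
     (228, 3), (406, 3), (265, 3), (96, 1), (3, 1), (324, 2), (423, 0), (462, 1), (263, 1), (349, 3), (196, 4), (436, 1),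
     (186, 1), (187, 1), (427, 3), (463, 0), (247, 2), (369, 1), (382, 2), (223, 2), (433, 1), (169, 3), (336, 1), (343, 1),
     (464, 1), (328, 4), (402, 0), (18, 2), (252, 4), (387, 1), (168, 1), (409, 4), (465, 4), (361, 1), (400, 1), (72, 1),
     (209, 3), (39, 2), (68, 2), (466, 2), (165, 2), (5, 1), (393, 1), (420, 1), (353, 0), (195, 0), (426, 3), (440, 1),
     (357, 1), (237, 4), (88, 0), (219, 1), (6, 2), (229, 1), (261, 3), (494, 4), (183, 3), (397, 0), (318, 1), (42, 3),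
     (11, 0), (354, 1), (201, 1), (266, 1), (383, 3), (44, 2), (352, 0), (419, 2), (474, 1), (493, 1), (334, 3), (256, 0),
     (488, 1), (501, 1), (404, 1), (480, 1), (478, 4), (502, 4), (405, 0), (338, 1), (497, 0), (255, 3), (492, 3), (350, 0),
     (17, 1), (438, 4), (429, 2), (85, 0), (184, 4), (329, 4), (93, 2), (473, 1), (385, 4), (486, 1), (9, 1), (381, 3),
     (158, 1), (38, 1), (491, 0), (482, 4), (378, 3), (415, 1), (416, 0), (119, 2), (413, 4), (414, 1), (365, 1), (117, 3),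
     (373, 4), (477, 0), (123, 3), (90, 1), (469, 2), (164, 2), (81, 2), (487, 1), (407, 1), (67, 2), (325, 0), (167, 0),
     (48, 1), (431, 3), (398, 0), (500, 1), (174, 4), (335, 0), (97, 3), (376, 4), (226, 1), (323, 1), (264, 0), (235, 4),
     (351, 3), (422, 1), (200, 2), (408, 3), (388, 1), (319, 4), (220, 1), (370, 1), (103, 1), (363, 3), (208, 3), (210, 1),
     (430, 3), (360, 1), (45, 4), (80, 1), (439, 1), (204, 3), (375, 1), (470, 1), (178, 2), (82, 1), (374, 4), (435, 2),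
     (490, 2), (389, 3), (344, 2), (161, 2), (50, 0), (170, 1), (481, 4), (180, 4), (86, 0), (472, 4), (496, 2), (259, 2),
     (417, 1), (110, 1), (74, 1), (124, 0), (227, 1), (364, 1), (434, 0), (25, 1), (384, 1), (489, 1), (320, 4), (390, 1),
     (368, 2), (192, 1), (163, 1), (37, 1), (483, 1), (340, 0), (114, 1), (337, 1), (107, 2), (185, 1), (355, 1), (386, 3),
     (156, 1), (73, 4), (495, 0), (214, 1), (467, 1), (205, 1), (122, 1), (396, 1), (485, 3), (191, 0), (41, 0), (102, 1),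
     (104, 0), (499, 0), (403, 1), (479, 1), (484, 4), (113, 1), (109, 2), (193, 1), (401, 3), (159, 3), (245, 3), (251, 4),
     (218, 1), (47, 3), (211, 1), (116, 1), (347, 0), (468, 2), (49, 1), (157, 2), (225, 1), (240, 3), (43, 2), (28, 1),
     (471, 3), (189, 1), (498, 4), (249, 3), (248, 1), (321, 2), (476, 0), (166, 3), (115, 3), (475, 1), (32, 1), (503, 4)]]

/-- cosets -/
def B7 : Dt where
  gT := [[(0, 1), (1, 2), (2, 3), (3, 4), (4, 5), (5, 6)]]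
  zw := [[], [0], [0, 0], [0, 0, 0], [0, 0, 0, 0], [0, 0, 0, 0, 0], [0, 0, 0, 0, 0, 0]]
  reps := [
    [], [(1, 2), (2, 4), (3, 6), (6, 5)],
    [(0, 6), (6, 5)], [(0, 6), (6, 1)],
    [(1, 4), (4, 2), (3, 5), (5, 6)], [(1, 3), (3, 2), (2, 5), (5, 6)],
    [(1, 6), (6, 3), (3, 4), (4, 5)], [(0, 5), (1, 6)],
    [(0, 2), (2, 1)], [(1, 2), (3, 4), (4, 6), (6, 5)],
    [(1, 3), (3, 6), (2, 5), (5, 4)], [(0, 2), (1, 6)],
    [(1, 4), (4, 3), (2, 6), (6, 5)], [(1, 6), (6, 2), (2, 3), (3, 4)],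
    [(1, 5), (5, 2), (2, 4), (4, 3)], [(0, 1), (4, 5)],
    [(1, 5), (5, 3), (3, 6), (6, 4)], [(1, 2), (2, 5), (5, 4), (4, 6)],
    [(1, 6), (6, 3)], [(0, 4), (2, 6)],
    [(3, 5), (4, 6)], [(1, 3), (3, 2)],
    [(1, 3), (3, 2), (2, 5), (5, 4)], [(0, 2), (1, 3)],
    [(1, 2), (2, 4), (4, 6), (6, 5)], [(1, 4), (4, 6), (2, 5), (5, 3)],
    [(2, 6), (6, 3), (3, 5), (5, 4)], [(1, 2), (5, 6)],
    [(1, 2), (2, 4), (3, 5), (5, 6)], [(1, 5), (5, 6), (6, 4), (4, 3)],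
    [(0, 4), (4, 2)], [(0, 3), (1, 5)],
    [(0, 5), (4, 6)], [(1, 2), (2, 6), (6, 4), (4, 3)],
    [(1, 4), (4, 5), (5, 6), (6, 3)], [(1, 6), (6, 2), (2, 3), (3, 5)],
    [(0, 6), (2, 3)], [(2, 5), (5, 4), (4, 6), (6, 3)],
    [(0, 3), (3, 6)], [(1, 4), (2, 6)],
    [(0, 6), (6, 2)], [(0, 5), (5, 3)],
    [(1, 5), (5, 3), (3, 2), (2, 4)], [(1, 3), (2, 4)],
    [(0, 1), (3, 4)], [(0, 3), (3, 4)],
    [(1, 6), (6, 2), (2, 4), (3, 5)], [(0, 3), (3, 1)],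
    [(1, 5), (4, 6)], [(1, 6), (3, 4)],
    [(1, 2), (2, 5), (5, 6), (6, 4)], [(0, 6), (1, 2)],
    [(2, 5), (4, 6)], [(1, 2), (4, 5)],
    [(1, 5), (5, 3), (2, 4), (4, 6)], [(0, 4), (2, 5)],
    [(4, 5), (5, 6)], [(2, 4), (4, 3)],
    [(2, 4), (4, 3), (3, 6), (6, 5)], [(1, 4), (4, 5), (5, 6), (6, 2)],
    [(1, 5), (5, 2), (3, 6), (6, 4)], [(1, 5), (5, 3)],
    [(1, 2), (2, 4), (4, 5), (3, 6)], [(1, 4), (4, 3), (3, 5), (5, 2)],
    [(1, 4), (4, 2), (2, 6), (3, 5)], [(1, 5), (5, 6), (6, 3), (2, 4)],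
    [(0, 1), (1, 4)], [(0, 3), (2, 5)],
    [(1, 6), (6, 4)], [(2, 6), (6, 4), (4, 3), (3, 5)],
    [(2, 4), (3, 5)], [(1, 4), (4, 5)],
    [(1, 5), (5, 3), (3, 2), (2, 6)], [(1, 4), (4, 2)],
    [(0, 5), (2, 6)], [(0, 2), (4, 5)],
    [(1, 5), (5, 4), (4, 6), (6, 2)], [(0, 1), (2, 3)],
    [(0, 5), (3, 6)], [(2, 3), (5, 6)],
    [(1, 4), (4, 6), (6, 2), (2, 3)], [(1, 5), (3, 6)],
    [(0, 5), (5, 6)], [(1, 6), (6, 5), (5, 3), (3, 4)],
    [(1, 6), (6, 5), (2, 3), (3, 4)], [(1, 4), (4, 5), (5, 2), (3, 6)],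
    [(1, 2), (2, 5)], [(1, 4), (3, 6)],
    [(0, 5), (5, 2)], [(1, 6), (6, 2), (2, 4), (4, 5)],
    [(1, 6), (6, 2)], [(1, 3), (3, 4), (4, 2), (5, 6)],
    [(0, 6), (3, 4)], [(1, 5), (5, 6), (6, 4), (4, 2)],
    [(1, 4), (4, 3)], [(0, 2), (5, 6)],
    [(1, 4), (4, 2), (2, 3), (3, 6)], [(1, 5), (2, 4), (4, 6), (6, 3)],
    [(0, 1), (4, 6)], [(1, 3), (3, 2), (4, 5), (5, 6)],
    [(1, 2), (2, 4), (4, 3), (3, 6)], [(1, 6), (6, 2), (3, 4), (4, 5)],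
    [(1, 5), (2, 6)], [(1, 4), (4, 5), (2, 6), (6, 3)],
    [(1, 5), (5, 2), (2, 3), (3, 6)], [(1, 4), (4, 6), (6, 3), (3, 2)],
    [(0, 5), (2, 3)], [(2, 5), (5, 4)],
    [(1, 2), (3, 4)], [(0, 1), (3, 6)],
    [(1, 5), (5, 6)], [(2, 3), (3, 6), (6, 5), (5, 4)],
    [(1, 2), (2, 3), (4, 6), (6, 5)], [(1, 5), (5, 4), (4, 2), (3, 6)],
    [(1, 4), (4, 5), (5, 3), (3, 2)], [(1, 5), (5, 3), (3, 4), (4, 2)],
    [(1, 6), (2, 4), (4, 5), (5, 3)], [(1, 5), (2, 3), (3, 6), (6, 4)],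
    [(1, 3), (3, 4), (4, 6), (6, 5)], [(1, 2), (2, 3), (3, 5), (4, 6)],
    [(0, 2), (2, 3)], [(2, 5), (3, 6)],
    [(1, 5), (3, 4)], [(0, 4), (2, 3)],
    [(2, 5), (5, 6)], [(1, 4), (2, 5), (5, 6), (6, 3)],
    [(2, 3), (3, 5)], [(3, 5), (5, 6)],
    [(1, 2), (2, 6), (6, 5), (3, 4)], [(1, 2), (2, 5), (5, 3), (3, 4)],
    [(3, 5), (5, 4)], [(1, 4), (2, 3), (3, 6), (6, 5)],
    [(1, 3), (3, 5), (5, 4), (4, 2)], [(1, 4), (2, 3), (3, 5), (5, 6)],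
    [(2, 6), (6, 4)], [(1, 3), (3, 4), (4, 2), (2, 5)],
    [(2, 5), (5, 3)], [(0, 3), (1, 6)],
    [(1, 3), (5, 6)], [(1, 5), (5, 2), (2, 3), (4, 6)],
    [(0, 4), (1, 6)], [(1, 6), (6, 2), (2, 3), (4, 5)],
    [(0, 1), (1, 6)], [(1, 4), (4, 2), (2, 5), (5, 6)],
    [(2, 3), (3, 6)], [(1, 5), (5, 3), (3, 6), (2, 4)],
    [(0, 3), (3, 2)], [(1, 6), (6, 3), (3, 4), (4, 2)],
    [(0, 6), (1, 3)], [(1, 3), (3, 2), (2, 6), (6, 4)],
    [(1, 2), (2, 4), (4, 6), (6, 3)], [(0, 5), (1, 2)],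
    [(1, 4), (2, 6), (6, 5), (5, 3)], [(1, 2), (2, 5), (5, 3), (3, 6)],
    [(0, 3), (2, 6)], [(1, 3), (3, 2), (2, 6), (6, 5)],
    [(1, 5), (5, 6), (6, 4), (2, 3)], [(1, 6), (6, 3), (2, 4), (4, 5)],
    [(3, 6), (6, 5)], [(2, 3), (4, 5)],
    [(0, 4), (1, 2)], [(0, 2), (2, 6)],
    [(1, 3), (3, 6), (6, 4), (2, 5)], [(1, 5), (5, 4), (4, 3), (2, 6)],
    [(1, 3), (3, 4), (2, 5), (5, 6)], [(2, 5), (5, 6), (6, 4), (4, 3)],
    [(2, 6), (6, 4), (4, 5), (5, 3)], [(1, 3), (3, 5), (5, 6), (6, 4)],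
    [(1, 2), (2, 6), (6, 5), (5, 3)], [(1, 2), (2, 5), (5, 4), (4, 3)],
    [(1, 3), (3, 4)], [(0, 4), (3, 6)],
    [(2, 6), (4, 5)], [(1, 4), (4, 6), (6, 2), (3, 5)],
    [(3, 4), (4, 6)], [(0, 4), (4, 6)],
    [(2, 3), (3, 6), (6, 4), (4, 5)], [(1, 2), (3, 5), (5, 4), (4, 6)],
    [(3, 6), (6, 4)], [(1, 3), (3, 2), (2, 4), (5, 6)],
    [(4, 6), (6, 5)], [(0, 1), (2, 4)],
    [(1, 3), (3, 6), (6, 4), (4, 5)], [(1, 6), (6, 2), (2, 4), (4, 3)],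
    [(1, 6), (2, 3)], [(1, 3), (3, 6)],
    [(2, 4), (4, 6), (6, 5), (5, 3)], [(0, 6), (2, 5)],
    [(2, 6), (3, 5)], [(1, 3), (3, 4), (4, 5), (5, 2)],
    [(0, 3), (5, 6)], [(2, 5), (3, 4)],
    [(1, 3), (3, 5), (5, 4), (2, 6)], [(3, 4), (4, 5)],
    [(1, 5), (5, 4), (4, 6), (2, 3)], [(1, 2), (2, 3), (3, 6), (6, 5)],
    [(1, 4), (4, 6), (6, 5), (5, 3)], [(1, 3), (3, 6), (6, 2), (2, 4)],
    [(1, 2), (2, 6), (6, 3), (3, 5)], [(1, 3), (3, 5)],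
    [(3, 4), (5, 6)], [(1, 5), (5, 6), (6, 2), (3, 4)],
    [(0, 2), (4, 6)], [(1, 4), (4, 5), (5, 2), (2, 6)],
    [(1, 2), (2, 3), (3, 5), (5, 4)], [(0, 2), (1, 5)],
    [(1, 2), (2, 3), (3, 6), (6, 4)], [(2, 3), (3, 4)],
    [(1, 2), (2, 6), (6, 5), (5, 4)], [(1, 2), (2, 4)],
    [(1, 4), (4, 6), (6, 3), (2, 5)], [(1, 4), (4, 2), (2, 3), (5, 6)],
    [(0, 1), (1, 2)], [(1, 4), (4, 5), (5, 3), (2, 6)],
    [(1, 6), (6, 3), (3, 2), (2, 5)], [(0, 1), (3, 5)],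
    [(1, 6), (2, 5)], [(1, 3), (2, 4), (4, 5), (5, 6)],
    [(1, 3), (3, 4), (4, 2), (2, 6)], [(2, 6), (6, 5)],
    [(3, 6), (4, 5)], [(1, 5), (2, 3), (3, 4), (4, 6)],
    [(2, 3), (3, 5), (5, 6), (6, 4)], [(0, 2), (2, 4)],
    [(0, 5), (3, 4)], [(1, 4), (4, 5), (5, 3), (3, 6)],
    [(1, 2), (2, 4), (4, 5), (5, 3)], [(0, 1), (1, 5)],
    [(1, 2), (2, 6), (3, 5), (5, 4)], [(1, 3), (3, 2), (2, 6), (4, 5)],
    [(1, 3), (3, 5), (2, 6), (6, 4)], [(0, 5), (1, 3)],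
    [(1, 6), (6, 3), (3, 5), (2, 4)], [(1, 5), (5, 6), (6, 2), (2, 4)],
    [(0, 4), (4, 1)], [(1, 6), (2, 3), (3, 5), (5, 4)],
    [(1, 3), (4, 5)], [(0, 6), (3, 5)],
    [(0, 1), (1, 3)], [(0, 2), (2, 5)],
    [(1, 5), (5, 6), (6, 3), (3, 2)], [(1, 5), (5, 2)],
    [(2, 5), (5, 3), (3, 4), (4, 6)], [(1, 6), (6, 3), (3, 5), (5, 4)],
    [(1, 5), (5, 4), (4, 2), (2, 6)], [(0, 3), (3, 5)],
    [(1, 3), (2, 6), (6, 5), (5, 4)], [(0, 4), (4, 5)],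
    [(1, 4), (3, 5)], [(1, 3), (3, 5), (5, 6), (6, 2)],
    [(2, 4), (4, 5), (5, 3), (3, 6)], [(0, 2), (1, 4)],
    [(0, 6), (2, 4)], [(1, 3), (2, 5), (5, 4), (4, 6)],
    [(0, 3), (1, 4)], [(1, 3), (3, 2), (2, 5), (4, 6)],
    [(1, 5), (5, 3), (3, 6), (6, 2)], [(1, 5), (5, 4), (4, 3), (3, 6)],
    [(0, 6), (6, 4)], [(1, 5), (2, 3)],
    [(1, 2), (2, 4), (4, 3), (3, 5)], [(1, 3), (3, 4), (4, 6), (6, 2)],
    [(1, 5), (5, 3), (3, 2), (4, 6)], [(1, 3), (3, 4), (4, 5), (2, 6)],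
    [(1, 2), (2, 5), (3, 4), (4, 6)], [(2, 4), (4, 5)],
    [(0, 4), (1, 5)], [(1, 4), (4, 5), (5, 2), (2, 3)],
    [(1, 6), (6, 4), (2, 3), (3, 5)], [(0, 5), (5, 4)],
    [(1, 2), (3, 5)], [(1, 5), (5, 3), (3, 4), (4, 6)],
    [(0, 2), (3, 4)], [(1, 4), (4, 2), (2, 6), (6, 3)],
    [(0, 3), (4, 6)], [(2, 4), (4, 5), (5, 6), (6, 3)],
    [(0, 6), (1, 4)], [(1, 6), (6, 4), (4, 3), (3, 5)],
    [(1, 5), (5, 4), (4, 6), (6, 3)], [(2, 4), (4, 6)],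
    [(0, 6), (4, 5)], [(1, 3), (3, 6), (6, 4), (4, 2)],
    [(1, 4), (4, 2), (2, 6), (6, 5)], [(2, 3), (3, 4), (4, 6), (6, 5)],
    [(1, 3), (2, 6)], [(1, 2), (2, 6), (6, 4), (3, 5)],
    [(1, 4), (4, 6), (6, 3), (3, 5)], [(1, 6), (6, 3), (3, 5), (5, 2)],
    [(1, 2), (2, 3)], [(1, 2), (4, 6)],
    [(0, 2), (3, 6)], [(0, 6), (6, 3)],
    [(0, 4), (5, 6)], [(1, 6), (4, 5)],
    [(1, 6), (6, 3), (3, 2), (2, 4)], [(1, 2), (2, 6)],
    [(1, 6), (6, 4), (4, 5), (2, 3)], [(1, 6), (2, 4)],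
    [(1, 3), (3, 6), (6, 2), (4, 5)], [(2, 4), (5, 6)],
    [(1, 4), (4, 2), (3, 6), (6, 5)], [(2, 6), (6, 3)],
    [(1, 4), (4, 2), (2, 3), (3, 5)], [(1, 4), (4, 6)],
    [(1, 6), (6, 5)], [(1, 6), (6, 5), (5, 2), (2, 3)],
    [(0, 5), (5, 1)], [(2, 3), (4, 6)],
    [(1, 5), (2, 6), (6, 4), (4, 3)], [(0, 5), (1, 4)],
    [(0, 1), (2, 5)], [(2, 5), (5, 6), (6, 3), (3, 4)],
    [(1, 3), (2, 5)], [(0, 1), (5, 6)],
    [(1, 4), (4, 6), (6, 5), (2, 3)], [(0, 3), (2, 4)],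
    [(2, 6), (3, 4)], [(1, 2), (2, 4), (4, 3), (5, 6)],
    [(1, 4), (2, 5)], [(1, 6), (6, 5), (5, 2), (2, 4)],
    [(1, 3), (4, 6)], [(1, 6), (6, 2), (2, 5), (5, 4)],
    [(1, 6), (6, 4), (4, 5), (5, 2)], [(1, 5), (5, 4), (2, 3), (3, 6)],
    [(0, 5), (2, 4)], [(1, 2), (2, 5), (5, 4), (3, 6)],
    [(1, 3), (2, 6), (6, 4), (4, 5)], [(2, 4), (4, 3), (3, 5), (5, 6)],
    [(1, 4), (4, 3), (3, 2), (2, 6)], [(1, 5), (5, 6), (2, 4), (4, 3)],
    [(1, 3), (3, 6), (6, 5), (5, 4)], [(1, 5), (2, 4)],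
    [(0, 4), (4, 3)], [(1, 3), (3, 6), (6, 5), (5, 2)],
    [(0, 2), (3, 5)], [(1, 5), (5, 4), (4, 2), (2, 3)],
    [(1, 2), (2, 5), (5, 6), (6, 3)], [(1, 2), (2, 6), (6, 4), (4, 5)],
    [(1, 6), (3, 5)], [(1, 2), (3, 6)],
    [(2, 6), (6, 5), (5, 3), (3, 4)], [(1, 5), (5, 6), (6, 2), (2, 3)],
    [(2, 3), (3, 5), (5, 4), (4, 6)], [(0, 4), (1, 3)],
    [(0, 6), (1, 5)], [(1, 4), (4, 3), (3, 5), (5, 6)],
    [(1, 3), (3, 2), (2, 4), (4, 5)], [(2, 4), (3, 6)],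
    [(1, 2), (2, 6), (6, 3), (4, 5)], [(0, 3), (4, 5)],
    [(1, 3), (3, 6), (6, 5), (2, 4)], [(1, 2), (3, 6), (6, 4), (4, 5)],
    [(1, 5), (5, 4)], [(1, 4), (4, 6), (6, 5), (5, 2)],
    [(1, 2), (3, 5), (5, 6), (6, 4)], [(0, 1), (2, 6)],
    [(0, 4), (3, 5)], [(1, 4), (5, 6)],
    [(1, 4), (2, 3)], [(0, 3), (1, 2)]]
  tab := [
    [(0, 1), (1, 4), (3, 1), (8, 1), (4, 2), (9, 2), (10, 6), (11, 1), (21, 1), (12, 3), (22, 4), (23, 1),
     (24, 5), (25, 6), (26, 1), (27, 1), (28, 4), (29, 3), (30, 1), (31, 1), (32, 1), (57, 1), (58, 1), (43, 1),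
     (33, 3), (34, 3), (35, 5), (36, 1), (59, 2), (60, 2), (61, 1), (39, 1), (7, 1), (62, 5), (63, 2), (64, 6),
     (44, 1), (65, 3), (66, 1), (67, 1), (47, 1), (68, 1), (69, 1), (70, 1), (53, 1), (71, 1), (72, 6), (73, 1),
     (74, 1), (75, 1), (76, 2), (77, 1), (78, 1), (79, 1), (80, 3), (81, 1), (82, 1), (130, 1), (131, 4), (132, 2),
     (133, 4), (134, 1), (83, 4), (37, 1), (84, 5), (85, 2), (86, 1), (87, 1), (88, 1), (89, 5), (20, 1), (124, 1),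
     (135, 5), (136, 1), (137, 1), (138, 1), (139, 3), (108, 1), (140, 1), (92, 1), (141, 3), (19, 1), (142, 1), (5, 6),
     (143, 6), (13, 4), (144, 1), (55, 1), (18, 1), (145, 6), (146, 1), (147, 2), (15, 1), (113, 2), (107, 1), (148, 1),
     (149, 4), (150, 3), (151, 1), (115, 2), (152, 4), (153, 6), (154, 1), (155, 5), (156, 4), (157, 3), (49, 1), (158, 1),
     (159, 1), (160, 1), (161, 1), (162, 4), (163, 3), (164, 4), (165, 1), (166, 1), (104, 6), (167, 4), (168, 3), (169, 3),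
     (170, 1), (171, 1), (172, 1), (122, 1), (38, 1), (173, 2), (174, 1), (175, 1), (97, 5), (176, 1), (180, 1), (206, 4),
     (186, 1), (249, 2), (41, 1), (250, 1), (178, 1), (251, 1), (252, 1), (253, 3), (205, 1), (225, 6), (212, 1), (177, 2),
     (45, 1), (179, 4), (94, 1), (17, 6), (181, 1), (182, 5), (183, 3), (184, 1), (118, 5), (42, 4), (254, 1), (255, 5),
     (256, 2), (257, 6), (258, 1), (200, 1), (259, 1), (238, 1), (204, 4), (260, 5), (261, 2), (262, 2), (263, 5), (201, 2),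
     (264, 5), (111, 1), (265, 1), (266, 1), (190, 1), (267, 3), (247, 1), (227, 1), (268, 4), (14, 3), (269, 1), (101, 2),
     (2, 1), (270, 1), (243, 4), (271, 6), (272, 1), (223, 1), (273, 3), (109, 1), (274, 1), (275, 1), (276, 1), (220, 1),
     (277, 5), (56, 1), (278, 3), (16, 4), (213, 3), (208, 4), (214, 5), (279, 1), (280, 1), (281, 2), (231, 1), (282, 5),
     (283, 1), (284, 1), (285, 4), (193, 1), (286, 5), (126, 1), (217, 3), (287, 2), (288, 1), (128, 5), (235, 6), (289, 1),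
     (290, 1), (189, 2), (117, 5), (291, 1), (292, 1), (112, 3), (240, 2), (199, 1), (293, 1), (294, 4), (222, 1), (295, 1),
     (232, 5), (230, 5), (296, 5), (297, 1), (244, 6), (298, 2), (241, 1), (203, 6), (299, 1), (98, 1), (209, 1), (185, 1),
     (300, 2), (301, 1), (211, 3), (229, 6), (302, 5), (303, 1), (119, 5), (110, 1), (52, 1), (91, 2), (319, 4), (312, 1),
     (215, 1), (341, 3), (318, 1), (336, 3), (233, 4), (125, 4), (306, 1), (316, 1), (342, 1), (305, 3), (210, 3), (308, 5),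
     (317, 3), (127, 1), (102, 1), (311, 1), (328, 6), (304, 1), (307, 1), (196, 3), (236, 1), (195, 5), (309, 1), (114, 2),
     (310, 1), (218, 6), (54, 3), (245, 1), (313, 1), (192, 4), (314, 5), (246, 3), (315, 1), (6, 5), (226, 3), (228, 6),
     (207, 1), (106, 1), (343, 1), (234, 1), (344, 1), (95, 1), (194, 6), (120, 1), (96, 6), (334, 1), (321, 4), (237, 1),
     (197, 4), (332, 1), (242, 1), (239, 1), (40, 1), (345, 6), (90, 1), (224, 1), (346, 5), (216, 1), (339, 1), (105, 2),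
     (347, 1), (51, 1), (348, 3), (248, 1), (349, 1), (322, 2), (121, 1), (329, 6), (324, 1), (116, 6), (100, 6), (50, 4),
     (338, 1), (129, 4), (337, 5), (99, 2), (350, 5), (351, 2), (325, 4), (188, 1), (352, 1), (323, 4), (320, 1), (340, 1),
     (353, 2), (103, 5), (202, 1), (123, 1), (221, 5), (333, 2), (335, 3), (331, 1), (355, 1), (354, 2), (327, 1), (356, 1),
     (198, 5), (357, 1), (330, 4), (46, 4), (219, 1), (326, 3), (93, 2), (359, 1), (48, 1), (187, 1), (191, 1), (358, 1)],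
    [(1, 0), (4, 0), (5, 2), (12, 6), (0, 0), (13, 0), (14, 0), (15, 3), (33, 6), (34, 0), (35, 0), (36, 4),
     (37, 0), (2, 5), (38, 6), (39, 6), (40, 2), (41, 3), (42, 0), (43, 3), (44, 1), (83, 0), (84, 0), (53, 5),
     (85, 0), (8, 1), (86, 0), (87, 0), (73, 0), (88, 2), (89, 5), (20, 4), (79, 2), (25, 0), (57, 0), (45, 4),
     (81, 1), (3, 1), (6, 1), (7, 5), (90, 5), (69, 4), (91, 0), (92, 6), (31, 2), (10, 3), (93, 0), (94, 6),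
     (95, 2), (54, 0), (96, 0), (97, 1), (98, 1), (67, 3), (99, 0), (32, 1), (100, 0), (9, 0), (177, 0), (178, 0),
     (30, 2), (179, 0), (63, 0), (180, 0), (124, 0), (21, 0), (22, 3), (23, 6), (145, 0), (17, 0), (27, 0), (58, 0),
     (164, 0), (158, 0), (181, 3), (141, 5), (182, 0), (183, 6), (184, 2), (55, 4), (166, 0), (11, 2), (118, 1), (65, 0),
     (66, 4), (130, 0), (131, 0), (70, 0), (101, 5), (60, 0), (16, 0), (18, 0), (19, 5), (185, 0), (186, 0), (187, 4),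
     (188, 0), (189, 0), (190, 2), (49, 0), (173, 0), (29, 0), (162, 0), (191, 0), (192, 0), (193, 0), (194, 2), (195, 0),
     (196, 0), (137, 2), (197, 0), (198, 0), (103, 0), (199, 0), (200, 0), (138, 0), (201, 0), (202, 2), (157, 0), (203, 0),
     (126, 4), (204, 0), (205, 2), (78, 1), (206, 0), (207, 0), (208, 0), (209, 0), (210, 0), (211, 0), (24, 0), (26, 0),
     (304, 0), (134, 0), (153, 0), (305, 0), (306, 1), (307, 4), (294, 0), (229, 0), (236, 3), (308, 0), (264, 1), (144, 0),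
     (285, 0), (249, 0), (59, 5), (61, 0), (160, 5), (309, 5), (114, 0), (310, 3), (311, 0), (133, 0), (283, 4), (292, 4),
     (218, 0), (82, 6), (28, 0), (128, 0), (312, 3), (286, 1), (235, 0), (255, 0), (245, 5), (313, 1), (215, 1), (297, 0),
     (125, 0), (314, 0), (247, 5), (246, 3), (315, 3), (56, 0), (226, 0), (174, 1), (228, 0), (71, 0), (146, 2), (147, 0),
     (62, 0), (316, 6), (290, 2), (262, 0), (123, 4), (46, 0), (47, 1), (48, 1), (50, 0), (51, 6), (52, 4), (112, 0),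
     (231, 5), (317, 0), (263, 0), (269, 4), (275, 0), (227, 5), (318, 0), (319, 0), (150, 0), (320, 0), (321, 5), (254, 3),
     (282, 0), (237, 4), (64, 0), (168, 0), (120, 3), (300, 0), (159, 0), (301, 0), (322, 5), (165, 0), (171, 4), (80, 6),
     (323, 0), (280, 6), (324, 5), (325, 0), (260, 0), (326, 0), (295, 0), (135, 3), (259, 2), (327, 0), (175, 6), (110, 2),
     (291, 3), (274, 3), (216, 0), (104, 2), (241, 0), (281, 0), (328, 6), (102, 0), (276, 6), (122, 1), (222, 4), (329, 2),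
     (170, 0), (330, 0), (234, 1), (331, 0), (332, 3), (72, 2), (214, 0), (240, 2), (299, 0), (68, 0), (354, 0), (293, 5),
     (278, 1), (296, 0), (119, 4), (355, 1), (167, 0), (212, 2), (132, 3), (356, 4), (353, 0), (239, 5), (77, 1), (106, 5),
     (267, 0), (161, 6), (169, 3), (142, 6), (244, 0), (107, 3), (357, 0), (217, 0), (172, 5), (136, 0), (139, 4), (108, 0),
     (140, 5), (334, 2), (346, 0), (351, 0), (271, 1), (338, 0), (121, 0), (348, 0), (151, 5), (143, 0), (265, 0), (352, 0),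
     (152, 0), (225, 0), (76, 5), (176, 4), (335, 3), (349, 3), (115, 0), (238, 3), (343, 4), (256, 0), (277, 0), (339, 0),
     (127, 0), (129, 0), (219, 0), (250, 0), (258, 4), (223, 4), (273, 6), (109, 1), (75, 2), (341, 2), (284, 6), (288, 0),
     (148, 6), (213, 6), (266, 4), (272, 6), (74, 5), (105, 0), (111, 0), (113, 0), (116, 0), (117, 0), (257, 0), (230, 0),
     (156, 2), (302, 0), (344, 6), (289, 0), (242, 0), (261, 0), (232, 0), (333, 0), (268, 4), (243, 0), (298, 5), (155, 0),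
     (358, 0), (359, 3), (233, 0), (248, 0), (336, 0), (149, 0), (337, 0), (253, 3), (221, 1), (279, 0), (252, 6), (270, 0),
     (154, 3), (251, 6), (287, 0), (345, 0), (350, 0), (220, 0), (303, 0), (163, 6), (224, 1), (347, 0), (340, 0), (342, 4)],
    [(2, 1), (6, 5), (7, 1), (16, 3), (17, 6), (18, 3), (19, 1), (20, 3), (45, 0), (46, 4), (47, 3), (48, 3),
     (49, 6), (50, 4), (24, 5), (51, 1), (52, 1), (53, 2), (54, 3), (55, 4), (56, 1), (66, 0), (101, 2), (102, 3),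
     (103, 5), (104, 6), (105, 2), (106, 1), (81, 5), (107, 1), (108, 0), (109, 4), (110, 1), (111, 1), (30, 1), (112, 3),
     (113, 3), (114, 2), (115, 3), (116, 6), (117, 3), (64, 3), (118, 5), (119, 5), (120, 0), (121, 4), (122, 5), (123, 0),
     (124, 1), (125, 4), (126, 1), (60, 3), (127, 1), (36, 1), (128, 5), (129, 0), (0, 1), (212, 0), (89, 5), (146, 1),
     (37, 1), (213, 3), (214, 5), (215, 0), (216, 6), (195, 5), (217, 6), (218, 3), (219, 1), (220, 1), (221, 5), (40, 1),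
     (34, 3), (44, 0), (222, 3), (148, 1), (132, 2), (223, 0), (70, 3), (224, 1), (225, 6), (226, 3), (227, 1), (28, 4),
     (167, 4), (228, 6), (33, 3), (229, 6), (230, 3), (154, 1), (139, 3), (192, 4), (210, 4), (136, 1), (77, 0), (231, 1),
     (203, 6), (155, 5), (27, 1), (57, 1), (232, 5), (233, 4), (234, 4), (235, 6), (236, 3), (98, 0), (26, 3), (237, 1),
     (238, 0), (42, 3), (239, 1), (240, 2), (241, 2), (4, 2), (15, 0), (197, 4), (135, 5), (242, 1), (243, 4), (8, 2),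
     (244, 3), (43, 3), (87, 4), (209, 0), (245, 1), (194, 6), (246, 3), (247, 1), (248, 4), (1, 4), (280, 1), (328, 6),
     (147, 2), (25, 6), (158, 1), (330, 4), (273, 3), (271, 3), (324, 1), (311, 1), (13, 0), (333, 2), (262, 3), (334, 1),
     (335, 3), (84, 5), (160, 0), (164, 4), (256, 3), (58, 1), (198, 5), (69, 3), (184, 6), (94, 3), (310, 4), (336, 3),
     (191, 1), (86, 5), (32, 1), (92, 1), (170, 0), (93, 3), (23, 3), (251, 4), (208, 4), (130, 1), (178, 1), (265, 1),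
     (137, 6), (322, 2), (325, 4), (206, 0), (38, 1), (153, 6), (292, 1), (313, 1), (174, 1), (73, 2), (180, 1), (182, 5),
     (82, 1), (272, 0), (279, 1), (260, 5), (278, 3), (61, 3), (263, 5), (281, 3), (211, 3), (323, 4), (309, 1), (131, 4),
     (261, 2), (258, 1), (270, 2), (169, 3), (185, 6), (277, 5), (317, 3), (168, 3), (269, 1), (39, 4), (138, 1), (290, 1),
     (90, 2), (337, 3), (283, 1), (162, 4), (76, 2), (286, 5), (257, 6), (303, 6), (308, 3), (338, 6), (150, 3), (152, 3),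
     (320, 3), (315, 1), (22, 4), (78, 1), (175, 1), (68, 4), (193, 1), (173, 5), (85, 4), (202, 1), (264, 5), (166, 3),
     (289, 2), (9, 2), (250, 1), (188, 3), (259, 5), (67, 1), (207, 0), (339, 2), (252, 1), (300, 3), (72, 3), (134, 3),
     (157, 3), (326, 3), (319, 4), (31, 5), (177, 2), (340, 3), (140, 6), (3, 1), (5, 6), (305, 3), (274, 1), (275, 6),
     (133, 5), (189, 2), (99, 6), (327, 1), (267, 3), (354, 2), (304, 1), (348, 3), (97, 5), (321, 4), (165, 1), (352, 4),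
     (83, 4), (291, 1), (171, 4), (345, 6), (266, 5), (344, 1), (12, 3), (294, 4), (359, 0), (293, 6), (357, 1), (332, 1),
     (346, 6), (172, 1), (63, 2), (190, 1), (142, 1), (186, 1), (297, 6), (268, 4), (341, 3), (176, 1), (10, 6), (205, 5),
     (163, 3), (79, 1), (331, 3), (145, 3), (306, 1), (161, 1), (199, 5), (29, 3), (316, 1), (302, 5), (91, 2), (41, 1),
     (295, 6), (65, 3), (143, 6), (95, 1), (74, 1), (253, 3), (285, 3), (200, 1), (254, 4), (179, 6), (149, 3), (356, 1),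
     (284, 3), (151, 1), (96, 6), (342, 5), (318, 4), (62, 5), (329, 6), (71, 5), (299, 1), (298, 2), (301, 1), (249, 2),
     (80, 5), (59, 2), (347, 1), (349, 1), (355, 0), (350, 5), (201, 2), (314, 5), (288, 0), (312, 3), (282, 3), (287, 2),
     (183, 3), (144, 1), (196, 3), (14, 3), (11, 6), (141, 3), (21, 2), (358, 0), (351, 3), (75, 1), (255, 5), (35, 5),
     (353, 2), (276, 1), (296, 5), (307, 1), (187, 1), (100, 6), (159, 1), (156, 3), (204, 0), (88, 1), (181, 0), (343, 0)]]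

/-- a mask -/
def mA7 : ℕ := 1524291284333980581729295522360019638591473948051217939167339276157347713763913663709649036594392336554720790333191574059542507715127628800000

/-- a mask -/
def mB7 : ℕ := 11467493084259878277757706862028357670351431474417615496860323479851623456518128503013720455951065561432064

/-- a mask -/
def mE7 : ℕ := 19

/-- a sum of words -/
def tA7 : Tr :=
  (.ap 0 (.one (.ap 0 (.one (.ap 0 (.one (.ap 1 (.ap 1 (.ap 2 (.one .nil) .nil) (.ap 2 (.one (.ap 0 (.one (.ap 2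
    (.one (.ap 0 (.one (.ap 2 (.one (.ap 0 (.one .nil) (.ap 2 (.ap 2 (.one .nil) .nil) .nil))) .nil)) (.ap 1 (.ap 2
    (.one (.ap 0 (.one .nil) .nil)) .nil) (.ap 2 (.one .nil) .nil)))) .nil)) .nil)) .nil)) (.ap 2 (.one (.ap 0
    (.one (.ap 0 (.ap 0 (.one (.ap 2 (.one (.ap 0 (.one (.ap 0 (.one .nil) .nil)) .nil)) .nil)) (.ap 2 (.one (.ap 1
    (.ap 2 (.one .nil) .nil) .nil)) .nil)) (.ap 2 (.one (.ap 0 (.one (.ap 0 (.ap 0 (.one (.ap 0 (.ap 2 (.one .nil)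
    .nil) .nil)) .nil) .nil)) (.ap 2 (.one (.ap 1 (.ap 2 (.one .nil) .nil) .nil)) .nil))) .nil))) .nil)) .nil)))
    (.ap 1 (.ap 2 (.one (.ap 0 (.one (.ap 0 (.one (.ap 1 (.ap 2 (.one (.ap 0 (.one .nil) .nil)) .nil) (.ap 2 (.one
    .nil) .nil))) .nil)) .nil)) .nil) (.ap 2 (.one (.ap 0 (.one (.ap 2 (.one (.ap 2 (.one (.ap 0 (.one .nil) (.ap 1
    (.ap 2 (.one .nil) .nil) (.ap 2 (.one (.ap 0 (.one (.ap 2 (.one .nil) .nil)) (.ap 1 (.ap 2 (.one (.ap 0 (.one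
    .nil) .nil)) .nil) .nil))) .nil)))) .nil)) .nil)) (.ap 2 (.one (.ap 0 (.one (.ap 0 (.ap 2 (.one .nil) .nil)
    (.ap 2 (.one (.ap 0 (.one (.ap 0 (.one (.ap 0 (.one (.ap 1 (.ap 2 (.one .nil) .nil) (.ap 2 (.ap 2 (.one (.ap 2
    (.one .nil) .nil)) .nil) .nil))) .nil)) (.ap 2 (.one .nil) .nil))) (.ap 2 (.one (.ap 2 (.one (.ap 2 (.one (.ap
    0 (.ap 0 (.one (.ap 2 (.one .nil) .nil)) .nil) .nil)) .nil)) .nil)) .nil))) .nil))) (.ap 2 (.one (.ap 0 (.ap 2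
    (.one (.ap 2 (.one .nil) .nil)) .nil) (.ap 2 (.one (.ap 0 (.one (.ap 2 (.one (.ap 2 (.one .nil) .nil)) .nil))
    (.ap 1 (.ap 2 (.one .nil) .nil) .nil))) .nil))) .nil))) .nil))) .nil)))) (.ap 1 (.ap 2 (.one .nil) .nil) (.ap 2
    (.one (.ap 0 (.one (.ap 0 (.one (.ap 1 (.ap 2 (.one (.ap 0 (.one (.ap 0 (.one .nil) .nil)) .nil)) .nil) (.ap 2
    (.one (.ap 0 (.one (.ap 0 (.ap 2 (.one .nil) .nil) (.ap 2 (.ap 2 (.one .nil) .nil) .nil))) (.ap 1 (.ap 2 (.one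
    (.ap 0 (.ap 0 (.one .nil) .nil) .nil)) .nil) .nil))) .nil))) (.ap 1 (.ap 2 (.one .nil) .nil) (.ap 2 (.one (.ap
    1 (.ap 2 (.one .nil) .nil) .nil)) .nil)))) (.ap 1 (.ap 2 (.one .nil) .nil) (.ap 2 (.one (.ap 0 (.one (.ap 0
    (.ap 2 (.one .nil) .nil) (.ap 2 (.ap 0 (.one .nil) .nil) .nil))) (.ap 1 (.ap 2 (.one .nil) .nil) .nil)))
    .nil)))) .nil)))) .nil)

/-- a sum of words -/
def tB7 : Tr :=
  (.one (.ap 1 (.ap 2 (.one (.ap 0 (.one (.ap 0 (.one (.ap 0 (.one (.ap 2 (.one (.ap 1 (.ap 2 (.one (.ap 0 (.ap 2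
    (.one .nil) .nil) .nil)) .nil) (.ap 2 (.ap 2 (.one .nil) .nil) .nil))) .nil)) (.ap 1 (.ap 0 (.ap 0 (.one .nil)
    .nil) (.ap 2 (.one (.ap 0 (.one (.ap 0 (.one (.ap 0 (.one (.ap 0 (.ap 0 (.one .nil) .nil) (.ap 2 (.one (.ap 0
    (.one (.ap 0 (.ap 0 (.one (.ap 1 (.ap 2 (.one .nil) .nil) .nil)) .nil) .nil)) (.ap 2 (.ap 2 (.one .nil) .nil)
    .nil))) .nil))) (.ap 2 (.ap 0 (.one (.ap 2 (.one (.ap 0 (.ap 2 (.one .nil) .nil) (.ap 2 (.one .nil) .nil)))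
    .nil)) .nil) .nil))) .nil)) (.ap 2 (.ap 2 (.one (.ap 1 (.ap 2 (.one .nil) .nil) .nil)) .nil) .nil))) .nil))
    (.ap 2 (.ap 2 (.one (.ap 0 (.one (.ap 0 (.one (.ap 0 (.one .nil) .nil)) (.ap 1 (.ap 2 (.one (.ap 2 (.ap 0 (.one
    (.ap 0 (.one .nil) .nil)) .nil) .nil)) .nil) .nil))) (.ap 1 (.ap 2 (.one .nil) .nil) (.ap 2 (.one (.ap 1 (.ap 1
    (.ap 2 (.one (.ap 0 (.ap 2 (.one .nil) .nil) .nil)) .nil) (.ap 2 (.one (.ap 0 (.one (.ap 0 (.one .nil) (.ap 2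
    (.ap 0 (.one .nil) .nil) .nil))) .nil)) .nil)) .nil)) .nil)))) .nil) .nil)))) .nil)) (.ap 1 (.ap 1 (.ap 2 (.one
    (.ap 2 (.one (.ap 1 (.ap 2 (.one .nil) .nil) .nil)) .nil)) .nil) (.ap 2 (.one (.ap 0 (.ap 0 (.one (.ap 0 (.one
    .nil) .nil)) .nil) (.ap 2 (.one (.ap 0 (.ap 0 (.one (.ap 0 (.one (.ap 0 (.one (.ap 0 (.one .nil) .nil)) .nil))
    .nil)) (.ap 2 (.ap 0 (.one .nil) .nil) .nil)) (.ap 2 (.one (.ap 0 (.one (.ap 2 (.ap 0 (.one (.ap 0 (.ap 0 (.one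
    .nil) .nil) .nil)) .nil) .nil)) (.ap 2 (.one .nil) .nil))) .nil))) .nil))) .nil)) .nil))) .nil) .nil))

/-- a sum of words -/
def sA7 : Tr :=
  (.one (.ap 2 (.one (.ap 2 (.one (.ap 2 (.one (.ap 2 (.one .nil) .nil)) .nil)) .nil)) .nil))

/-- a sum of words -/
def sB7 : Tr :=
  (.one (.ap 0 (.one (.ap 0 (.one (.ap 0 (.one (.ap 0 (.one (.ap 0 (.one (.ap 0 (.one .nil) .nil)) .nil)) .nil))
    .nil)) .nil)) .nil))

theorem cA7 : A7.chk 7 g7 = true := by decide +kernel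

theorem cB7 : B7.chk 7 g7 = true := by decide +kernel

theorem cCA7 : okC 7 g7 A7.tab [g7.getD 1 []] [[1]] mA7 = true := by decide +kernel

theorem cCB7 : okC 7 g7 B7.tab [g7.getD 1 []] [[1]] mB7 = true := by decide +kernel

theorem cD7 : okC 7 g7 B7.tab [g7.getD 0 [], g7.getD 1 []] [[0], [1]] mE7 = true := by decide +kernel

theorem h17 : sA7.ev A7.tab (tA7.ev A7.tab mA7) = 1 := by decide +kernel

theorem h27 : sA7.ev B7.tab (tA7.ev B7.tab mB7) = 0 := by decide +kernel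

theorem h37 : sB7.ev A7.tab (tB7.ev A7.tab mA7) = 0 := by decide +kernel

theorem h47 : Nat.xor (sB7.ev B7.tab (tB7.ev B7.tab mB7)) mE7 = 1 := by decide +kernel

end Cfsg.Agent.E8A.Two.Mk
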