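import Cfsg.Agent.E8A.Two.Wcj

/-!
# The canonical toral vector of an element of order 3 of `E₈` in characteristic 2 (helper44)

* `Hx x h` : `h ≠ 0` lies in the centre of the fixed space of `x` and `ad h` is idempotent; `Hx.conj`, `Hx.inv`;
* `hx_uniq`, `hx_unique` : uniqueness; `hx_dz`, `exists_hx` : existence for the classes 92, 134;
* `d7_pair` : `x` of type 92, `x y`, `x y⁻¹` of type 134: `x` and `y` have the same vector.
-/

set_option autoImplicit false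
set_option maxRecDepth 100000

namespace Cfsg.Agent.E8A.Two

open CoxeterSystem Cfsg Cfsg.Lie Module
open Cfsg.Agent.ChevalleyStructure Cfsg.Agent.ChevalleyStructure.CoxeterGeom
  Cfsg.Agent.ChevalleyStructure.CoxeterGeomTypes Cfsg.Agent.ChevalleyStructure.RootVec
  Cfsg.Agent.ChevalleyStructure.RootVecTab
open Cfsg.Agent.Tits.Roots Cfsg.Agent.Nodes.Reps Cfsg.Agent.Nodes.BNOf Cfsg.Agent.Nodes.RGDChev
open Cfsg.Agent.H952.F4 (ev)
open Cfsg.Agent.H942.E8Tab (e8T)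
open Cfsg.Agent.H942.CB (W8 cs8)
open Cfsg.Agent.H288.E8L (Q8 wt Rt act8 wt_inl wt_inr rt_vec vec_ne_zero exists_idx wt_inj)
open Cfsg.Agent.H944.Kac (srefl)
open Cfsg.Agent.E8A.Reg5.Cls (ex dz Cj tb exists_tb ev_eq_dfx ex_zero tb_all tb_mv dfx_of_cj)
open Cfsg.Agent.E8A.Inf (toQ pk pw dg cn exN dg_pk cj_ev_pow)

universe u

section

variable {K : Type u} [Field K]

/-- the canonical toral vector -/
structure Hx (x : G8 K) (h : L8 K) : Prop where
  ne : h ≠ 0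
  fix : act x h = h
  cen : ∀ v, act x v = v → br h v = 0
  idem : adm h * adm h = adm h

variable {x t : G8 K} {h h' : L8 K} {ζ : K}

theorem Hx.conj (H : Hx x h) (g : G8 K) : Hx (g * x * g⁻¹) (act g h) where
  ne h0 := H.ne (act_eq_zero h0)
  fix := by rw [← act_mul, inv_mul_cancel_right, act_mul, H.fix]
  cen v hv := by
    have h1 : act x (act g⁻¹ v) = act g⁻¹ v := by
      conv_rhs => rw [← hv]
      rw [← act_mul, ← act_mul]
      congr 1
      group
    rw [← act_inv' g v, ← act_br, H.cen _ h1, act_zero]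
  idem := by
    rw [adm_act]
    calc mx g * adm h * mx g⁻¹ * (mx g * adm h * mx g⁻¹) = mx g * (adm h * (mx g⁻¹ * mx g) * adm h) * mx g⁻¹ := by
          simp only [Matrix.mul_assoc]
      _ = _ := by rw [mx_inv_mul, Matrix.mul_one, H.idem]

theorem act_inv_fix {v : L8 K} (hv : act x v = v) : act x⁻¹ v = v := (stab v).inv_mem hv

theorem Hx.inv (H : Hx x h) : Hx x⁻¹ h where
  ne := H.ne
  fix := act_inv_fix H.fix
  cen v hv := H.cen v (by have h1 := act_inv_fix hv; rwa [inv_inv] at h1)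
  idem := H.idem

theorem act_dz {a : Q8} (ht : mx t = dz ζ a) (v : L8 K) (i : chevE8.Idx) : act t v i = ζ ^ ex a (wt i) * v i := by
  rw [act, ht, dz, Matrix.mulVec_diagonal]

theorem act_dz_T {a : Q8} (ht : mx t = dz ζ a) {v : L8 K} (hv : InT v) : act t v = v := by
  funext i
  rw [act_dz ht]
  rcases i with i | r
  · rw [wt_inl, ex_zero, zpow_zero, one_mul]
  · rw [hv r, mul_zero]

theorem mx_of_semi {c : G8 K} {D : Matrix chevE8.Idx chevE8.Idx K} (hc : mx x * mx c = mx c * D) :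
    mx (c⁻¹ * x * c) = D := by
  rw [mx_mul, mx_mul, Matrix.mul_assoc, hc, ← Matrix.mul_assoc, mx_inv_mul, Matrix.one_mul]

theorem ex_add' (y a b : Q8) : ex y (a + b) = ex y a + ex y b := by
  simp only [ex, Pi.add_apply, add_mul, Finset.sum_add_distrib]

theorem exists_hm (μ : Q8) : ∃ h : L8 K, InT h ∧ ∀ a, rl h a = ((ex μ a : ℤ) : K) := by
  obtain ⟨h, h1, h2⟩ := exists_rl (K := K) (AddMonoidHom.mk' (fun a => ((ex μ a : ℤ) : K)) fun a b => by
    rw [ex_add', Int.cast_add])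
  exact ⟨h, h1, fun a => by rw [h2]; rfl⟩

theorem ex_single (i : Fin 8) (a : Q8) : ex (Pi.single i 1) a = a i := by
  rw [ex, Finset.sum_eq_single i]
  · rw [Pi.single_eq_same, mul_one]
  · intro k _ hk
    rw [Pi.single_eq_of_ne hk, mul_zero]
  · intro h
    exact absurd (Finset.mem_univ _) h

theorem inT_of_cen (H : ∀ v, InT v → br h v = 0) : InT h := by
  intro s
  obtain ⟨j, hj⟩ := exists_cartan_ne (K := K) s
  have h1 := congrFun (H (ee K (Sum.inl j)) fun r => ee_ne (by simp)) (Sum.inr s)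
  rw [br, mulVec_ee, adm_inr_inl, Pi.zero_apply, neg_eq_zero] at h1
  exact (mul_eq_zero.1 h1).resolve_left hj

theorem Hx.spec {i : Fin 8} (ht : mx t = dz ζ (Pi.single i 1)) (H : Hx t h) :
    InT h ∧ ∀ j, rl h (sr j) = if j = i then 1 else 0 := by
  have h1 : InT h := inT_of_cen fun v hv => H.cen v (act_dz_T ht hv)
  have h2 : ∀ j, j ≠ i → rl h (sr j) = 0 := by
    intro j hj
    obtain ⟨r, hr⟩ := exists_idx (isRoot_sr cs8 e8T.isCartan j)
    have h3 : act t (ee K (Sum.inr r)) = ee K (Sum.inr r) := by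
      funext k
      rw [act_dz ht]
      by_cases hk : k = Sum.inr r
      · rw [hk, wt_inr, hr, ex_single, sr_ne hj.symm, zpow_zero, one_mul]
      · rw [ee_ne hk, mul_zero]
    have h4 := congrFun (H.cen _ h3) (Sum.inr r)
    rwa [br_T h1, ee_self, mul_one, wt_inr, hr] at h4
  refine ⟨h1, fun j => ?_⟩
  split_ifs with hj
  · subst hj
    obtain ⟨r, hr⟩ := exists_idx (isRoot_sr cs8 e8T.isCartan j)
    have h3 := congrFun (congrFun H.idem (Sum.inr r)) (Sum.inr r)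
    rw [adm_T h1, Matrix.diagonal_mul_diagonal, Matrix.diagonal_apply_eq, Matrix.diagonal_apply_eq, wt_inr, hr] at h3
    refine (mul_eq_left₀ fun h0 => H.ne ?_).1 h3
    refine inT_ext h1 (fun _ => rfl) fun k => ?_
    have h4 : rl (0 : L8 K) (sr k) = 0 := by rw [← zero_smul K (0 : L8 K), rl_smul, zero_mul]
    rw [h4]
    by_cases hk : k = j
    · rw [hk, h0]
    · exact h2 k hk
  · exact h2 j hj

theorem hx_uniq {i : Fin 8} (hc : Cj x ζ (Pi.single i 1)) (H : Hx x h) (H' : Hx x h') : h = h' := by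
  obtain ⟨c, hc⟩ := hc
  have ht := mx_of_semi hc
  have h1 := H.conj c⁻¹
  have h2 := H'.conj c⁻¹
  rw [inv_inv] at h1 h2
  obtain ⟨h3, h4⟩ := h1.spec ht
  obtain ⟨h5, h6⟩ := h2.spec ht
  exact act_injective c⁻¹ (inT_ext h3 h5 fun j => (h4 j).trans (h6 j).symm)

theorem hx_dz [CharP K 2] (hζ : IsPrimitiveRoot ζ 3) {b μ : Q8} (ht : mx t = dz ζ b) (hh : InT h)
    (hμ : ∀ a, rl h a = ((ex μ a : ℤ) : K)) (h1 : ∀ j, 3 ∣ ex b (wt j) → 2 ∣ ex μ (wt j)) (h2 : ∃ a, ¬ 2 ∣ ex μ a) :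
    Hx t h where
  ne h0 := by
    obtain ⟨a, ha⟩ := h2
    have h3 := hμ a
    rw [h0, ← zero_smul K (0 : L8 K), rl_smul, zero_mul, eq_comm, CharP.intCast_eq_zero_iff K 2] at h3
    exact ha h3
  fix := act_dz_T ht hh
  cen v hv := by
    funext j
    rw [br_T hh, Pi.zero_apply]
    by_cases h0 : v j = 0
    · rw [h0, mul_zero]
    · have h3 := congrFun hv j
      rw [act_dz ht, mul_eq_right₀ h0, hζ.zpow_eq_one_iff_dvd] at h3
      rw [hμ, (CharP.intCast_eq_zero_iff K 2 _).2 (h1 j h3), zero_mul]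
  idem := by
    rw [adm_T hh, Matrix.diagonal_mul_diagonal]
    congr 1
    funext j
    rw [hμ, ← Int.cast_mul, ← sub_eq_zero, ← Int.cast_sub, CharP.intCast_eq_zero_iff K 2]
    rw [← mul_sub_one]
    exact (Int.even_mul_pred_self _).two_dvd

theorem wt_small : ∀ j : chevE8.Idx, (3 ∣ wt j 0 → 2 ∣ wt j 0) ∧ (3 ∣ wt j 7 → 2 ∣ wt j 7) := by decide +kernel

theorem single_odd (i : Fin 8) : ∃ a, ¬ 2 ∣ ex (Pi.single i 1) a := ⟨Pi.single i 1, by
  rw [ex_single, Pi.single_eq_same]; norm_num⟩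

theorem exists_hx_cj [CharP K 2] (hζ : IsPrimitiveRoot ζ 3) {i : Fin 8} (hi : i = 0 ∨ i = 7)
    (hc : Cj x ζ (Pi.single i 1)) : ∃ h, Hx x h := by
  obtain ⟨c, hc⟩ := hc
  obtain ⟨h, h1, h2⟩ := exists_hm (K := K) (Pi.single i 1)
  have h3 := (hx_dz hζ (mx_of_semi hc) h1 h2 (fun j => by
    rw [ex_single]
    rcases hi with rfl | rfl
    exacts [(wt_small j).1, (wt_small j).2]) (single_odd i)).conj c
  rw [show c * (c⁻¹ * x * c) * c⁻¹ = x by group] at h3
  exact ⟨_, h3⟩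

end

theorem tb_single : ∀ x ∈ tb 3, (x.2 = 92 → (fun i : Fin 8 => ((x.1.getD i 0 : ℕ) : ℤ)) = Pi.single 0 1) ∧
    (x.2 = 134 → (fun i : Fin 8 => ((x.1.getD i 0 : ℕ) : ℤ)) = Pi.single 7 1) := by decide +kernel

theorem ex_sr' (k j : Fin 8) : pairing (cartanOf chevE8 8) k (sr j) = cartanOf chevE8 8 k j := by
  rw [pairing, Finset.sum_eq_single j]
  · rw [sr_self, mul_one]
  · intro i _ hi
    rw [sr_ne hi, mul_zero]
  · intro h
    exact absurd (Finset.mem_univ _) h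

/-- `m ω₁ + k y` -/
def sh (m k : ℕ) : List ℕ → List ℕ
  | [] => []
  | a :: l => (m + k * a) :: l.map (k * ·)

/-- the test -/
def okD (y : List ℕ) : Bool :=
  bif Nat.beq (pw 3 (pk 3 (sh 1 2 y)) 1 0) 134 then Nat.beq (dg (pk 6 (sh 3 4 y)) 3) 0 else true

/-- a root minus `ω₁`, modulo 3 -/
def rm (r : ℕ) (i : Fin 8) : ℕ := ((chevE8.cartan i r - (Pi.single 0 1 : Q8) i : ℤ) : ZMod 3).val

theorem chkD : ∀ r : Fin chevE8.nroots, okD [rm r 0, rm r 1, rm r 2, rm r 3, rm r 4, rm r 5, rm r 6, rm r 7] = true := by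
  decide +kernel

/-- the coweights of the roots -/
def IsRt (a : Q8) : Prop := ∃ r : Fin chevE8.nroots, ∀ k : Fin 8, a k = chevE8.cartan k r

theorem cartan_symm : ∀ i j : Fin 8, cartanOf chevE8 8 i j = cartanOf chevE8 8 j i := by decide +kernel

theorem IsRt.refl {a : Q8} (h : IsRt a) (j : Fin 8) : IsRt (srefl chevE8 8 j a) := by
  obtain ⟨r, hr⟩ := h
  obtain ⟨s, hs⟩ := exists_idx ((rt_vec r).act (cs8.simple j))
  refine ⟨s, fun k => ?_⟩
  have h1 : pairing (cartanOf chevE8 8) k (sr j) = cartanOf chevE8 8 k j := ex_sr' k j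
  rw [← pairing_vec e8T k s.2, hs, rep_simple_eq, sub_eq_add_neg, ← neg_smul, pairing_add, pairing_smul, h1,
    pairing_vec e8T k r.2, pairing_vec e8T j r.2, srefl, hr, hr, Int.cast_id, cartan_symm j k]
  ring

theorem isRt_seven : IsRt (Pi.single 7 1) := ⟨⟨239, by decide⟩, by decide +kernel⟩

theorem toQ_sh (m k : ℕ) (y : Fin 8 → ℕ) : toQ (sh m k [y 0, y 1, y 2, y 3, y 4, y 5, y 6, y 7]) =
    (m : ℤ) • Pi.single 0 1 + (k : ℤ) • fun i => (y i : ℤ) := by
  funext i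
  fin_cases i <;> simp [toQ, sh]

section

variable {F : Type u} [Field F] [Finite F]

theorem cj_92 (h3 : (3 : F) ≠ 0) {ζ : Kb F} (hζ : IsPrimitiveRoot ζ 3) {x : G8 (Kb F)} (hx : x ^ 3 = 1)
    (hd : ev (LK (Kb F) x) 1 = 92) : Cj x ζ (Pi.single 0 1) := by
  obtain ⟨p, _, _, hp⟩ := Inf.exists_char' (F := F) (N := 3) (by exact_mod_cast h3)
  obtain ⟨e, he, h1, h2⟩ := exists_tb p (by decide) hp hζ hx
  rwa [(tb_single e he).1 (by rw [← h2, ← ev_eq_dfx, hd])] at h1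

theorem cj_134 (h3 : (3 : F) ≠ 0) {ζ : Kb F} (hζ : IsPrimitiveRoot ζ 3) {x : G8 (Kb F)} (hx : x ^ 3 = 1)
    (hd : ev (LK (Kb F) x) 1 = 134) : Cj x ζ (Pi.single 7 1) := by
  obtain ⟨p, _, _, hp⟩ := Inf.exists_char' (F := F) (N := 3) (by exact_mod_cast h3)
  obtain ⟨e, he, h1, h2⟩ := exists_tb p (by decide) hp hζ hx
  rwa [(tb_single e he).2 (by rw [← h2, ← ev_eq_dfx, hd])] at h1

variable [CharP F 2]

omit [Finite F] in
theorem three_ne : (3 : F) ≠ 0 := fun h => by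
  have h1 : ((3 : ℕ) : F) = 0 := by exact_mod_cast h
  rw [CharP.cast_eq_zero_iff F 2] at h1
  omega

omit [Finite F] in
theorem charKb : CharP (Kb F) 2 := charP_of_injective_algebraMap (algebraMap F (Kb F)).injective 2

theorem exists_hx {x : G8 (Kb F)} (hx : x ^ 3 = 1) (hd : ev (LK (Kb F) x) 1 = 92 ∨ ev (LK (Kb F) x) 1 = 134) :
    ∃ h, Hx x h := by
  have := charKb (F := F)
  obtain ⟨ζ, hζ⟩ := Inf.exists_root (F := F) (N := 3) (by exact_mod_cast three_ne)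
  rcases hd with hd | hd
  · exact exists_hx_cj hζ (Or.inl rfl) (cj_92 three_ne hζ hx hd)
  · exact exists_hx_cj hζ (Or.inr rfl) (cj_134 three_ne hζ hx hd)

theorem hx_unique {x : G8 (Kb F)} (hx : x ^ 3 = 1) (hd : ev (LK (Kb F) x) 1 = 92 ∨ ev (LK (Kb F) x) 1 = 134)
    {h h' : L8 (Kb F)} (H : Hx x h) (H' : Hx x h') : h = h' := by
  obtain ⟨ζ, hζ⟩ := Inf.exists_root (F := F) (N := 3) (by exact_mod_cast three_ne)
  rcases hd with hd | hd
  · exact hx_uniq (cj_92 three_ne hζ hx hd) H H'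
  · exact hx_uniq (cj_134 three_ne hζ hx hd) H H'

/-- **D7T, the pair** -/
theorem d7_pair {x y : G8 (Kb F)} (hx : x ^ 3 = 1) (hy : y ^ 3 = 1) (hc : Commute x y)
    (hd : ev (LK (Kb F) x) 1 = 92) (h1 : ev (LK (Kb F) (x * y)) 1 = 134) (h2 : ev (LK (Kb F) (x * y⁻¹)) 1 = 134) :
    ∃ h, Hx x h ∧ Hx y h := by
  have := charKb (F := F)
  obtain ⟨ζ, hζ⟩ := Inf.exists_root (F := F) (N := 3) (by exact_mod_cast three_ne)
  have h0 := hζ.ne_zero (by norm_num)
  obtain ⟨s, b, hs, h⟩ := pair_kac Nat.prime_three (by exact_mod_cast three_ne) hζ hx hy hc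
  have hs1 : (fun i => (s i : ℤ)) = Pi.single 0 1 := by
    obtain ⟨e, he, e1⟩ := tb_all 3 (by decide) ⟨s 0, by omega⟩ ⟨s 1, by omega⟩ ⟨s 2, by omega⟩ ⟨s 3, by omega⟩
      ⟨s 4, by omega⟩ ⟨s 5, by omega⟩ ⟨s 6, by omega⟩ ⟨s 7, by omega⟩ hs
    have e2 : (fun i : Fin 8 => ((e.1.getD i 0 : ℕ) : ℤ)) = fun i => (s i : ℤ) := by
      rw [e1]
      funext i
      fin_cases i <;> rfl
    have e3 := tb_mv 3 (by decide) e he
    have e4 := dfx_of_cj hζ h.left
    rw [← ev_eq_dfx, hd] at e4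
    rw [e2] at e3
    rw [← e2]
    exact (tb_single e he).1 (by omega)
  rw [hs1] at h
  obtain ⟨_, ⟨r, hr⟩, hb⟩ := cj_ind hζ (by norm_num) (h.mul h0)
    (cj_134 three_ne hζ (by rw [hc.mul_pow, hx, hy, mul_one]) h1) (P := IsRt) (fun _ i hy => hy.refl i) isRt_seven
  have h4 := chkD r
  generalize hv : rm r = v at h4
  have h3 : Cj2 x y ζ (Pi.single 0 1) fun i => (v i : ℤ) :=
    h.congr hζ (by norm_num) (fun _ => rfl) fun i => by
      rw [Int.cast_natCast, ← hv, rm, ZMod.natCast_zmod_val, ← hr, Int.cast_sub, hb, Pi.add_apply, Int.cast_add,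
        add_sub_cancel_left]
  have h6 : Cj (x * y⁻¹) ζ (toQ (sh 1 2 [v 0, v 1, v 2, v 3, v 4, v 5, v 6, v 7])) := by
    rw [toQ_sh, Nat.cast_one, one_smul]
    refine ((h3.inv h0).congr hζ (by norm_num) (fun _ => rfl) fun i => ?_).mul h0
    have h7 : ∀ q : ZMod 3, -q = 2 * q := by decide
    simp only [Pi.neg_apply, Pi.smul_apply, smul_eq_mul]
    push_cast
    exact h7 _
  have h8 := cj_ev_pow hζ (by norm_num) h6 1 (k := 0) (by norm_num)
  rw [pow_one, pow_zero] at h8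
  rw [okD, ← h8, h2, Nat.beq_refl, cond_true, Nat.beq_eq, dg_pk _ (by norm_num), cn,
    Finset.card_eq_zero, Finset.filter_eq_empty_iff] at h4
  obtain ⟨c, c1, c2⟩ := h3
  obtain ⟨h, k1, k2⟩ := exists_hm (K := Kb F) (Pi.single 0 1)
  have k3 := (hx_dz hζ (mx_of_semi c1) k1 k2 (fun j => by rw [ex_single]; exact (wt_small j).1) (single_odd 0)).conj c
  have k4 := (hx_dz hζ (mx_of_semi c2) k1 k2 (fun j hj => by
    by_contra hcon
    refine h4 (Finset.mem_univ j) ?_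
    have h9 : ((exN 6 (sh 3 4 [v 0, v 1, v 2, v 3, v 4, v 5, v 6, v 7]) j).val : ℤ) = 3 := by
      rw [exN, toQ_sh, ex_add, ex_smul, ex_smul, ZMod.val_intCast]
      omega
    omega) (single_odd 0)).conj c
  rw [show c * (c⁻¹ * x * c) * c⁻¹ = x by group] at k3
  rw [show c * (c⁻¹ * y * c) * c⁻¹ = y by group] at k4
  exact ⟨_, k3, k4⟩

end

end Cfsg.Agent.E8A.Two
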