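import Cfsg.Agent.E8A.Two.C11c
import Cfsg.Agent.E8A.Two.C6
import Cfsg.Agent.E8A.Two.I7

/-!
# The inequalities for `A₁₁`-modules in characteristic 2 (helper44)
-/

set_option autoImplicit false
set_option maxRecDepth 100000

namespace Cfsg.Agent.E8A.Two.Mk

open Module Equiv Equiv.Perm
open Cfsg.Agent.R2.T1.Odd Cfsg.Agent.R2.T1.Msk Cfsg.Agent.R2.T1.Art
open Cfsg.Agent.H952.F4 (ev)

/-- the elements -/
def e9 : List (List ℕ) := [[], [0], [1], [0, 0], [0, 1], [1, 1], [0, 0, 1], [0, 1, 1], [0, 0, 1, 1]]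

/-- the classes -/
def d9 : List (ℕ × SW) :=
  [(0, []),
   (1, [(0, 8), (8, 5), (2, 6), (3, 10)]),
   (1, [(3, 4), (4, 8), (8, 10), (10, 9)]),
   (1, [(0, 5), (5, 10), (10, 3), (1, 7)]),
   (1, [(0, 4), (4, 5), (2, 7), (7, 8), (3, 6), (6, 10)]),
   (1, [(0, 2), (3, 8), (8, 7), (7, 10)]),
   (1, [(1, 8), (8, 4), (2, 7), (3, 10)]),
   (1, [(0, 6), (1, 4), (4, 5), (3, 10)]),
   (1, [(0, 10), (10, 3), (3, 5), (1, 2), (2, 8), (4, 6)])]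

theorem cG9 : chkG 11 A11.gT e9 = true := by decide +kernel

theorem cK9 : chkC 11 A11.gT e9 [] [[], x333] d9 = true := by decide +kernel

theorem cn9 : (List.range 2).map (fun k => (d9.map Prod.fst).count k) = [1, 8] := by decide +kernel

/-- the elements -/
def e55 : List (List ℕ) := [[], [0], [1], [0, 0], [0, 1], [1, 0], [1, 1], [0, 0, 0], [0, 0, 1], [0, 1, 0], [0, 1, 1], [1, 0, 0], [1, 0, 1], [1, 1, 0], [1, 1, 1], [0, 0, 0, 0], [0, 0, 1, 0], [0, 0, 1, 1], [0, 1, 0, 0], [0, 1, 0, 1], [0, 1, 1, 0], [0, 1, 1, 1], [1, 0, 0, 0], [1, 0, 0, 1], [1, 0, 1, 1], [1, 1, 0, 0], [1, 1, 0, 1], [1, 1, 1, 0], [1, 1, 1, 1], [0, 0, 0, 0, 0], [0, 0, 1, 0, 0], [0, 0, 1, 0, 1], [0, 0, 1, 1, 1], [0, 1, 0, 0, 0], [0, 1, 0, 1, 1], [0, 1, 1, 0, 0], [0, 1, 1, 0, 1], [0, 1, 1, 1, 0], [0, 1, 1, 1, 1], [1, 0, 1, 1, 0], [1, 0, 1, 1, 1], [1, 1, 0, 0, 1], [1, 1, 0, 1, 1], [1,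 1, 1, 0, 1], [1, 1, 1, 1, 0], [0, 0, 0, 0, 0, 0], [0, 0, 1, 1, 1, 1], [0, 1, 1, 0, 1, 1], [0, 1, 1, 1, 0, 1], [1, 0, 1, 1, 0, 1], [1, 0, 1, 1, 1, 0], [1, 1, 0, 1, 1, 1], [0, 0, 0, 0, 0, 0, 0], [0, 1, 1, 0, 1, 1, 1], [1, 0, 1, 1, 0, 1, 1]]

/-- the classes -/
def d55 : List (ℕ × SW) :=
  [(0, []),
   (1, []),
   (3, [(0, 8), (1, 3), (3, 9), (2, 10), (10, 4), (4, 6)]),
   (2, [(1, 9), (9, 4), (4, 3), (3, 5), (2, 7), (7, 8), (8, 6), (6, 10)]),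
   (3, [(1, 2), (2, 8), (8, 6), (3, 4), (5, 10), (10, 7)]),
   (3, [(0, 10), (2, 7), (7, 5), (5, 9), (9, 6), (6, 4)]),
   (3, [(0, 6), (6, 4), (4, 10), (1, 3), (3, 8), (2, 9)]),
   (1, [(1, 3), (3, 9), (9, 5), (5, 4), (2, 6), (6, 7), (7, 10), (10, 8)]),
   (3, [(0, 9), (9, 6), (1, 8), (2, 5), (5, 4), (3, 7)]),
   (3, [(0, 6), (2, 8), (8, 9), (9, 10), (3, 7), (7, 5)]),
   (3, [(0, 2), (2, 3), (3, 10), (10, 5), (5, 9), (4, 7)]),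
   (3, [(1, 7), (7, 8), (8, 9), (2, 6), (6, 4), (4, 5)]),
   (3, [(1, 7), (7, 5), (5, 6), (2, 4), (4, 9), (3, 10)]),
   (3, [(1, 2), (2, 9), (9, 4), (3, 6), (5, 8), (8, 10)]),
   (3, [(0, 10), (10, 4), (4, 6), (1, 8), (2, 9), (9, 7)]),
   (1, [(1, 4), (4, 5), (5, 9), (9, 3), (2, 8), (8, 10), (10, 7), (7, 6)]),
   (3, [(1, 6), (6, 3), (4, 9), (9, 5), (5, 8), (8, 7)]),
   (3, [(1, 6), (2, 5), (3, 7), (7, 4), (8, 9), (9, 10)]),
   (3, [(0, 5), (5, 7), (7, 2), (3, 8), (4, 10), (6, 9)]),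
   (3, [(1, 8), (8, 5), (5, 10), (2, 3)]),
   (3, [(0, 6), (1, 2), (2, 10), (10, 7), (7, 3), (3, 5)]),
   (3, [(0, 5), (5, 2), (1, 6), (6, 4), (4, 7), (9, 10)]),
   (3, [(1, 10), (10, 8), (8, 5), (5, 6), (2, 7), (3, 9)]),
   (3, [(1, 10), (10, 2), (3, 8), (4, 5), (5, 7), (7, 9)]),
   (3, [(0, 8), (8, 3), (2, 10), (10, 6), (4, 5), (5, 7)]),
   (3, [(0, 5), (2, 9), (9, 6), (3, 4)]),
   (3, [(0, 9), (9, 2), (2, 5), (7, 8)]),
   (3, [(0, 4), (4, 6), (1, 5), (2, 10), (10, 3), (8, 9)]),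
   (3, [(0, 6), (1, 9), (9, 4), (4, 8), (8, 2), (2, 10)]),
   (1, [(1, 5), (5, 3), (3, 4), (4, 9), (2, 10), (10, 6), (6, 8), (8, 7)]),
   (3, [(0, 6), (1, 5), (3, 4), (4, 10), (10, 8), (7, 9)]),
   (3, [(0, 4), (4, 8), (2, 7), (7, 10), (3, 6), (6, 5)]),
   (3, [(1, 4), (4, 8), (5, 10), (6, 7)]),
   (3, [(0, 1), (1, 3), (3, 5), (2, 9), (6, 7), (7, 10)]),
   (3, [(0, 7), (1, 8), (8, 6), (3, 5), (5, 4), (4, 9)]),
   (3, [(0, 2), (2, 7), (1, 8), (3, 9), (9, 10), (4, 5)]),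
   (3, [(2, 6), (6, 4), (3, 9), (5, 8), (8, 7), (7, 10)]),
   (3, [(0, 3), (3, 7), (7, 4), (4, 10), (5, 9), (6, 8)]),
   (3, [(0, 4), (4, 10), (1, 2), (2, 5), (3, 6), (6, 8)]),
   (3, [(0, 8), (8, 9), (1, 6), (6, 5), (5, 3), (2, 7)]),
   (3, [(0, 9), (1, 2), (2, 7), (3, 5), (5, 4), (4, 8)]),
   (3, [(0, 7), (7, 1), (2, 9), (3, 10), (10, 8), (5, 6)]),
   (3, [(1, 5), (5, 2), (2, 3), (3, 6), (4, 7), (7, 9)]),
   (3, [(2, 5), (5, 7), (7, 9), (9, 6), (3, 10), (4, 8)]),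
   (3, [(0, 5), (1, 9), (9, 8), (8, 2), (2, 3), (6, 7)]),
   (2, [(1, 5), (5, 3), (3, 4), (4, 9), (2, 10), (10, 6), (6, 8), (8, 7)]),
   (3, [(1, 9), (9, 3), (3, 2), (4, 6), (6, 5), (5, 8)]),
   (3, [(0, 2), (2, 7), (7, 6), (1, 3), (4, 10), (5, 9)]),
   (3, [(0, 8), (2, 6), (6, 9), (3, 4), (4, 7), (7, 5)]),
   (3, [(1, 4), (4, 10), (2, 9), (3, 7), (5, 6), (6, 8)]),
   (3, [(1, 3), (3, 8), (8, 9), (9, 6), (2, 4), (5, 10)]),
   (1, [(1, 9), (9, 4), (4, 3), (3, 5), (2, 7), (7, 8), (8, 6), (6, 10)]),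
   (2, [(1, 4), (4, 5), (5, 9), (9, 3), (2, 8), (8, 10), (10, 7), (7, 6)]),
   (2, []),
   (2, [(1, 3), (3, 9), (9, 5), (5, 4), (2, 6), (6, 7), (7, 10), (10, 8)])]

theorem cG55 : chkG 11 [g11.getD 0 [], t11] e55 = true := by decide +kernel

theorem cK55 : chkC 11 [g11.getD 0 [], t11] e55 [] [[], w11, w11i, c55] d55 = true := by decide +kernel

theorem cn55 : (List.range 4).map (fun k => (d55.map Prod.fst).count k) = [1, 5, 5, 44] := by decide +kernel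

/-- the elements -/
def e25 : List (List ℕ) := [[], [0], [1], [0, 0], [0, 1], [1, 1], [0, 0, 0], [0, 0, 1], [0, 1, 1], [1, 1, 1], [0, 0, 0, 0], [0, 0, 0, 1], [0, 0, 1, 1], [0, 1, 1, 1], [1, 1, 1, 1], [0, 0, 0, 0, 1], [0, 0, 0, 1, 1], [0, 0, 1, 1, 1], [0, 1, 1, 1, 1], [0, 0, 0, 0, 1, 1], [0, 0, 0, 1, 1, 1], [0, 0, 1, 1, 1, 1], [0, 0, 0, 0, 1, 1, 1], [0, 0, 0, 1, 1, 1, 1], [0, 0, 0, 0, 1, 1, 1, 1]]

/-- the classes -/
def d25 : List (ℕ × SW) :=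
  [(0, []),
   (1, []),
   (1, [(0, 6), (6, 1), (1, 7), (2, 8), (3, 9), (4, 10)]),
   (1, [(0, 3), (3, 4), (4, 1), (8, 9)]),
   (2, []),
   (1, [(0, 8), (1, 10), (10, 5), (2, 7), (3, 9), (4, 6)]),
   (1, [(0, 2), (2, 3), (3, 1), (8, 9)]),
   (2, [(0, 10), (1, 6), (6, 2), (2, 7), (7, 4), (4, 9), (9, 3), (3, 8)]),
   (2, [(0, 9), (9, 4), (4, 7), (7, 2), (2, 8), (8, 3), (3, 10), (1, 6)]),
   (1, [(0, 10), (1, 8), (2, 6), (3, 9), (4, 7), (7, 5)]),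
   (1, [(1, 4), (2, 3)]),
   (2, [(0, 10), (1, 6), (6, 3), (3, 8), (8, 4), (4, 9), (9, 2), (2, 7)]),
   (2, [(1, 2), (2, 4), (4, 3), (7, 8), (8, 10), (10, 9)]),
   (2, [(0, 8), (8, 3), (3, 7), (7, 2), (2, 9), (9, 4), (4, 10), (1, 6)]),
   (1, [(0, 7), (1, 6), (6, 5), (2, 10), (3, 9), (4, 8)]),
   (2, [(1, 4), (2, 3)]),
   (2, [(1, 3), (3, 4), (4, 2), (7, 8), (8, 10), (10, 9)]),
   (2, [(1, 2), (2, 4), (4, 3), (7, 9), (9, 10), (10, 8)]),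
   (2, [(7, 10), (8, 9)]),
   (2, [(0, 9), (9, 1), (1, 6), (6, 4), (4, 7), (7, 3), (3, 10), (2, 8)]),
   (2, [(1, 3), (3, 4), (4, 2), (7, 9), (9, 10), (10, 8)]),
   (2, [(0, 7), (7, 4), (4, 8), (8, 1), (1, 6), (6, 2), (2, 10), (3, 9)]),
   (2, [(0, 8), (8, 2), (2, 9), (9, 1), (1, 6), (6, 4), (4, 10), (3, 7)]),
   (2, [(0, 7), (7, 1), (1, 6), (6, 3), (3, 9), (9, 2), (2, 10), (4, 8)]),
   (2, [(1, 4), (2, 3), (7, 10), (8, 9)])]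

theorem cG25 : chkG 11 [c5, z5] e25 = true := by decide +kernel

theorem cK25 : chkC 11 [c5, z5] e25 [] [[], c5, c55] d25 = true := by decide +kernel

theorem cn25 : (List.range 3).map (fun k => (d25.map Prod.fst).count k) = [1, 8, 16] := by decide +kernel

/-- the elements -/
def e45 : List (List ℕ) := [[], [0], [1], [2], [0, 0], [0, 1], [0, 2], [1, 1], [1, 2], [2, 2], [0, 0, 1], [0, 0, 2], [0, 1, 1], [0, 1, 2], [0, 2, 2], [1, 1, 2], [1, 2, 2], [2, 2, 2], [0, 0, 1, 1], [0, 0, 1, 2], [0, 0, 2, 2], [0, 1, 1, 2], [0, 1, 2, 2], [0, 2, 2, 2], [1, 1, 2, 2], [1, 2, 2, 2], [2, 2, 2, 2], [0, 0, 1, 1, 2], [0, 0, 1, 2, 2], [0, 0, 2, 2, 2], [0, 1, 1, 2, 2], [0, 1, 2, 2, 2], [0, 2, 2, 2, 2], [1, 1, 2, 2, 2], [1, 2, 2, 2, 2], [0, 0, 1, 1, 2, 2], [0, 0, 1, 2, 2, 2], [0, 0, 2, 2, 2, 2], [0, 1, 1, 2, 2, 2], [0, 1, 2, 2, 2, 2], [1, 1, 2, 2, 2, 2], [0, 0, 1, 1, 2,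 2, 2], [0, 0, 1, 2, 2, 2, 2], [0, 1, 1, 2, 2, 2, 2], [0, 0, 1, 1, 2, 2, 2, 2]]

/-- the classes -/
def d45 : List (ℕ × SW) :=
  [(0, []),
   (1, []),
   (1, [(0, 3), (3, 10), (1, 4), (2, 5)]),
   (3, [(0, 6), (6, 1), (1, 7), (2, 8), (3, 9), (4, 10)]),
   (1, [(1, 2), (3, 10)]),
   (2, []),
   (4, [(3, 8), (8, 5), (5, 10), (4, 9)]),
   (1, [(0, 3), (1, 5), (5, 2), (2, 4)]),
   (4, [(0, 4), (4, 9), (1, 5), (5, 10), (2, 3), (3, 8)]),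
   (3, [(0, 8), (1, 10), (10, 5), (2, 7), (3, 9), (4, 6)]),
   (2, [(0, 2), (6, 7)]),
   (4, [(0, 2), (3, 8), (4, 9), (5, 10)]),
   (2, [(3, 4), (6, 7)]),
   (5, []),
   (4, [(3, 9), (4, 6), (6, 10), (5, 8)]),
   (4, [(0, 5), (5, 10), (1, 4), (4, 9), (2, 3), (3, 8)]),
   (4, [(0, 4), (4, 7), (7, 8), (1, 5), (5, 9), (9, 2), (2, 3), (3, 10)]),
   (3, [(0, 10), (1, 8), (2, 6), (3, 9), (4, 7), (7, 5)]),
   (2, [(1, 2), (4, 5)]),
   (5, [(0, 4), (4, 2), (2, 3), (1, 5)]),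
   (4, [(0, 2), (3, 10), (10, 4), (4, 7), (7, 8), (5, 9)]),
   (5, [(0, 5), (5, 2), (2, 3), (1, 4)]),
   (5, [(0, 5), (1, 3), (2, 4), (6, 7), (7, 9), (9, 8)]),
   (4, [(3, 10), (4, 8), (5, 6), (6, 9)]),
   (4, [(0, 4), (4, 8), (1, 3), (3, 6), (6, 7), (7, 9), (2, 5), (5, 10)]),
   (4, [(0, 4), (4, 10), (10, 1), (1, 5), (5, 8), (2, 3), (3, 7), (7, 9)]),
   (3, [(0, 7), (1, 6), (6, 5), (2, 10), (3, 9), (4, 8)]),
   (5, [(1, 2), (4, 5)]),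
   (5, [(1, 2), (7, 8), (8, 10), (10, 9)]),
   (4, [(0, 2), (3, 7), (7, 9), (9, 5), (5, 8), (4, 10)]),
   (5, [(4, 5), (7, 8), (8, 10), (10, 9)]),
   (5, [(0, 5), (1, 3), (2, 4), (6, 10), (10, 7), (7, 8)]),
   (4, [(3, 6), (6, 8), (4, 10), (5, 9)]),
   (4, [(0, 5), (5, 8), (1, 4), (4, 10), (10, 2), (2, 3), (3, 7), (7, 9)]),
   (4, [(0, 3), (3, 6), (6, 8), (1, 4), (4, 10), (10, 2), (2, 5), (5, 9)]),
   (5, [(0, 4), (1, 3), (2, 5), (6, 10), (10, 8), (8, 9)]),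
   (5, [(1, 2), (7, 9), (9, 10), (10, 8)]),
   (4, [(1, 2), (3, 6), (6, 8), (4, 10), (10, 5), (5, 9)]),
   (5, [(4, 5), (7, 9), (9, 10), (10, 8)]),
   (5, [(7, 10), (8, 9)]),
   (4, [(0, 5), (5, 7), (7, 10), (10, 1), (1, 4), (4, 8), (2, 3), (3, 9)]),
   (5, [(0, 4), (1, 3), (2, 5), (6, 7), (7, 10), (10, 9)]),
   (5, [(0, 4), (4, 2), (2, 3), (1, 5), (7, 10), (8, 9)]),
   (5, [(0, 5), (5, 2), (2, 3), (1, 4), (7, 10), (8, 9)]),
   (5, [(1, 2), (4, 5), (7, 10), (8, 9)])]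

theorem cG45 : chkG 11 [x3, y3, z5] e45 = true := by decide +kernel

theorem cK45 : chkC 11 [x3, y3, z5] e45 [] [[], x3, x33, c5, x15, x335] d45 = true := by decide +kernel

theorem cn45 : (List.range 6).map (fun k => (d45.map Prod.fst).count k) = [1, 4, 4, 4, 16, 16] := by decide +kernel

variable {n : ℕ} [NeZero n] {F : Type*} [Field F] [Finite F] [CharP F 2] {W : Type*} [AddCommGroup W] [Module F W]
  [FiniteDimensional F W] (ρ : Representation F ↥(alternatingGroup (Fin n)) W)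

/-- **the inequality for `M₁₁`** -/
theorem i11 (hn : 11 ≤ n) : 10 * ev (ρ (P n x333)) 1 + 6 * ev (ρ (P n w11)) 1 ≤ 15 * ev (ρ (P n c55)) 1 + finrank F W := by
  have h1 := le2 ρ hn cA11 cB11 cCA11 cCB11 cD11 (by decide) (by decide +kernel) (by decide) (by decide +kernel)
    h111 h211 h311 h411
  have h2 := dimC hn cG9 cK9 (N := 9) (K := 2) rfl rfl (odd_ne F (by norm_num)) cn9 ρ
  have h3 := dimC hn cG55 cK55 (N := 55) (K := 4) rfl rfl (odd_ne F (by norm_num)) cn55 ρ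
  simp only [Finset.sum_range_succ, Finset.sum_range_zero, List.getD_cons_zero, List.getD_cons_succ, P_nil] at h2 h3
  rw [om_one, om_prime ρ Nat.prime_three (orderOf_P (l := x333) hn (by decide +kernel))] at h2
  rw [om_one, om_prime ρ (r := 11) (by norm_num) (orderOf_P (l := w11) hn (by decide +kernel)),
    om_prime ρ (r := 11) (by norm_num) (orderOf_P (l := w11i) hn (by decide +kernel)),
    om_prime ρ Nat.prime_five (orderOf_P (l := c55) hn (by decide +kernel)),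
    ← P_inv hn (a := w11) (b := w11i) (by decide), ev_inv] at h3
  rw [show B11.gT = [w11] from rfl, fr_one, fr_one,
    evP ρ hn (a := t11) (r := c55) [(0, 8), (1, 3), (3, 9), (2, 10), (10, 4), (4, 6)] (by decide)] at h1
  generalize finrank F ↥(inv ρ (Tg n [g11.getD 0 [], t11])) = f at h1 h3
  generalize finrank F ↥(inv ρ (Tg n A11.gT)) = f' at h1 h2
  have k2 : (3 * f' + finrank F W : ℚ) = 4 * ev (ρ (P n x333)) 1 := by
    push_cast at h2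
    linarith
  have k3 : (5 * f + finrank F W : ℚ) = ev (ρ (P n w11)) 1 + 5 * ev (ρ (P n c55)) 1 := by
    push_cast at h3
    linarith
  have k4 : 3 * f' + finrank F W = 4 * ev (ρ (P n x333)) 1 := by exact_mod_cast k2
  have k5 : 5 * f + finrank F W = ev (ρ (P n w11)) 1 + 5 * ev (ρ (P n c55)) 1 := by exact_mod_cast k3
  omega

/-- **the inequality for `A₆ × 5`** -/
theorem i6 (hn : 11 ≤ n) : 2 * ev (ρ (P n c5)) 1 + 4 * ev (ρ (P n c55)) 1 ≤ 5 * ev (ρ (P n x335)) 1 + finrank F W := by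
  have h1 := (le1 ρ hn cA6 cC6 (by decide) h16).trans (fr_two ρ _ _)
  have h2 := dimC hn cG25 cK25 (N := 25) (K := 3) rfl rfl (odd_ne F (by norm_num)) cn25 ρ
  simp only [Finset.sum_range_succ, Finset.sum_range_zero, List.getD_cons_zero, List.getD_cons_succ, P_nil] at h2
  rw [om_one, om_prime ρ Nat.prime_five (orderOf_P (l := c5) hn (by decide +kernel)),
    om_prime ρ Nat.prime_five (orderOf_P (l := c55) hn (by decide +kernel))] at h2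
  rw [show A6.gT = [c5, z5] from rfl, P_mul hn (c := x335) (by decide)] at h1
  generalize finrank F ↥(inv ρ (Tg n [c5, z5])) = f at h1 h2
  have k2 : (5 * f + finrank F W : ℚ) = 2 * ev (ρ (P n c5)) 1 + 4 * ev (ρ (P n c55)) 1 := by
    push_cast at h2
    linarith
  have k3 : 5 * f + finrank F W = 2 * ev (ρ (P n c5)) 1 + 4 * ev (ρ (P n c55)) 1 := by exact_mod_cast k2
  omega

/-- the fixed space of `3² × 5` -/
theorem f45 (hn : 11 ≤ n) : 3 * finrank F ↥(inv ρ (Tg n [x3, y3, z5])) + ev (ρ (P n c5)) 1 =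
    2 * ev (ρ (P n x15)) 1 + 2 * ev (ρ (P n x335)) 1 := by
  have h2 := dimC hn cG45 cK45 (N := 45) (K := 6) rfl rfl (odd_ne F (by norm_num)) cn45 ρ
  simp only [Finset.sum_range_succ, Finset.sum_range_zero, List.getD_cons_zero, List.getD_cons_succ, P_nil] at h2
  rw [om_one, om_prime ρ Nat.prime_three (orderOf_P (l := x3) hn (by decide +kernel)),
    om_prime ρ Nat.prime_three (orderOf_P (l := x33) hn (by decide +kernel)),
    om_prime ρ Nat.prime_five (orderOf_P (l := c5) hn (by decide +kernel)),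
    om_fifteen ρ (orderOf_P (l := x15) hn (by decide +kernel)), om_fifteen ρ (orderOf_P (l := x335) hn (by decide +kernel)),
    ← P_pwl hn (l := x15) (by decide), ← P_pwl hn (l := x15) (by decide), ← P_pwl hn (l := x335) (by decide),
    ← P_pwl hn (l := x335) (by decide),
    evP ρ hn (a := pwl x15 3) (r := c5) [(0, 7), (1, 5), (2, 3), (3, 6)] (by decide),
    evP ρ hn (a := pwl x15 5) (r := x3) [(0, 2), (3, 5)] (by decide),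
    evP ρ hn (a := pwl x335 3) (r := c5) [(0, 10), (1, 8), (2, 6), (3, 9), (4, 7), (7, 5)] (by decide),
    evP ρ hn (a := pwl x335 5) (r := x33) [(1, 2), (4, 5)] (by decide)] at h2
  generalize finrank F ↥(inv ρ (Tg n [x3, y3, z5])) = f at h2 ⊢
  have k2 : (3 * f + ev (ρ (P n c5)) 1 : ℚ) = 2 * ev (ρ (P n x15)) 1 + 2 * ev (ρ (P n x335)) 1 := by
    push_cast at h2
    linarith
  exact_mod_cast k2

end Cfsg.Agent.E8A.Two.Mk
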